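/-
An additive group containing the norm-one elements of a finite field with q² elements is everything.
-/
import Cfsg.Agent.Lib.Unitary.Circle

set_option autoImplicit false

namespace Cfsg.Agent.Phan

open Cfsg.Agent.Unitary

variable {F : Type*} [Field F] [Fintype F] {q : ℕ}

theorem circle_top (hF : Fintype.card F = q ^ 2) (K : AddSubgroup F)
    (hK : ∀ x : F, x ^ (q + 1) = 1 → x ∈ K) : K = ⊤ := by
  classical
  have hq := two_le_q hF
  let C : Finset F := Finset.univ.filter fun x => x ^ (q + 1) = 1
  have hC : C.card = q + 1 := by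
    rw [← card_norm_one hF, Nat.card_eq_fintype_card, Fintype.card_subtype]
  -- every sum of two circle elements comes from at most two ordered pairs
  let T : Finset (F × F) := (C ×ˢ C).filter fun p => p.1 + p.2 ≠ 0
  have hfib : ∀ w ∈ T.image (fun p => p.1 + p.2), (T.filter fun p => p.1 + p.2 = w).card ≤ 2 := by
    intro w hw
    obtain ⟨p0, hp0, rfl⟩ := Finset.mem_image.1 hw
    set w := p0.1 + p0.2 with hwdef
    have hw0 : w ≠ 0 := (Finset.mem_filter.1 hp0).2
    have hinj : Set.InjOn (Prod.fst : F × F → F) ↑(T.filter fun p => p.1 + p.2 = w) := by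
      intro a ha b hb e
      simp only [Finset.coe_filter, Set.mem_setOf_eq] at ha hb
      exact Prod.ext e (by linear_combination ha.2 - hb.2 - e)
    rw [← Finset.card_image_of_injOn hinj]
    refine card_roots_quad_le (a := w ^ q) (b := -(w ^ (q + 1))) (c := w)
      (pow_ne_zero _ hw0) _ fun x hx => ?_
    obtain ⟨p, hp, rfl⟩ := Finset.mem_image.1 hx
    obtain ⟨hpT, hpw⟩ := Finset.mem_filter.1 hp
    obtain ⟨hpC, -⟩ := Finset.mem_filter.1 hpT
    obtain ⟨hx1, hy1⟩ := Finset.mem_product.1 hpC
    have h1 : p.1 ^ (q + 1) = 1 := (Finset.mem_filter.1 hx1).2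
    have h2 : p.2 ^ (q + 1) = 1 := (Finset.mem_filter.1 hy1).2
    have hy : p.2 = w - p.1 := by linear_combination hpw
    rw [hy] at h2
    rw [pow_succ, sub_pow_q hF] at h2
    rw [pow_succ] at h1
    rw [pow_succ]
    linear_combination (-p.1) * h2 + (p.1 - w) * h1
  have hT := Finset.card_le_mul_card_image T 2 hfib
  have hTcard : (q + 1) * q ≤ T.card := by
    have hbad : ((C ×ˢ C).filter fun p => ¬ p.1 + p.2 ≠ 0).card ≤ C.card := by
      refine Finset.card_le_card_of_injOn (Prod.fst : F × F → F) (fun p hp => ?_) ?_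
      · exact (Finset.mem_product.1 (Finset.mem_filter.1 hp).1).1
      · intro a ha b hb e
        simp only [Finset.coe_filter, Set.mem_setOf_eq, not_not] at ha hb
        exact Prod.ext e (by linear_combination ha.2 - hb.2 - e)
    have hsum := Finset.card_filter_add_card_filter_not (s := C ×ˢ C) (fun p => p.1 + p.2 ≠ 0)
    rw [Finset.card_product, hC] at hsum
    rw [hC] at hbad
    simp only [T]
    nlinarith
  have hsub : (T.image fun p => p.1 + p.2) ⊆ (Finset.univ.filter fun x => x ∈ K) := by
    intro w hw
    obtain ⟨p, hp, rfl⟩ := Finset.mem_image.1 hw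
    obtain ⟨hx1, hy1⟩ := Finset.mem_product.1 (Finset.mem_filter.1 hp).1
    exact Finset.mem_filter.2 ⟨Finset.mem_univ _,
      K.add_mem (hK _ (Finset.mem_filter.1 hx1).2) (hK _ (Finset.mem_filter.1 hy1).2)⟩
  have hKc : (Finset.univ.filter fun x => x ∈ K).card = Nat.card K := by
    rw [Nat.card_eq_fintype_card, Fintype.card_subtype]
  have hle := Finset.card_le_card hsub
  have hidx := AddSubgroup.card_mul_index K
  rw [Nat.card_eq_fintype_card (α := F), hF] at hidx
  have h2 : K.index < 2 := by
    by_contra hge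
    push Not at hge
    have : 2 * Nat.card K ≤ q ^ 2 := by rw [← hidx, mul_comm]; gcongr
    rw [hKc] at hle
    nlinarith
  have : K.index = 1 := by
    have := AddSubgroup.index_ne_zero_of_finite (H := K)
    omega
  exact AddSubgroup.index_eq_one.1 this

end Cfsg.Agent.Phan
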