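/-
Unitary geometry used for the simple connectivity of the graph of orthogonal points.

* `exists_dual`, `exists_partner`: vectors with prescribed products.
* `exists_unit_perp_two`, `exists_unit_perp_three`, `exists_unit_perp_four`: unit vectors orthogonal
  to short lists.
* `exists_tau`, `exists_tau'`: elements of the fixed field.
-/
import Cfsg.Agent.Lib.Unitary.Generation
import Cfsg.Agent.Lib.Unitary.Commutator

set_option autoImplicit false

namespace Cfsg.Agent.Phan

open Cfsg.Agent.Unitary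

variable {F : Type*} [Field F] [Fintype F] {q d : ℕ} (hF : Fintype.card F = q ^ 2)

local notation "V" => (Fin d → F)
local notation "hm" => Cfsg.hermForm d F q

include hF

theorem hH : IsHerm q hm := hermForm_isHerm hF d

theorem hm_symm (x y : V) : hm y x = hm x y ^ q := (hH hF).conj_symm x y

theorem hm_symm0 {x y : V} (h : hm x y = 0) : hm y x = 0 := ((hH hF).eq_zero_symm hF).1 h

theorem norm_smul (c : F) (v : V) : hm (c • v) (c • v) = c ^ (q + 1) * hm v v := by
  rw [(hH hF).smul_left, (hH hF).smul_right, pow_succ]; ring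

/-- An anisotropic vector has a unit multiple. -/
theorem exists_scale {v : V} (hv : hm v v ≠ 0) :
    ∃ c : F, c ≠ 0 ∧ c ^ (q + 1) = (hm v v)⁻¹ ∧ hm (c • v) (c • v) = 1 := by
  obtain ⟨c, hc⟩ := exists_norm_eq hF (c := (hm v v)⁻¹) (by rw [inv_pow, (hH hF).self_fixed])
  refine ⟨c, fun e => ?_, hc, by rw [norm_smul hF, hc, inv_mul_cancel₀ hv]⟩
  rw [e, zero_pow (Nat.succ_ne_zero q)] at hc
  exact inv_ne_zero hv hc.symm

theorem exists_dual {r : V} {S : Submodule F V} (hr : r ∉ S) :
    ∃ w : V, hm w r = 1 ∧ ∀ s ∈ S, hm w s = 0 := by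
  obtain ⟨f, hf, hfS⟩ := Submodule.exists_dual_map_eq_bot_of_notMem hr inferInstance
  let g : V →ₗ[F] F := (f r)⁻¹ • f
  have hgr : g r = 1 := by simp [g, inv_mul_cancel₀ hf]
  have hgS : ∀ s ∈ S, g s = 0 := fun s hs => by
    have : f s ∈ S.map f := Submodule.mem_map_of_mem hs
    rw [hfS, Submodule.mem_bot] at this
    simp [g, this]
  refine ⟨fun i => g (Pi.single i 1) ^ q, ?_⟩
  have key : ∀ x : V, hm (fun i => g (Pi.single i 1) ^ q) x = g x ^ q := by
    intro x
    have e : g x = ∑ i, x i * g (Pi.single i 1) := by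
      conv_lhs => rw [pi_eq_sum_univ' x, map_sum]
      exact Finset.sum_congr rfl fun i _ => by rw [map_smul, smul_eq_mul]
    rw [e, sum_pow_q hF]
    exact Finset.sum_congr rfl fun i _ => by rw [mul_pow]; ring
  exact ⟨by rw [key, hgr, one_pow], fun s hs => by rw [key, hgS s hs, zero_pow_q hF]⟩

/-- An isotropic vector orthogonal to `S` and outside its span has a partner of any norm. -/
theorem exists_partner {r : V} {S : Set V} (hr : hm r r = 0) (hS : ∀ s ∈ S, hm r s = 0)
    (hout : r ∉ Submodule.span F S) {τ : F} (hτ : τ ^ q = τ) :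
    ∃ w : V, (∀ s ∈ S, hm w s = 0) ∧ hm w r = 1 ∧ hm r w = 1 ∧ hm w w = τ := by
  have H := hH (d := d) hF
  obtain ⟨w₁, hw₁r, hw₁S⟩ := exists_dual hF hout
  have hrw₁ : hm r w₁ = 1 := by rw [hm_symm hF w₁ r, hw₁r, one_pow]
  obtain ⟨β, hβ⟩ := exists_trace_eq hF (c := τ - hm w₁ w₁)
    (by rw [sub_pow_q hF, hτ, H.self_fixed])
  refine ⟨w₁ + β • r, fun s hs => ?_, ?_, ?_, ?_⟩
  · rw [H.add_left, H.smul_left, hw₁S s (Submodule.subset_span hs), hS s hs, mul_zero, add_zero]
  · rw [H.add_left, H.smul_left, hw₁r, hr, mul_zero, add_zero]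
  · rw [H.add_right hF, H.smul_right, hrw₁, hr, mul_zero, add_zero]
  · rw [H.add_left, H.add_right hF, H.add_right hF, H.smul_left, H.smul_left, H.smul_right,
      H.smul_right, hr, hrw₁, hw₁r]
    linear_combination hβ

/-- A vector orthogonal to `S` and outside its span gives a unit vector orthogonal to `S`. -/
theorem exists_unit_of_out {v : V} {S : Set V} (hS : ∀ s ∈ S, hm v s = 0)
    (hout : v ∉ Submodule.span F S) : ∃ z : V, hm z z = 1 ∧ ∀ s ∈ S, hm z s = 0 := by
  by_cases hv : hm v v = 0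
  · obtain ⟨w, hw, -, -, hww⟩ := exists_partner hF hv hS hout (one_pow q)
    exact ⟨w, hww, hw⟩
  · obtain ⟨c, -, -, hc⟩ := exists_scale hF hv
    exact ⟨c • v, hc, fun s hs => by rw [(hH hF).smul_left, hS s hs, mul_zero]⟩

omit hF in
/-- The linear map taking the products with finitely many vectors. -/
def prodMap (hF : Fintype.card F = q ^ 2) {k : ℕ} (s : Fin k → V) : V →ₗ[F] (Fin k → F) where
  toFun v i := hm v (s i)
  map_add' v w := funext fun i => (hH hF).add_left v w (s i)
  map_smul' c v := funext fun i => (hH hF).smul_left c v (s i)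

/-- The vectors orthogonal to `k` vectors do not all lie in a space of dimension `< d - k`. -/
theorem exists_perp_notMem {k : ℕ} (s : Fin k → V) (W : Submodule F V)
    (hW : Module.finrank F W + k < d) : ∃ v : V, (∀ i, hm v (s i) = 0) ∧ v ∉ W := by
  by_contra hcon
  push Not at hcon
  have hle : LinearMap.ker (prodMap hF s) ≤ W := fun v hv =>
    hcon v fun i => congrFun (LinearMap.mem_ker.1 hv) i
  have h1 := LinearMap.finrank_range_add_finrank_ker (prodMap hF s)
  have h2 := Submodule.finrank_mono hle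
  have h3 := Submodule.finrank_le (LinearMap.range (prodMap hF s))
  rw [Module.finrank_fin_fun] at h1 h3
  omega

theorem finrank_singleton_le (v : V) : Module.finrank F (Submodule.span F {v}) ≤ 1 := by
  by_cases hv : v = 0
  · rw [hv, Submodule.span_zero_singleton, finrank_bot]; omega
  · rw [finrank_span_singleton hv]

theorem exists_unit_perp_one (hd : 2 ≤ d) {a : V} (ha : hm a a = 1) :
    ∃ z : V, hm z z = 1 ∧ hm z a = 0 := by
  have H := hH (d := d) hF
  obtain ⟨v, hv, hv0⟩ := exists_perp_notMem hF ![a] ⊥ (by rw [finrank_bot]; omega)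
  have hva : hm v a = 0 := hv 0
  have hout : v ∉ Submodule.span F ({a} : Set V) := fun hm' => by
    obtain ⟨α, rfl⟩ := Submodule.mem_span_singleton.1 hm'
    rw [H.smul_left, ha, mul_one] at hva
    exact hv0 (by rw [hva, zero_smul]; exact zero_mem _)
  obtain ⟨z, hz, hzS⟩ := exists_unit_of_out hF (S := {a}) (by simpa using hva) hout
  exact ⟨z, hz, hzS a rfl⟩

theorem exists_unit_perp_two (hd : 4 ≤ d) {a : V} (ha : hm a a = 1) (x : V) :
    ∃ z : V, hm z z = 1 ∧ hm z a = 0 ∧ hm z x = 0 := by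
  have H := hH (d := d) hF
  obtain ⟨v, hv, hv0⟩ := exists_perp_notMem hF ![a, x] (Submodule.span F {x - hm x a • a})
    (by have := finrank_singleton_le hF (x - hm x a • a); omega)
  have hva : hm v a = 0 := hv 0
  have hvx : hm v x = 0 := hv 1
  have hout : v ∉ Submodule.span F ({a, x} : Set V) := fun hm' => by
    obtain ⟨α, β, rfl⟩ := Submodule.mem_span_pair.1 hm'
    rw [H.add_left, H.smul_left, H.smul_left, ha, mul_one] at hva
    refine hv0 (Submodule.mem_span_singleton.2 ⟨β, ?_⟩)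
    rw [eq_neg_of_add_eq_zero_left hva]; module
  obtain ⟨z, hz, hzS⟩ := exists_unit_of_out hF (S := {a, x}) (by
    rintro s (rfl | rfl) <;> assumption) hout
  exact ⟨z, hz, hzS a (by simp), hzS x (by simp)⟩

theorem exists_unit_perp_three (hd : 5 ≤ d) {a b : V} (ha : hm a a = 1) (hb : hm b b = 1)
    (hab : hm a b = 0) (c : V) :
    ∃ z : V, hm z z = 1 ∧ hm z a = 0 ∧ hm z b = 0 ∧ hm z c = 0 := by
  have H := hH (d := d) hF
  obtain ⟨v, hv, hv0⟩ := exists_perp_notMem hF ![a, b, c]
    (Submodule.span F {c - hm c a • a - hm c b • b})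
    (by have := finrank_singleton_le hF (c - hm c a • a - hm c b • b); omega)
  have hva : hm v a = 0 := hv 0
  have hvb : hm v b = 0 := hv 1
  have hvc : hm v c = 0 := hv 2
  have hout : v ∉ Submodule.span F ({a, b, c} : Set V) := fun hm' => by
    obtain ⟨α, β, γ, rfl⟩ := Submodule.mem_span_triple.1 hm'
    rw [H.add_left, H.add_left, H.smul_left, H.smul_left, H.smul_left, ha, hm_symm0 hF hab] at hva
    rw [H.add_left, H.add_left, H.smul_left, H.smul_left, H.smul_left, hb, hab] at hvb
    refine hv0 (Submodule.mem_span_singleton.2 ⟨γ, ?_⟩)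
    have e1 : α = -(γ * hm c a) := by linear_combination hva
    have e2 : β = -(γ * hm c b) := by linear_combination hvb
    rw [e1, e2]; module
  obtain ⟨z, hz, hzS⟩ := exists_unit_of_out hF (S := {a, b, c}) (by
    rintro s (rfl | rfl | rfl) <;> assumption) hout
  exact ⟨z, hz, hzS a (by simp), hzS b (by simp), hzS c (by simp)⟩

/-- Four vectors spanning a nondegenerate space: a hyperbolic or definite pair and two orthogonal ones. -/
theorem exists_unit_perp_four (hd : 5 ≤ d) {a x b c : V} (ha : hm a a = 1) (hx : hm x x = 1)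
    (hb : hm b b = 1) (hc : hm c c = 1) (hax : hm a x ^ (q + 1) ≠ 1) (hab : hm a b = 0)
    (hxb : hm x b = 0) (hac : hm a c = 0) (hxc : hm x c = 0) (hbc : hm b c = 0) :
    ∃ z : V, hm z z = 1 ∧ hm z a = 0 ∧ hm z x = 0 ∧ hm z b = 0 ∧ hm z c = 0 := by
  have H := hH (d := d) hF
  obtain ⟨v, hv, hv0⟩ := exists_perp_notMem hF ![a, x, b, c] ⊥ (by rw [finrank_bot]; omega)
  have hva : hm v a = 0 := hv 0
  have hvx : hm v x = 0 := hv 1
  have hvb : hm v b = 0 := hv 2
  have hvc : hm v c = 0 := hv 3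
  have hout : v ∉ Submodule.span F ({a, x, b, c} : Set V) := fun hm' => by
    obtain ⟨α, w, hw, e⟩ := Submodule.mem_span_insert.1 hm'
    obtain ⟨β, γ, δ, ew⟩ := Submodule.mem_span_triple.1 hw
    rw [e, ← ew] at hva hvx hvb hvc hv0
    simp only [H.add_left, H.smul_left, ha, hx, hb, hc, hab, hxb, hac, hxc, hbc, hm_symm0 hF hab,
      hm_symm0 hF hxb, hm_symm0 hF hac, hm_symm0 hF hxc, hm_symm0 hF hbc, mul_zero, mul_one,
      add_zero, zero_add] at hva hvx hvb hvc
    have hxa : hm x a = hm a x ^ q := hm_symm hF a x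
    have h1 : α * (1 - hm a x ^ (q + 1)) = 0 := by
      rw [hxa] at hva
      linear_combination hva - hm a x ^ q * hvx
    have hα : α = 0 := (mul_eq_zero.1 h1).resolve_right (sub_ne_zero.2 (Ne.symm hax))
    have hβ : β = 0 := by rw [hα] at hvx; linear_combination hvx
    exact hv0 (by rw [hα, hβ, hvb, hvc]; simp)
  obtain ⟨z, hz, hzS⟩ := exists_unit_of_out hF (S := {a, x, b, c}) (by
    rintro s (rfl | rfl | rfl | rfl) <;> assumption) hout
  exact ⟨z, hz, hzS a (by simp), hzS x (by simp), hzS b (by simp), hzS c (by simp)⟩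

omit hF in
theorem exists_tau (hF : Fintype.card F = q ^ 2) (hq : 3 ≤ q) :
    ∃ τ : F, τ ^ q = τ ∧ τ ≠ 0 ∧ τ ≠ 1 := by
  obtain ⟨τ, h⟩ := exists_fixed_ne_zero_one hF hq
  exact ⟨τ, h⟩

omit hF in
theorem exists_tau' (hF : Fintype.card F = q ^ 2) (hq : 4 ≤ q) :
    ∃ τ : F, τ ^ q = τ ∧ τ ≠ 0 ∧ τ ≠ 1 ∧ 2 * τ ≠ 1 := by
  classical
  by_contra hcon
  push Not at hcon
  have hsub : {x : F | x ^ q = x} ⊆ ({0, 1, (2 : F)⁻¹} : Set F) := by
    intro x hx
    by_contra hx'
    simp only [Set.mem_insert_iff, Set.mem_singleton_iff, not_or] at hx'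
    exact hx'.2.2 (eq_inv_of_mul_eq_one_right (hcon x hx hx'.1 hx'.2.1))
  have h1 := Set.ncard_le_ncard hsub (Set.toFinite _)
  have h2 : ({0, 1, (2 : F)⁻¹} : Set F).ncard ≤ 3 :=
    (Set.ncard_insert_le _ _).trans (Nat.succ_le_succ ((Set.ncard_insert_le _ _).trans
      (by rw [Set.ncard_singleton])))
  have h3 : {x : F | x ^ q = x}.ncard = q := by
    rw [← Nat.card_coe_set_eq]; exact card_fixed hF
  omega

end Cfsg.Agent.Phan
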