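/-
Simple connectivity of the graph of orthogonal unit points of a unitary space.

* `Cov`: a set lying over the points with unique lifting of edges and lifting of triangles.
* `Cov.well_five`: lifts along paths of length two agree, dimension ≥ 5, q ≥ 3.
* `Cov.eq_of_over`: if moreover they agree in every case then a connected cover is injective.
-/
import Cfsg.Agent.Lib.Phan.Geom

set_option autoImplicit false

namespace Cfsg.Agent.Phan

open Cfsg.Agent.Unitary

/-- A cover of the graph of orthogonal unit points of the unitary space of dimension `d`. -/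
structure Cov (d : ℕ) (F : Type*) [Field F] (q : ℕ) (Q : Type*) where
  Adj : Q → Q → Prop
  Over : Q → (Fin d → F) → Prop
  exists_over : ∀ A, ∃ v, Over A v
  unit : ∀ {A v}, Over A v → Cfsg.hermForm d F q v v = 1
  over_smul : ∀ {A v} (c : F), Over A v → c ^ (q + 1) = 1 → Over A (c • v)
  over_uniq : ∀ {A v w}, Over A v → Over A w → ∃ c : F, c ^ (q + 1) = 1 ∧ w = c • v
  symm : ∀ {A B}, Adj A B → Adj B A
  orth : ∀ {A B v w}, Adj A B → Over A v → Over B w → Cfsg.hermForm d F q v w = 0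
  lift : ∀ {A v} (w : Fin d → F), Over A v → Cfsg.hermForm d F q w w = 1 →
    Cfsg.hermForm d F q v w = 0 → ∃ B, Adj A B ∧ Over B w
  lift_uniq : ∀ {A B B' w}, Adj A B → Adj A B' → Over B w → Over B' w → B = B'
  tri : ∀ {A B C v w}, Adj A B → Adj A C → Over B v → Over C w → Cfsg.hermForm d F q v w = 0 → Adj B C

namespace Cov

variable {F : Type*} [Field F] [Fintype F] {q d : ℕ} {Q : Type*} (𝒞 : Cov d F q Q)

local notation "V" => (Fin d → F)
local notation "hm" => Cfsg.hermForm d F q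

/-- `X` lies over `x` and is reached from `A` by a path through a point over `b`. -/
def Path2 (A : Q) (b x : V) (X : Q) : Prop :=
  ∃ B, 𝒞.Adj A B ∧ 𝒞.Over B b ∧ 𝒞.Adj B X ∧ 𝒞.Over X x

/-- All lifts at `x` along paths of length two from `A` agree. -/
def Well (A : Q) (a x : V) : Prop :=
  ∀ b b' X X', hm b a = 0 → hm b x = 0 → hm b' a = 0 → hm b' x = 0 →
    𝒞.Path2 A b x X → 𝒞.Path2 A b' x X' → X = X'

variable (hF : Fintype.card F = q ^ 2)
include hF

theorem path2_exists {A : Q} {a b x : V} (hA : 𝒞.Over A a) (hb : hm b b = 1) (hx : hm x x = 1)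
    (hba : hm b a = 0) (hbx : hm b x = 0) : ∃ X, 𝒞.Path2 A b x X := by
  obtain ⟨B, hB, hBb⟩ := 𝒞.lift b hA hb (hm_symm0 hF hba)
  obtain ⟨X, hX, hXx⟩ := 𝒞.lift x hBb hx hbx
  exact ⟨X, B, hB, hBb, hX, hXx⟩

theorem path2_orth {A : Q} {a b x : V} {X : Q} (hA : 𝒞.Over A a) (h : 𝒞.Path2 A b x X) :
    hm b b = 1 ∧ hm x x = 1 ∧ hm b a = 0 ∧ hm b x = 0 := by
  obtain ⟨B, hB, hBb, hX, hXx⟩ := h
  exact ⟨𝒞.unit hBb, 𝒞.unit hXx, hm_symm0 hF (𝒞.orth hB hA hBb), 𝒞.orth hX hBb hXx⟩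

omit [Fintype F] hF in
theorem path2_uniq {A : Q} {b x : V} {X X' : Q} (h : 𝒞.Path2 A b x X) (h' : 𝒞.Path2 A b x X') :
    X = X' := by
  obtain ⟨B, hB, hBb, hX, hXx⟩ := h
  obtain ⟨B', hB', hB'b, hX', hX'x⟩ := h'
  obtain rfl := 𝒞.lift_uniq hB hB' hBb hB'b
  exact 𝒞.lift_uniq hX hX' hXx hX'x

omit [Fintype F] hF in
/-- Changing the middle vector by a scalar. -/
theorem path2_smul {A : Q} {b x : V} {X : Q} {c : F} (hc : c ^ (q + 1) = 1) (h : 𝒞.Path2 A b x X) :
    𝒞.Path2 A (c • b) x X := by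
  obtain ⟨B, hB, hBb, hX, hXx⟩ := h
  exact ⟨B, hB, 𝒞.over_smul c hBb hc, hX, hXx⟩

/-- A common neighbour of the middle vectors. -/
theorem cone {A : Q} {a b x z : V} {X : Q} (hA : 𝒞.Over A a) (hz : hm z z = 1) (hza : hm z a = 0)
    (hzb : hm z b = 0) (hzx : hm z x = 0) (h : 𝒞.Path2 A b x X) : 𝒞.Path2 A z x X := by
  obtain ⟨B, hB, hBb, hX, hXx⟩ := h
  obtain ⟨Z, hZ, hZz⟩ := 𝒞.lift z hA hz (hm_symm0 hF hza)
  have hBZ : 𝒞.Adj B Z := 𝒞.tri hB hZ hBb hZz (hm_symm0 hF hzb)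
  exact ⟨Z, hZ, hZz, 𝒞.tri hBZ hX hZz hXx hzx, hXx⟩

/-- Replacing the start by a common neighbour of the start and the middle. -/
theorem detour {A : Q} {a b x u : V} {X U : Q} (hU : 𝒞.Adj A U) (hUu : 𝒞.Over U u)
    (hub : hm u b = 0) (h : 𝒞.Path2 A b x X) : 𝒞.Path2 U b x X := by
  obtain ⟨B, hB, hBb, hX, hXx⟩ := h
  exact ⟨B, 𝒞.tri hU hB hUu hBb hub, hBb, hX, hXx⟩

/-- A point over a multiple of the start. -/
theorem well_par {A : Q} {a x : V} {c : F} (hA : 𝒞.Over A a) (hx : x = c • a) (hxx : hm x x = 1) :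
    𝒞.Well A a x := by
  intro b b' X X' _ _ _ _ h h'
  have hc : c ^ (q + 1) = 1 := by
    rw [hx, norm_smul hF, 𝒞.unit hA, mul_one] at hxx; exact hxx
  have hAx : 𝒞.Over A x := hx ▸ 𝒞.over_smul c hA hc
  have key : ∀ {b : V} {X : Q}, 𝒞.Path2 A b x X → X = A := fun {b X} h => by
    obtain ⟨B, hB, hBb, hX, hXx⟩ := h
    exact 𝒞.lift_uniq hX (𝒞.symm hB) hXx hAx
  rw [key h, key h']

section Five

variable (hd : 5 ≤ d)
include hd

theorem well_five_step {A : Q} {a b b' x : V} {X X' : Q} (hA : 𝒞.Over A a)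
    (hax : hm a x ^ (q + 1) ≠ 1) (hb' : (hm b' b) ^ (q + 1) ≠ 1 ∨ b' = hm b' b • b)
    (h : 𝒞.Path2 A b x X) (h' : 𝒞.Path2 A b' x X') : X = X' := by
  have H := hH (d := d) hF
  obtain ⟨hb, hx, hba, hbx⟩ := 𝒞.path2_orth hF hA h
  obtain ⟨hb1, -, hb'a, hb'x⟩ := 𝒞.path2_orth hF hA h'
  rcases hb' with hb' | hb'
  · set β := hm b' b with hβ
    set g := b' - β • b with hg
    have hga : hm g a = 0 := by rw [hg, H.sub_left, H.smul_left, hb'a, hba, mul_zero, sub_zero]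
    have hgx : hm g x = 0 := by rw [hg, H.sub_left, H.smul_left, hb'x, hbx, mul_zero, sub_zero]
    have hgb : hm g b = 0 := by rw [hg, H.sub_left, H.smul_left, hb, mul_one, sub_self]
    have hgg : hm g g = 1 - β ^ (q + 1) := by
      have h1 : hm g g = hm g b' := by
        conv_lhs => arg 5; rw [hg]
        rw [H.sub_right hF, H.smul_right, hgb, mul_zero, sub_zero]
      rw [h1, hg, H.sub_left, H.smul_left, hb1, hm_symm hF b' b, ← hβ, ← pow_succ']
    obtain ⟨c, -, -, hu⟩ := exists_scale hF (v := g) (by rw [hgg]; exact sub_ne_zero.2 (Ne.symm hb'))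
    obtain ⟨z, hz, hza, hzx, hzb, hzu⟩ := exists_unit_perp_four hF hd (𝒞.unit hA) hx hb hu hax
      (hm_symm0 hF hba) (hm_symm0 hF hbx)
      (hm_symm0 hF (by rw [H.smul_left, hga, mul_zero]))
      (hm_symm0 hF (by rw [H.smul_left, hgx, mul_zero]))
      (hm_symm0 hF (by rw [H.smul_left, hgb, mul_zero]))
    have hzg : hm z g = 0 := by
      rw [H.smul_right] at hzu
      refine (mul_eq_zero.1 hzu).resolve_left (pow_ne_zero _ ?_)
      rintro rfl
      rw [zero_smul, H.zero_left] at hu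
      exact zero_ne_one hu
    have hzb' : hm z b' = 0 := by
      rw [hg, H.sub_right hF, H.smul_right, hzb, mul_zero, sub_zero] at hzg; exact hzg
    exact 𝒞.path2_uniq (𝒞.cone hF hA hz hza hzb hzx h) (𝒞.cone hF hA hz hza hzb' hzx h')
  · have hc : hm b' b ^ (q + 1) = 1 := by
      rw [hb', norm_smul hF, hb, mul_one] at hb1; exact hb1
    rw [hb'] at h'
    exact 𝒞.path2_uniq (𝒞.path2_smul hc h) h'

theorem well_five_nd (hq : 3 ≤ q) {A : Q} {a x : V} (hA : 𝒞.Over A a)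
    (hax : hm a x ^ (q + 1) ≠ 1) : 𝒞.Well A a x := by
  intro b b' X X' _ _ _ _ h h'
  have H := hH (d := d) hF
  obtain ⟨hb, hx, hba, hbx⟩ := 𝒞.path2_orth hF hA h
  obtain ⟨hb1, -, hb'a, hb'x⟩ := 𝒞.path2_orth hF hA h'
  by_cases hb' : hm b' b ^ (q + 1) ≠ 1 ∨ b' = hm b' b • b
  · exact 𝒞.well_five_step hF hd hA hax hb' h h'
  rw [not_or, not_not] at hb'
  set β := hm b' b with hβ
  set g := b' - β • b with hg
  have hga : hm g a = 0 := by rw [hg, H.sub_left, H.smul_left, hb'a, hba, mul_zero, sub_zero]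
  have hgx : hm g x = 0 := by rw [hg, H.sub_left, H.smul_left, hb'x, hbx, mul_zero, sub_zero]
  have hgb : hm g b = 0 := by rw [hg, H.sub_left, H.smul_left, hb, mul_one, sub_self]
  have hgg : hm g g = 0 := by
    have h1 : hm g g = hm g b' := by
      conv_lhs => arg 5; rw [hg]
      rw [H.sub_right hF, H.smul_right, hgb, mul_zero, sub_zero]
    rw [h1, hg, H.sub_left, H.smul_left, hb1, hm_symm hF b' b, ← hβ, ← pow_succ', hb'.1, sub_self]
  have hout : g ∉ Submodule.span F ({a, x, b} : Set V) := fun hm' => by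
    obtain ⟨r, s, t, e⟩ := Submodule.mem_span_triple.1 hm'
    have hg0 : g ≠ 0 := fun e0 => hb'.2 (sub_eq_zero.1 (hg ▸ e0))
    rw [← e] at hga hgx hgb
    simp only [H.add_left, H.smul_left, 𝒞.unit hA, hx, hb, hba, hbx, hm_symm0 hF hba,
      hm_symm0 hF hbx, mul_zero, mul_one, add_zero, zero_add] at hga hgx hgb
    have hxa : hm x a = hm a x ^ q := hm_symm hF a x
    have hr : r = 0 := by
      have h1 : r * (1 - hm a x ^ (q + 1)) = 0 := by
        rw [hxa] at hga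
        linear_combination hga - hm a x ^ q * hgx
      exact (mul_eq_zero.1 h1).resolve_right (sub_ne_zero.2 (Ne.symm hax))
    have hs : s = 0 := by rw [hr] at hgx; linear_combination hgx
    exact hg0 (by rw [← e, hr, hs, hgb]; simp)
  obtain ⟨τ, hτ, hτ0, hτ1⟩ := exists_tau hF hq
  obtain ⟨w, hw, hwg, -, hww⟩ := exists_partner hF hgg (S := {a, x, b}) (by
    rintro s (rfl | rfl | rfl) <;> assumption) hout hτ
  obtain ⟨c, hc0, hc, hv⟩ := exists_scale hF (v := w) (hww.symm ▸ hτ0)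
  have hva : hm (c • w) a = 0 := by rw [H.smul_left, hw a (by simp), mul_zero]
  have hvx : hm (c • w) x = 0 := by rw [H.smul_left, hw x (by simp), mul_zero]
  have hvb : hm (c • w) b = 0 := by rw [H.smul_left, hw b (by simp), mul_zero]
  have hvb' : hm (c • w) b' = c := by
    rw [show b' = g + β • b by rw [hg]; abel, H.add_right hF, H.smul_right, hvb, mul_zero, add_zero,
      H.smul_left, hwg, mul_one]
  refine 𝒞.well_five_step hF hd hA hax (Or.inl ?_) (𝒞.cone hF hA hv hva hvb hvx h) h'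
  rw [hm_symm hF (c • w) b', hvb', ← pow_mul, mul_comm, pow_mul, hc, hww, inv_pow, hτ]
  exact fun e => hτ1 (inv_eq_one.1 e)

/-- In dimension at least five lifts along paths of length two agree. -/
theorem well_five (hq : 3 ≤ q) {A : Q} {a x : V} (hA : 𝒞.Over A a) (hxx : hm x x = 1) :
    𝒞.Well A a x := by
  intro b b' X X' _ _ _ _ h h'
  have H := hH (d := d) hF
  by_cases hax : hm a x ^ (q + 1) ≠ 1
  · obtain ⟨-, -, h1, h2⟩ := 𝒞.path2_orth hF hA h
    obtain ⟨-, -, h3, h4⟩ := 𝒞.path2_orth hF hA h'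
    exact 𝒞.well_five_nd hF hd hq hA hax b b' X X' h1 h2 h3 h4 h h'
  rw [not_not] at hax
  obtain ⟨hb, -, hba, hbx⟩ := 𝒞.path2_orth hF hA h
  obtain ⟨hb1, -, hb'a, hb'x⟩ := 𝒞.path2_orth hF hA h'
  have ha := 𝒞.unit hA
  set l := hm x a with hl
  set r := x - l • a with hr
  have hra : hm r a = 0 := by rw [hr, H.sub_left, H.smul_left, ha, mul_one, sub_self]
  have hrb : ∀ y : V, hm y a = 0 → hm y x = 0 → hm r y = 0 := fun y h1 h2 => by
    rw [hr, H.sub_left, H.smul_left, hm_symm0 hF h1, hm_symm0 hF h2, mul_zero, sub_zero]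
  have hrr : hm r r = 0 := by
    have h1 : hm r r = hm r x := by
      conv_lhs => arg 5; rw [hr]
      rw [H.sub_right hF, H.smul_right, hra, mul_zero, sub_zero]
    rw [h1, hr, H.sub_left, H.smul_left, hxx]
    rw [show l * hm a x = hm a x ^ (q + 1) by rw [hl, hm_symm hF a x, pow_succ], hax, sub_self]
  by_cases hout : r ∈ Submodule.span F ({a, b, b'} : Set V)
  · obtain ⟨z, hz, hza, hzb, hzb'⟩ := exists_unit_perp_three hF hd ha hb (hm_symm0 hF hba) b'
    have hzr : hm z r = 0 := by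
      obtain ⟨s, t, u, e⟩ := Submodule.mem_span_triple.1 hout
      rw [← e, H.add_right hF, H.add_right hF, H.smul_right, H.smul_right, H.smul_right, hza, hzb,
        hzb']
      ring
    have hzx : hm z x = 0 := by
      rw [hr, H.sub_right hF, H.smul_right, hza, mul_zero, sub_zero] at hzr; exact hzr
    exact 𝒞.path2_uniq (𝒞.cone hF hA hz hza hzb hzx h) (𝒞.cone hF hA hz hza hzb' hzx h')
  · obtain ⟨τ, hτ, hτ0, hτ1⟩ := exists_tau hF hq
    obtain ⟨w, hw, hwr, -, hww⟩ := exists_partner hF hrr (S := {a, b, b'}) (by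
      rintro s (rfl | rfl | rfl)
      · exact hra
      · exact hrb _ hba hbx
      · exact hrb _ hb'a hb'x) hout hτ
    obtain ⟨c, hc0, hc, hu⟩ := exists_scale hF (v := w) (hww.symm ▸ hτ0)
    have hua : hm (c • w) a = 0 := by rw [H.smul_left, hw a (by simp), mul_zero]
    have hub : hm (c • w) b = 0 := by rw [H.smul_left, hw b (by simp), mul_zero]
    have hub' : hm (c • w) b' = 0 := by rw [H.smul_left, hw b' (by simp), mul_zero]
    have hux : hm (c • w) x = c := by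
      rw [show x = r + l • a by rw [hr]; abel, H.add_right hF, H.smul_right, hua, mul_zero, add_zero,
        H.smul_left, hwr, mul_one]
    obtain ⟨U, hU, hUu⟩ := 𝒞.lift (c • w) hA hu (hm_symm0 hF hua)
    refine 𝒞.well_five_nd hF hd hq hUu ?_ b b' X X' (hm_symm0 hF hub) hbx (hm_symm0 hF hub') hb'x
      (𝒞.detour hF (a := a) hU hUu hub h) (𝒞.detour hF (a := a) hU hUu hub' h')
    rw [hux, hc, hww]
    exact fun e => hτ1 (inv_eq_one.1 e)

end Five

/-- A connected cover in which lifts along paths of length two agree is injective. -/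
theorem eq_of_over (hd : 4 ≤ d) (hwell : ∀ A a x, 𝒞.Over A a → hm x x = 1 → 𝒞.Well A a x)
    {A B : Q} (hconn : ∀ R : Set Q, A ∈ R → (∀ X Y, X ∈ R → 𝒞.Adj X Y → Y ∈ R) → B ∈ R)
    {a : V} (hA : 𝒞.Over A a) (hB : 𝒞.Over B a) : A = B := by
  have H := hH (d := d) hF
  have ha := 𝒞.unit hA
  -- agreement for arbitrary middle vectors
  have wd : ∀ {A' : Q} {a' b b' x : V} {X X' : Q}, 𝒞.Over A' a' → 𝒞.Path2 A' b x X →
      𝒞.Path2 A' b' x X' → X = X' := fun {A' a' b b' x X X'} hA' h h' => by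
    obtain ⟨-, hx, h1, h2⟩ := 𝒞.path2_orth hF hA' h
    obtain ⟨-, -, h3, h4⟩ := 𝒞.path2_orth hF hA' h'
    exact hwell A' a' x hA' hx b b' X X' h1 h2 h3 h4 h h'
  -- a neighbour of A is also two steps away
  have nb : ∀ {Y : Q} {y : V}, 𝒞.Adj A Y → 𝒞.Over Y y → ∃ z, 𝒞.Path2 A z y Y := fun {Y y} hY hYy => by
    obtain ⟨z, hz, hza, hzy⟩ := exists_unit_perp_two hF hd ha y
    obtain ⟨Z, hZ, hZz⟩ := 𝒞.lift z hA hz (hm_symm0 hF hza)
    exact ⟨z, Z, hZ, hZz, 𝒞.tri hZ hY hZz hYy hzy, hYy⟩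
  let R : Set Q := {X | ∃ y b, 𝒞.Path2 A b y X}
  have hAR : A ∈ R := by
    obtain ⟨b, hb, hba⟩ := exists_unit_perp_one hF (by omega) ha
    obtain ⟨B', hB', hB'b⟩ := 𝒞.lift b hA hb (hm_symm0 hF hba)
    exact ⟨a, b, B', hB', hB'b, 𝒞.symm hB', hA⟩
  have hcl : ∀ X Y, X ∈ R → 𝒞.Adj X Y → Y ∈ R := by
    rintro X Y ⟨x, b, h⟩ hXY
    obtain ⟨y, hYy⟩ := 𝒞.exists_over Y
    have hXx : 𝒞.Over X x := h.choose_spec.2.2.2
    have hx := 𝒞.unit hXx
    have hy := 𝒞.unit hYy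
    have hxy : hm x y = 0 := 𝒞.orth hXY hXx hYy
    refine ⟨y, ?_⟩
    -- through a common neighbour
    have viaZ : ∀ z, hm z z = 1 → hm z a = 0 → hm z x = 0 → hm z y = 0 →
        ∃ b, 𝒞.Path2 A b y Y := by
      intro z hz hza hzx hzy
      obtain ⟨X', hX'⟩ := 𝒞.path2_exists hF hA hz hx hza hzx
      obtain rfl := wd hA h hX'
      obtain ⟨Z, hZ, hZz, hZX, -⟩ := hX'
      exact ⟨z, Z, hZ, hZz, 𝒞.symm (𝒞.tri hXY (𝒞.symm hZX) hYy hZz (hm_symm0 hF hzy)), hYy⟩
    by_cases hay : hm a y = 0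
    · obtain ⟨Y', hY', hY'y⟩ := 𝒞.lift y hA hy hay
      obtain ⟨X', hX', hX'x⟩ := 𝒞.lift x hY'y hx (hm_symm0 hF hxy)
      obtain rfl := wd hA h (⟨Y', hY', hY'y, hX', hX'x⟩ : 𝒞.Path2 A y x X')
      obtain rfl := 𝒞.lift_uniq hXY (𝒞.symm hX') hYy hY'y
      exact nb hY' hY'y
    by_cases hax : hm a x = 0
    · obtain ⟨N, hN, hNx⟩ := 𝒞.lift x hA hx hax
      obtain ⟨z, hz⟩ := nb hN hNx
      obtain rfl := wd hA h hz
      exact ⟨x, X, hN, hXx, hXY, hYy⟩
    rcases Nat.lt_or_ge d 5 with h5 | h5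
    swap
    · obtain ⟨z, hz, hzx, hzy, hza⟩ := exists_unit_perp_three hF h5 hx hy hxy a
      exact viaZ z hz hza hzx hzy
    obtain ⟨r, hr, hr0⟩ := exists_perp_notMem hF ![x, y, a] ⊥ (by rw [finrank_bot]; omega)
    have hrx : hm r x = 0 := hr 0
    have hry : hm r y = 0 := hr 1
    have hra : hm r a = 0 := hr 2
    by_cases hrr : hm r r = 0
    swap
    · obtain ⟨c, -, -, hc⟩ := exists_scale hF hrr
      exact viaZ _ hc (by rw [H.smul_left, hra, mul_zero]) (by rw [H.smul_left, hrx, mul_zero])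
        (by rw [H.smul_left, hry, mul_zero])
    have hout : r ∉ Submodule.span F ({x, y} : Set V) := fun hm' => by
      obtain ⟨s, t, e⟩ := Submodule.mem_span_pair.1 hm'
      rw [← e] at hrx hry hr0
      simp only [H.add_left, H.smul_left, hx, hy, hxy, hm_symm0 hF hxy, mul_zero, mul_one, add_zero,
        zero_add] at hrx hry
      exact hr0 (by rw [hrx, hry]; simp)
    obtain ⟨s, hsS, hsr, hrs, hss⟩ := exists_partner hF hrr (S := {x, y}) (by
      rintro t (rfl | rfl) <;> assumption) hout (zero_pow_q hF)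
    have hsx : hm s x = 0 := hsS x (by simp)
    have hsy : hm s y = 0 := hsS y (by simp)
    by_cases hsa : hm s a = 0
    · obtain ⟨β, hβ⟩ := exists_trace_eq hF (c := (1 : F)) (one_pow q)
      refine viaZ (s + β • r) ?_ ?_ ?_ ?_
      · rw [H.add_left, H.add_right hF, H.add_right hF, H.smul_left, H.smul_left, H.smul_right,
          H.smul_right, hrr, hrs, hsr, hss]
        linear_combination hβ
      · rw [H.add_left, H.smul_left, hsa, hra, mul_zero, add_zero]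
      · rw [H.add_left, H.smul_left, hsx, hrx, mul_zero, add_zero]
      · rw [H.add_left, H.smul_left, hsy, hry, mul_zero, add_zero]
    set k := hm y a / hm s a with hk
    set k' := hm x a / hm s a with hk'
    set b₁ := y - k • s with hb₁
    set c₁ := x - k' • s with hc₁
    have hb1a : hm b₁ a = 0 := by
      rw [hb₁, H.sub_left, H.smul_left, hk, div_mul_cancel₀ _ hsa, sub_self]
    have hc1a : hm c₁ a = 0 := by
      rw [hc₁, H.sub_left, H.smul_left, hk', div_mul_cancel₀ _ hsa, sub_self]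
    have hb1x : hm b₁ x = 0 := by
      rw [hb₁, H.sub_left, H.smul_left, hsx, hm_symm0 hF hxy, mul_zero, sub_zero]
    have hc1y : hm c₁ y = 0 := by
      rw [hc₁, H.sub_left, H.smul_left, hsy, hxy, mul_zero, sub_zero]
    have hys : hm y s = 0 := hm_symm0 hF hsy
    have hxs : hm x s = 0 := hm_symm0 hF hsx
    have hb1 : hm b₁ b₁ = 1 := by
      rw [hb₁, H.sub_left, H.sub_right hF, H.sub_right hF, H.smul_left, H.smul_left, H.smul_right,
        H.smul_right, hy, hys, hsy, hss]; ring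
    have hc1 : hm c₁ c₁ = 1 := by
      rw [hc₁, H.sub_left, H.sub_right hF, H.sub_right hF, H.smul_left, H.smul_left, H.smul_right,
        H.smul_right, hx, hxs, hsx, hss]; ring
    have hbc : hm b₁ c₁ = 0 := by
      rw [hb₁, hc₁, H.sub_left, H.sub_right hF, H.sub_right hF, H.smul_left, H.smul_left,
        H.smul_right, H.smul_right, hm_symm0 hF hxy, hys, hsx, hss]; ring
    obtain ⟨X', hX'⟩ := 𝒞.path2_exists hF hA hb1 hx hb1a hb1x
    obtain rfl := wd hA h hX'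
    obtain ⟨B₁, hB₁, hB₁b, hB₁X, -⟩ := hX'
    obtain ⟨C₁, hC₁, hC₁c⟩ := 𝒞.lift c₁ hA hc1 (hm_symm0 hF hc1a)
    obtain ⟨Y', hY', hY'y⟩ := 𝒞.lift y hC₁c hy hc1y
    have hBC : 𝒞.Adj B₁ C₁ := 𝒞.tri hB₁ hC₁ hB₁b hC₁c hbc
    obtain rfl := wd hB₁b (⟨X, hB₁X, hXx, hXY, hYy⟩ : 𝒞.Path2 B₁ x y Y)
      (⟨C₁, hBC, hC₁c, hY', hY'y⟩ : 𝒞.Path2 B₁ c₁ y Y')
    exact ⟨c₁, C₁, hC₁, hC₁c, hY', hY'y⟩
  obtain ⟨y, b, hy⟩ := hconn R hAR hcl
  have hBy : 𝒞.Over B y := hy.choose_spec.2.2.2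
  obtain ⟨c, hc, e⟩ := 𝒞.over_uniq hB hBy
  obtain ⟨B', hB', hB'b, hB'B, -⟩ := hy
  exact 𝒞.lift_uniq (𝒞.symm hB') hB'B (e ▸ 𝒞.over_smul c hA hc) hBy

end Cov

end Cfsg.Agent.Phan
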