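/-
Lifts along paths of length two in dimension four.

* `Cov.well_four`: if lifts along paths of length two agree at pairs spanning nondegenerate lines
  and stabilisers of points act on the cover, then they agree at every pair, for q ≥ 4.
-/
import Cfsg.Agent.Lib.Phan.Cover
import Cfsg.Agent.Lib.Phan.Circle

set_option autoImplicit false

namespace Cfsg.Agent.Phan

open Cfsg.Agent.Unitary

namespace Cov

variable {F : Type*} [Field F] [Fintype F] {q d : ℕ} {Q : Type*} (𝒞 : Cov d F q Q)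

local notation "V" => (Fin d → F)
local notation "hm" => Cfsg.hermForm d F q

/-- The stabiliser of a point acts on the cover. -/
def StabActs : Prop :=
  ∀ (g : Cfsg.SU d F q) (A : Q) (a : V), 𝒞.Over A a → suAct g a = a →
    ∃ e : Q → Q, e A = A ∧ (∀ X Y, 𝒞.Adj X Y → 𝒞.Adj (e X) (e Y)) ∧
      ∀ X v, 𝒞.Over X v → 𝒞.Over (e X) (suAct g v)

variable (hF : Fintype.card F = q ^ 2)
include hF

theorem path2_act {g : Cfsg.SU d F q} {e : Q → Q} {A : Q} {b x : V} {X : Q} (hA : e A = A)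
    (hadj : ∀ X Y, 𝒞.Adj X Y → 𝒞.Adj (e X) (e Y))
    (hover : ∀ X v, 𝒞.Over X v → 𝒞.Over (e X) (suAct g v))
    (h : 𝒞.Path2 A b x X) : 𝒞.Path2 A (suAct g b) (suAct g x) (e X) := by
  obtain ⟨B, hB, hBb, hX, hXx⟩ := h
  exact ⟨e B, hA ▸ hadj A B hB, hover B b hBb, hadj B X hX, hover X x hXx⟩

omit 𝒞 in
/-- Vectors orthogonal to a frame vanish. -/
theorem frame_ext (hd : d = 4) {a b r s : V} (ha : hm a a = 1) (hb : hm b b = 1)
    (hr : hm r r = 0) (hs : hm s s = 0) (hrs : hm r s = 1) (hba : hm b a = 0) (hra : hm r a = 0)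
    (hrb : hm r b = 0) (hsa : hm s a = 0) (hsb : hm s b = 0) {v : V} (h1 : hm v a = 0)
    (h2 : hm v b = 0) (h3 : hm v r = 0) (h4 : hm v s = 0) : v = 0 := by
  have H := hH (d := d) hF
  let f := prodMap hF ![a, b, r, s]
  have hfin : Module.finrank F V = Module.finrank F (Fin 4 → F) := by
    rw [Module.finrank_fin_fun, Module.finrank_fin_fun, hd]
  have hsr : hm s r = 1 := by rw [hm_symm hF r s, hrs, one_pow]
  have hsurj : Function.Surjective f := fun y => by
    refine ⟨y 0 • a + y 1 • b + y 3 • r + y 2 • s, funext fun i => ?_⟩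
    fin_cases i <;>
      simp [f, prodMap, H.add_left, H.smul_left, ha, hb, hr, hs, hrs, hsr, hba, hra, hrb, hsa, hsb,
        hm_symm0 hF hba, hm_symm0 hF hra, hm_symm0 hF hrb, hm_symm0 hF hsa, hm_symm0 hF hsb]
  have hinj := (LinearMap.injective_iff_surjective_of_finrank_eq_finrank hfin).2 hsurj
  apply hinj
  rw [map_zero]
  funext i
  fin_cases i <;> simpa [f, prodMap]

/-- The pairs of vectors whose lifts agree are translated by the stabiliser. -/
theorem agree_add (hd : d = 4) (hact : 𝒞.StabActs) {A : Q} {a b r : V} (hA : 𝒞.Over A a)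
    (hb : hm b b = 1) (hr : hm r r = 0) (hba : hm b a = 0) (hra : hm r a = 0) (hrb : hm r b = 0)
    (hxx : hm (a + r) (a + r) = 1) {μ ν : F}
    (hμ : ∀ X X', 𝒞.Path2 A b (a + r) X → 𝒞.Path2 A (b + μ • r) (a + r) X' → X = X')
    (hν : ∀ X X', 𝒞.Path2 A b (a + r) X → 𝒞.Path2 A (b + ν • r) (a + r) X' → X = X') :
    ∀ X X', 𝒞.Path2 A b (a + r) X → 𝒞.Path2 A (b + (μ + ν) • r) (a + r) X' → X = X' := by
  intro X X' h h'
  have H := hH (d := d) hF
  have hbr : hm b r = 0 := hm_symm0 hF hrb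
  have hunit : ∀ c : F, hm (b + c • r) (b + c • r) = 1 := fun c => by
    simp [H.add_left, H.add_right hF, H.smul_left, H.smul_right, hb, hr, hrb, hbr]
  have hperp : ∀ c : F, hm (b + c • r) a = 0 ∧ hm (b + c • r) (a + r) = 0 := fun c => by
    constructor <;>
      simp [H.add_left, H.add_right hF, H.smul_left, hba, hr, hra, hbr]
  obtain ⟨Y, hY⟩ := 𝒞.path2_exists hF hA (hunit μ) hxx (hperp μ).1 (hperp μ).2
  obtain ⟨Z, hZ⟩ := 𝒞.path2_exists hF hA (hunit ν) hxx (hperp ν).1 (hperp ν).2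
  obtain rfl := hν X Z h hZ
  obtain rfl := hμ X Y h hY
  obtain ⟨t, -, htfix, htb⟩ := moves_eichler hF (n := d) (by omega) hb (r := μ • r)
    (by simp [H.smul_left, H.smul_right, hr]) (by simp [H.smul_right, hbr])
  have hta : suAct t a = a :=
    htfix a ⟨hm_symm0 hF hba, by simp [H.smul_right, hm_symm0 hF hra]⟩
  have htr : suAct t r = r := htfix r ⟨hrb, by simp [H.smul_right, hr]⟩
  obtain ⟨e, heA, hadj, hover⟩ := hact t A a hA hta
  have h1 := 𝒞.path2_act hF heA hadj hover h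
  have h2 := 𝒞.path2_act hF heA hadj hover hZ
  rw [suAct_add, hta, htr, htb] at h1
  rw [suAct_add, suAct_add, suAct_smul, hta, htr, htb,
    show b + μ • r + ν • r = b + (μ + ν) • r by module] at h2
  rw [← 𝒞.path2_uniq hY h1] at h2
  exact 𝒞.path2_uniq h2 h'

/-- A closed annulus gives agreement for translations by norm-one elements. -/
theorem agree_unit (hq : 4 ≤ q)
    (hnd : ∀ A a x, 𝒞.Over A a → hm x x = 1 → hm a x ^ (q + 1) ≠ 1 → 𝒞.Well A a x)
    {A : Q} {a b r s : V} (hA : 𝒞.Over A a) (hb : hm b b = 1) (hr : hm r r = 0) (hs : hm s s = 0)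
    (hrs : hm r s = 1) (hba : hm b a = 0) (hra : hm r a = 0) (hrb : hm r b = 0) (hsa : hm s a = 0)
    (hsb : hm s b = 0) {ν : F} (hν : ν ^ (q + 1) = 1) :
    ∀ X X', 𝒞.Path2 A b (a + r) X → 𝒞.Path2 A (b + ν • r) (a + r) X' → X = X' := by
  intro X X' h h'
  obtain ⟨Bb, hBb, hBbb, hX, hXx⟩ := h
  obtain ⟨Be, hBe, hBee, hX', hX'x⟩ := h'
  have H := hH (d := d) hF
  have ha := 𝒞.unit hA
  have hsr : hm s r = 1 := by rw [hm_symm hF r s, hrs, one_pow]
  obtain ⟨τ, hτ, hτ0, hτ1, hτ2⟩ := exists_tau' hF hq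
  obtain ⟨β, hβ⟩ := exists_trace_eq hF hτ
  set α := -β ^ q with hα
  have hαq : α ^ q = -β := by rw [hα, neg_pow_q hF, pow_q_pow_q hF]
  have hνn : ν ^ q * ν = 1 := by rw [← pow_succ]; exact hν
  set A' : V := -(ν ^ q) • b + s + α • r with hA'
  set B' : V := s + β • r with hB'
  set C' : V := -a + s + α • r with hC'
  set E' : V := -a + -(ν ^ q) • b + s + (β - 1) • r with hE'
  have hab := hm_symm0 hF hba
  have har := hm_symm0 hF hra
  have hbr := hm_symm0 hF hrb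
  have has := hm_symm0 hF hsa
  have hbs := hm_symm0 hF hsb
  have expand : ∀ u v : V, hm u (-v) = -hm u v ∧ hm (-u) v = -hm u v :=
    fun u v => ⟨H.neg_right hF u v, H.neg_left u v⟩
  have qq := pow_q_pow_q hF ν
  have Nν := neg_pow_q hF (ν ^ q)
  have hBm1 : (β - 1) ^ q = β ^ q - 1 := by rw [sub_pow_q hF, one_pow]
  have nA : hm A' A' = 1 - τ := by
    simp only [hA', H.add_left, H.add_right hF, H.smul_left, H.smul_right, expand, ha, hb, hr, hs,
      hrs, hsr, hbr, hbs, hrb, hsb, hαq, Nν, qq]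
    linear_combination hνn + (-1 : F) * hβ + hα
  have nB : hm B' B' = τ := by
    simp only [hB', H.add_left, H.add_right hF, H.smul_left, H.smul_right, hr, hs, hrs, hsr]
    linear_combination hβ
  have nC : hm C' C' = 1 - τ := by
    simp only [hC', H.add_left, H.add_right hF, H.smul_left, H.smul_right, expand, ha, hr, hs,
      hrs, hsr, har, has, hra, hsa, hαq]
    linear_combination (-1 : F) * hβ + hα
  have nE : hm E' E' = τ := by
    simp only [hE', H.add_left, H.add_right hF, H.smul_left, H.smul_right, expand, ha, hb, hr, hs,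
      hrs, hsr, hab, har, has, hba, hbr, hbs, hra, hrb, hsa, hsb, hBm1, Nν, qq]
    linear_combination hνn + hβ
  have A'a : hm A' a = 0 := by
    simp [hA', H.add_left, H.smul_left, hba, hsa, hra, expand]
  have A'e : hm A' (b + ν • r) = 0 := by
    simp [hA', H.add_left, H.add_right hF, H.smul_left, H.smul_right, expand, hb, hr, hsr, hbr,
      hrb, hsb]
  have B'a : hm B' a = 0 := by simp [hB', H.add_left, H.smul_left, hsa, hra]
  have B'b : hm B' b = 0 := by simp [hB', H.add_left, H.smul_left, hsb, hrb]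
  have A'B' : hm A' B' = 0 := by
    simp [hA', hB', H.add_left, H.add_right hF, H.smul_left, H.smul_right, expand, hr, hs, hrs,
      hsr, hbr, hbs, hα]
  have C'b : hm C' b = 0 := by
    simp [hC', H.add_left, H.smul_left, expand, hab, hsb, hrb]
  have C'x : hm C' (a + r) = 0 := by
    simp [hC', H.add_left, H.add_right hF, H.smul_left, expand, ha, hr, hsr, hra, har, hsa]
  have C'B' : hm C' B' = 0 := by
    simp [hC', hB', H.add_left, H.add_right hF, H.smul_left, H.smul_right, expand, hr, hs, hrs,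
      hsr, har, has, hα]
  have E'e : hm E' (b + ν • r) = 0 := by
    simp [hE', H.add_left, H.add_right hF, H.smul_left, H.smul_right, expand, hb, hr, hsr, hab,
      har, hbr, hsb, hrb]
  have E'x : hm E' (a + r) = 0 := by
    simp [hE', H.add_left, H.add_right hF, H.smul_left, expand, ha, hr, hsr, har, hba, hbr, hsa,
      hra]
  have E'A' : hm E' A' = 0 := by
    simp only [hE', hA', H.add_left, H.add_right hF, H.smul_left, H.smul_right, expand, hb, hr,
      hs, hrs, hsr, hab, har, has, hbr, hbs, hrb, hsb, hαq, Nν, qq]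
    linear_combination hνn
  have E'C' : hm E' C' = 0 := by
    simp only [hE', hC', H.add_left, H.add_right hF, H.smul_left, H.smul_right, expand, ha, hr,
      hs, hrs, hsr, har, has, hba, hbr, hbs, hra, hsa, hαq]
    ring
  have A'C' : hm A' C' = -τ := by
    simp only [hA', hC', H.add_left, H.add_right hF, H.smul_left, H.smul_right, expand, hr, hs,
      hrs, hsr, hba, hbr, hbs, hra, hsa, hαq]
    linear_combination (-1 : F) * hβ + hα
  have h1τ : (1 : F) - τ ≠ 0 := sub_ne_zero.2 (Ne.symm hτ1)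
  obtain ⟨c₁, -, hc₁, hAt⟩ := exists_scale hF (v := A') (nA.symm ▸ h1τ)
  obtain ⟨c₂, -, -, hBt⟩ := exists_scale hF (v := B') (nB.symm ▸ hτ0)
  obtain ⟨c₃, -, hc₃, hCt⟩ := exists_scale hF (v := C') (nC.symm ▸ h1τ)
  obtain ⟨c₄, -, -, hEt⟩ := exists_scale hF (v := E') (nE.symm ▸ hτ0)
  have sc : ∀ {u v : V} (c c' : F), hm u v = 0 → hm (c • u) (c' • v) = 0 := fun c c' h0 => by
    rw [H.smul_left, H.smul_right, h0, mul_zero, mul_zero]
  have scl : ∀ {u v : V} (c : F), hm u v = 0 → hm (c • u) v = 0 := fun c h0 => by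
    rw [H.smul_left, h0, mul_zero]
  obtain ⟨Ao, hAo, hAoa⟩ := 𝒞.lift (c₁ • A') hA hAt (hm_symm0 hF (scl c₁ A'a))
  obtain ⟨Bo, hBo, hBob⟩ := 𝒞.lift (c₂ • B') hA hBt (hm_symm0 hF (scl c₂ B'a))
  have h1 : 𝒞.Adj Be Ao := 𝒞.tri hBe hAo hBee hAoa (hm_symm0 hF (scl c₁ A'e))
  have h2 : 𝒞.Adj Ao Bo := 𝒞.tri hAo hBo hAoa hBob (sc c₁ c₂ A'B')
  have h3 : 𝒞.Adj Bb Bo := 𝒞.tri hBb hBo hBbb hBob (hm_symm0 hF (scl c₂ B'b))
  obtain ⟨C, hC, hCc⟩ := 𝒞.lift (c₃ • C') hBbb hCt (hm_symm0 hF (scl c₃ C'b))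
  have h4 : 𝒞.Adj C Bo := 𝒞.tri hC h3 hCc hBob (sc c₃ c₂ C'B')
  have h5 : 𝒞.Adj C X := 𝒞.tri hC hX hCc hXx (scl c₃ C'x)
  obtain ⟨E₀, hE₀, hE₀e⟩ := 𝒞.lift (c₄ • E') hBee hEt (hm_symm0 hF (scl c₄ E'e))
  have h6 : 𝒞.Adj E₀ Ao := 𝒞.tri hE₀ h1 hE₀e hAoa (sc c₄ c₁ E'A')
  have h7 : 𝒞.Adj E₀ X' := 𝒞.tri hE₀ hX' hE₀e hX'x (scl c₄ E'x)
  obtain ⟨C₂, hC₂, hC₂c⟩ := 𝒞.lift (c₃ • C') hE₀e hCt (sc c₄ c₃ E'C')
  have hne : hm (c₁ • A') (c₃ • C') ^ (q + 1) ≠ 1 := by
    rw [H.smul_left, H.smul_right, A'C', mul_pow, mul_pow, pow_right_comm, hc₁, hc₃, nA, nC,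
      inv_pow, sub_pow_q hF, one_pow, hτ]
    rw [pow_succ, neg_pow_q hF, hτ]
    intro e
    field_simp at e
    exact hτ2 (by linear_combination e)
  obtain rfl := hnd Ao _ _ hAoa hCt hne (c₂ • B') (c₄ • E') C C₂
    (hm_symm0 hF (sc c₁ c₂ A'B')) (hm_symm0 hF (sc c₃ c₂ C'B')) (sc c₄ c₁ E'A')
    (sc c₄ c₃ E'C') ⟨Bo, h2, hBob, 𝒞.symm h4, hCc⟩ ⟨E₀, 𝒞.symm h6, hE₀e, hC₂, hC₂c⟩
  have h8 : 𝒞.Adj E₀ X := 𝒞.tri (𝒞.symm hC₂) h5 hE₀e hXx (scl c₄ E'x)
  exact 𝒞.lift_uniq h8 h7 hXx hX'x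

theorem agree_all (hd : d = 4) (hq : 4 ≤ q) (hact : 𝒞.StabActs)
    (hnd : ∀ A a x, 𝒞.Over A a → hm x x = 1 → hm a x ^ (q + 1) ≠ 1 → 𝒞.Well A a x)
    {A : Q} {a b r s : V} (hA : 𝒞.Over A a) (hb : hm b b = 1) (hr : hm r r = 0) (hs : hm s s = 0)
    (hrs : hm r s = 1) (hba : hm b a = 0) (hra : hm r a = 0) (hrb : hm r b = 0) (hsa : hm s a = 0)
    (hsb : hm s b = 0) (hxx : hm (a + r) (a + r) = 1) (ν : F) :
    ∀ X X', 𝒞.Path2 A b (a + r) X → 𝒞.Path2 A (b + ν • r) (a + r) X' → X = X' := by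
  let M : AddSubmonoid F :=
    { carrier := {ν | ∀ X X', 𝒞.Path2 A b (a + r) X → 𝒞.Path2 A (b + ν • r) (a + r) X' → X = X'}
      zero_mem' := fun X X' h h' => by
        rw [zero_smul, add_zero] at h'
        exact 𝒞.path2_uniq h h'
      add_mem' := fun h1 h2 => 𝒞.agree_add hF hd hact hA hb hr hba hra hrb hxx h1 h2 }
  let K : AddSubgroup F :=
    { M with
      neg_mem' := fun {x} hx => by
        have h1 : (Fintype.card F - 1) • x = -x := by
          refine eq_neg_of_add_eq_zero_left ?_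
          rw [← succ_nsmul, Nat.sub_add_cancel Fintype.card_pos, card_nsmul_eq_zero]
        rw [← h1]
        exact M.nsmul_mem hx _ }
  have hK : K = ⊤ := circle_top hF K fun x hx =>
    𝒞.agree_unit hF hq hnd hA hb hr hs hrs hba hra hrb hsa hsb hx
  exact (hK ▸ AddSubgroup.mem_top ν : ν ∈ K)

/-- In dimension four lifts along paths of length two agree. -/
theorem well_four (hd : d = 4) (hq : 4 ≤ q) (hact : 𝒞.StabActs)
    (hnd : ∀ A a x, 𝒞.Over A a → hm x x = 1 → hm a x ^ (q + 1) ≠ 1 → 𝒞.Well A a x)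
    {A : Q} {a x : V} (hA : 𝒞.Over A a) (hxx : hm x x = 1) : 𝒞.Well A a x := by
  by_cases hax : hm a x ^ (q + 1) = 1
  swap
  · exact hnd A a x hA hxx hax
  have H := hH (d := d) hF
  -- normalise the start so that the product is one
  have hl : hm x a ^ (q + 1) = 1 := by
    rw [hm_symm hF a x, ← pow_mul, mul_comm, pow_mul, hax, one_pow]
  intro b b' X X' hba hbx hb'a hb'x h h'
  obtain ⟨hb, -, -, -⟩ := 𝒞.path2_orth hF hA h
  obtain ⟨hb1, -, -, -⟩ := 𝒞.path2_orth hF hA h'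
  set l := hm x a with hldef
  have hA1 : 𝒞.Over A (l • a) := 𝒞.over_smul l hA hl
  set a₁ := l • a with ha₁
  set r := x - a₁ with hr
  have ha := 𝒞.unit hA1
  have hxa : hm x a₁ = 1 := by
    rw [ha₁, H.smul_right, ← hldef, ← pow_succ, hl]
  have hax1 : hm a₁ x = 1 := by rw [hm_symm hF x a₁, hxa, one_pow]
  have hba1 : hm b a₁ = 0 := by rw [ha₁, H.smul_right, hba, mul_zero]
  have hb'a1 : hm b' a₁ = 0 := by rw [ha₁, H.smul_right, hb'a, mul_zero]
  have hra : hm r a₁ = 0 := by rw [hr, H.sub_left, hxa, ha, sub_self]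
  have hrr : hm r r = 0 := by
    rw [hr, H.sub_left, H.sub_right hF, H.sub_right hF, hxx, hxa, hax1, ha]; ring
  have hrb : hm r b = 0 := by
    rw [hr, H.sub_left, hm_symm0 hF hbx, hm_symm0 hF hba1, sub_zero]
  have hb'r : hm b' r = 0 := by rw [hr, H.sub_right hF, hb'x, hb'a1, sub_zero]
  have hxe : x = a₁ + r := by rw [hr]; abel
  clear_value a₁ r
  by_cases hr0 : r = 0
  · refine 𝒞.well_par hF hA1 (c := 1) ?_ hxx b b' X X' hba1 hbx hb'a1 hb'x h h'
    rw [one_smul, hxe, hr0, add_zero]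
  have hout : r ∉ Submodule.span F ({a₁, b} : Set V) := fun hm' => by
    obtain ⟨u, v, e⟩ := Submodule.mem_span_pair.1 hm'
    have h1 := hra
    have h2 := hrb
    rw [← e, H.add_left, H.smul_left, H.smul_left, ha, hba1] at h1
    rw [← e, H.add_left, H.smul_left, H.smul_left, hb, hm_symm0 hF hba1] at h2
    simp only [mul_one, mul_zero, add_zero, zero_add] at h1 h2
    exact hr0 (by rw [← e, h1, h2]; simp)
  obtain ⟨s, hs, hsr, hrs, hss⟩ := exists_partner hF hrr (S := {a₁, b}) (by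
    rintro t (rfl | rfl) <;> assumption) hout (zero_pow_q hF)
  have hsa : hm s a₁ = 0 := hs a₁ (by simp)
  have hsb : hm s b = 0 := hs b (by simp)
  set μ := hm b' b with hμ
  set ν := hm b' s with hν
  have hv : b' - μ • b - ν • r = 0 := by
    apply frame_ext hF hd ha hb hrr hss hrs hba1 hra hrb hsa hsb <;>
      simp [H.sub_left, H.smul_left, ha, hb, hrr, hrs, hba1, hb'a1, hra, hrb, hb'r,
        hm_symm0 hF hrb, hm_symm0 hF hsb, ← hμ, ← hν]
  have hb'e : b' = μ • b + ν • r := by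
    rw [sub_sub, sub_eq_zero] at hv; exact hv
  have hμn : μ ^ (q + 1) = 1 := by
    rw [hb'e] at hb1
    simp only [H.add_left, H.add_right hF, H.smul_left, H.smul_right, hb, hrr, hrb,
      hm_symm0 hF hrb, mul_zero, add_zero, mul_one] at hb1
    rw [pow_succ]; linear_combination hb1
  have hμ0 : μ ≠ 0 := fun e => by rw [e, zero_pow (Nat.succ_ne_zero q)] at hμn; exact zero_ne_one hμn
  have h2 := 𝒞.path2_smul (c := μ⁻¹) (by rw [inv_pow, hμn, inv_one]) h'
  rw [hb'e, show μ⁻¹ • (μ • b + ν • r) = b + (μ⁻¹ * ν) • r by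
    rw [smul_add, smul_smul, smul_smul, inv_mul_cancel₀ hμ0, one_smul], hxe] at h2
  rw [hxe] at h
  exact 𝒞.agree_all hF hd hq hact hnd hA1 hb hrr hss hrs hba1 hra hrb hsa hsb (hxe ▸ hxx) _ X X' h h2

end Cov

end Cfsg.Agent.Phan
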