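/-
Block embeddings of special unitary groups.

* `emb e`: SU_m into SU_d on the coordinates selected by an embedding `e`.
* `mem_range_emb_iff`: the range is the fixer of the remaining basis vectors.
* `suBlock_eq_range`: the range is the block subgroup of the definitions.
* `emb_comp`, `emb_commute`.
-/
import Cfsg.Agent.Lib.Unitary.Generation

set_option autoImplicit false

namespace Cfsg.Agent.Phan

open Cfsg.Agent.Unitary
open scoped Matrix

variable {F : Type*} [Field F] {q d m l : ℕ}

/-- The coordinates split into the selected ones and the rest. -/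
noncomputable def coordEquiv (e : Fin m ↪ Fin d) :
    Fin m ⊕ {k : Fin d // k ∉ Set.range e} ≃ Fin d :=
  ((Equiv.ofInjective e e.injective).sumCongr (Equiv.refl _)).trans
    (Equiv.sumCompl fun k => k ∈ Set.range e)

theorem coordEquiv_inl (e : Fin m ↪ Fin d) (i : Fin m) : coordEquiv e (Sum.inl i) = e i := rfl

theorem coordEquiv_inr (e : Fin m ↪ Fin d) (k : {k : Fin d // k ∉ Set.range e}) :
    coordEquiv e (Sum.inr k) = k := rfl

/-- A matrix placed on the selected coordinates. -/
noncomputable def blockMat (e : Fin m ↪ Fin d) (A : Matrix (Fin m) (Fin m) F) :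
    Matrix (Fin d) (Fin d) F :=
  Matrix.reindex (coordEquiv e) (coordEquiv e) (Matrix.fromBlocks A 0 0 1)

theorem blockMat_det (e : Fin m ↪ Fin d) (A : Matrix (Fin m) (Fin m) F) :
    (blockMat e A).det = A.det := by
  classical
  rw [blockMat, Matrix.det_reindex_self, Matrix.det_fromBlocks_zero₁₂, Matrix.det_one, mul_one]

theorem blockMat_mulVec_on (e : Fin m ↪ Fin d) (A : Matrix (Fin m) (Fin m) F) (x : Fin d → F)
    (i : Fin m) : (blockMat e A *ᵥ x) (e i) = (A *ᵥ (x ∘ e)) i := by
  classical
  rw [blockMat, Matrix.reindex_apply, Matrix.submatrix_mulVec_equiv, Function.comp_apply,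
    ← coordEquiv_inl, Equiv.symm_apply_apply, Matrix.fromBlocks_mulVec, Sum.elim_inl,
    Matrix.zero_mulVec, add_zero]
  rfl

theorem blockMat_mulVec_off (e : Fin m ↪ Fin d) (A : Matrix (Fin m) (Fin m) F) (x : Fin d → F)
    {k : Fin d} (hk : k ∉ Set.range e) : (blockMat e A *ᵥ x) k = x k := by
  classical
  have hkk := coordEquiv_inr e ⟨k, hk⟩
  change coordEquiv e (Sum.inr ⟨k, hk⟩) = k at hkk
  conv_lhs => rw [← hkk]
  rw [blockMat, Matrix.reindex_apply, Matrix.submatrix_mulVec_equiv, Function.comp_apply,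
    Equiv.symm_apply_apply, Matrix.fromBlocks_mulVec, Sum.elim_inr, Matrix.zero_mulVec, zero_add,
    Matrix.one_mulVec]
  rfl

/-- The form splits into the selected coordinates and the others. -/
theorem hermForm_split (e : Fin m ↪ Fin d) (u v : Fin d → F) :
    Cfsg.hermForm d F q u v = Cfsg.hermForm m F q (u ∘ e) (v ∘ e) +
      ∑ k : {k : Fin d // k ∉ Set.range e}, u k * v k ^ q := by
  classical
  simp only [Cfsg.hermForm]
  rw [← (coordEquiv e).sum_comp, Fintype.sum_sum_type]
  rfl

theorem blockMat_isUnitary (e : Fin m ↪ Fin d) {A : Matrix (Fin m) (Fin m) F}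
    (hA : IsUnitary q A) : IsUnitary q (blockMat e A) := by
  classical
  intro u v
  rw [hermForm_split e (blockMat e A *ᵥ u), hermForm_split e u,
    show (blockMat e A *ᵥ u) ∘ e = A *ᵥ (u ∘ e) from funext (blockMat_mulVec_on e A u),
    show (blockMat e A *ᵥ v) ∘ e = A *ᵥ (v ∘ e) from funext (blockMat_mulVec_on e A v), hA]
  congr 1
  exact Finset.sum_congr rfl fun k _ => by
    rw [blockMat_mulVec_off e A u k.2, blockMat_mulVec_off e A v k.2]

/-- SU_m inside SU_d on the selected coordinates, as a function. -/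
noncomputable def embFun (e : Fin m ↪ Fin d) (g : Cfsg.SU m F q) : Cfsg.SU d F q :=
  suOfUnitary (blockMat e ((g : Matrix.SpecialLinearGroup (Fin m) F) : Matrix (Fin m) (Fin m) F))
    (blockMat_isUnitary e g.2)
    (by rw [blockMat_det]; exact (g : Matrix.SpecialLinearGroup (Fin m) F).2)

theorem suAct_embFun_on (e : Fin m ↪ Fin d) (g : Cfsg.SU m F q) (x : Fin d → F) (i : Fin m) :
    suAct (embFun e g) x (e i) = suAct g (x ∘ e) i :=
  blockMat_mulVec_on e _ x i

theorem suAct_embFun_off (e : Fin m ↪ Fin d) (g : Cfsg.SU m F q) (x : Fin d → F)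
    {k : Fin d} (hk : k ∉ Set.range e) : suAct (embFun e g) x k = x k :=
  blockMat_mulVec_off e _ x hk

/-- SU_m inside SU_d on the selected coordinates. -/
noncomputable def emb (e : Fin m ↪ Fin d) : Cfsg.SU m F q →* Cfsg.SU d F q :=
  MonoidHom.mk' (embFun e) fun g h => suAct_ext fun x => funext fun k => by
    rw [suAct_mul]
    by_cases hk : k ∈ Set.range e
    · obtain ⟨i, rfl⟩ := hk
      rw [suAct_embFun_on, suAct_embFun_on, suAct_mul]
      exact congrFun (congrArg (suAct g) (funext fun j => (suAct_embFun_on e h x j).symm)) i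
    · rw [suAct_embFun_off e _ _ hk, suAct_embFun_off e _ _ hk, suAct_embFun_off e _ _ hk]

theorem suAct_emb_on (e : Fin m ↪ Fin d) (g : Cfsg.SU m F q) (x : Fin d → F) (i : Fin m) :
    suAct (emb e g) x (e i) = suAct g (x ∘ e) i :=
  blockMat_mulVec_on e _ x i

theorem suAct_emb_off (e : Fin m ↪ Fin d) (g : Cfsg.SU m F q) (x : Fin d → F)
    {k : Fin d} (hk : k ∉ Set.range e) : suAct (emb e g) x k = x k :=
  blockMat_mulVec_off e _ x hk

theorem suAct_emb_comp (e : Fin m ↪ Fin d) (g : Cfsg.SU m F q) (x : Fin d → F) :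
    suAct (emb e g) x ∘ e = suAct g (x ∘ e) := funext (suAct_emb_on e g x)

theorem emb_injective (e : Fin m ↪ Fin d) :
    Function.Injective (emb e : Cfsg.SU m F q → Cfsg.SU d F q) := by
  intro g h hgh
  refine suAct_ext fun y => ?_
  have h1 := suAct_emb_comp e g (Function.extend e y 0)
  rw [hgh, suAct_emb_comp, Function.extend_comp e.injective] at h1
  exact h1.symm

theorem emb_comp (e : Fin m ↪ Fin d) (f : Fin l ↪ Fin m) (g : Cfsg.SU l F q) :
    emb e (emb f g) = emb (f.trans e) g := by
  refine suAct_ext fun x => funext fun k => ?_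
  by_cases hk : k ∈ Set.range e
  · obtain ⟨j, rfl⟩ := hk
    rw [suAct_emb_on]
    by_cases hj : j ∈ Set.range f
    · obtain ⟨i, rfl⟩ := hj
      rw [suAct_emb_on]
      exact (suAct_emb_on (f.trans e) g x i).symm
    · rw [suAct_emb_off f _ _ hj, suAct_emb_off (f.trans e) g x (k := e j)]
      · rfl
      · rintro ⟨i, hi⟩
        exact hj ⟨i, e.injective hi⟩
  · rw [suAct_emb_off e _ _ hk, suAct_emb_off (f.trans e) g x]
    rintro ⟨i, hi⟩
    exact hk ⟨f i, hi⟩

theorem emb_comp_hom (e : Fin m ↪ Fin d) (f : Fin l ↪ Fin m) :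
    (emb e).comp (emb f) = (emb (f.trans e) : Cfsg.SU l F q →* Cfsg.SU d F q) :=
  MonoidHom.ext (emb_comp e f)

theorem emb_refl (g : Cfsg.SU d F q) : emb (Function.Embedding.refl (Fin d)) g = g :=
  suAct_ext fun x => funext fun k => suAct_emb_on (Function.Embedding.refl (Fin d)) g x k

/-- Blocks on disjoint coordinates commute. -/
theorem emb_commute (e : Fin m ↪ Fin d) (f : Fin l ↪ Fin d)
    (hdis : ∀ i j, e i ≠ f j) (g : Cfsg.SU m F q) (h : Cfsg.SU l F q) :
    emb e g * emb f h = emb f h * emb e g := by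
  refine suAct_ext fun x => funext fun k => ?_
  rw [suAct_mul, suAct_mul]
  by_cases hk : k ∈ Set.range e
  · obtain ⟨i, rfl⟩ := hk
    rw [suAct_emb_on, suAct_emb_off f h (suAct (emb e g) x) (fun ⟨j, hj⟩ => hdis i j hj.symm),
      suAct_emb_on]
    congr 1
    exact funext fun i' => (suAct_emb_off f h x (fun ⟨j, hj⟩ => hdis i' j hj.symm))
  · by_cases hk' : k ∈ Set.range f
    · obtain ⟨j, rfl⟩ := hk'
      rw [suAct_emb_off e _ _ hk, suAct_emb_on, suAct_emb_on]
      congr 1
      exact funext fun j' =>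
        (suAct_emb_off e g x (fun ⟨i, hi⟩ => hdis i j' hi)).symm
    · rw [suAct_emb_off e _ _ hk, suAct_emb_off f _ _ hk', suAct_emb_off f _ _ hk',
        suAct_emb_off e _ _ hk]

section Fixer

variable [Fintype F] (hF : Fintype.card F = q ^ 2)
include hF

theorem hermForm_single (x : Fin d → F) (k : Fin d) :
    Cfsg.hermForm d F q x (Pi.single k 1) = x k := by
  rw [hermForm_single_right hF]

/-- An isometry fixing a basis vector fixes that coordinate. -/
theorem suAct_apply_of_fix {g : Cfsg.SU d F q} {k : Fin d}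
    (hg : suAct g (Pi.single k 1) = Pi.single k 1) (x : Fin d → F) : suAct g x k = x k := by
  have h := suAct_herm g x (Pi.single k 1)
  rwa [hg, hermForm_single hF, hermForm_single hF] at h

theorem mem_range_emb_iff (e : Fin m ↪ Fin d) (g : Cfsg.SU d F q) :
    g ∈ (emb e : Cfsg.SU m F q →* _).range ↔
      ∀ k, k ∉ Set.range e → suAct g (Pi.single k 1) = Pi.single k 1 := by
  classical
  constructor
  · rintro ⟨h, rfl⟩ k hk
    funext j
    by_cases hj : j ∈ Set.range e
    · obtain ⟨i, rfl⟩ := hj
      rw [suAct_emb_on,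
        show (Pi.single k (1 : F) : Fin d → F) ∘ e = 0 from
          funext fun i' => Pi.single_eq_of_ne (fun (hh : e i' = k) => hk ⟨i', hh⟩) _,
        suAct_zero, Pi.zero_apply, Pi.single_eq_of_ne (fun (hh : e i = k) => hk ⟨i, hh⟩)]
    · rw [suAct_emb_off e _ _ hj]
  intro hg
  set M := ((g : Matrix.SpecialLinearGroup (Fin d) F) : Matrix (Fin d) (Fin d) F) with hM
  have hoff : ∀ (x : Fin d → F) k, k ∉ Set.range e → suAct g x k = x k :=
    fun x k hk => suAct_apply_of_fix hF (hg k hk) x
  let A := M.submatrix e e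
  have hon : ∀ (x : Fin d → F) i, suAct g x (e i) = (A *ᵥ (x ∘ e)) i := by
    intro x i
    show (M *ᵥ x) (e i) = _
    simp only [Matrix.mulVec, dotProduct]
    rw [← (coordEquiv e).sum_comp, Fintype.sum_sum_type]
    rw [Finset.sum_eq_zero (s := (Finset.univ : Finset {k // k ∉ Set.range e})), add_zero]
    · rfl
    · intro k _
      have h1 := congrFun (hg k k.2) (e i)
      rw [Pi.single_eq_of_ne (fun (hh : e i = k) => k.2 ⟨i, hh⟩)] at h1
      rw [suAct, Matrix.mulVec_single_one] at h1
      show M (e i) k * x k = 0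
      rw [show M (e i) k = 0 from h1, zero_mul]
  have hMA : M = blockMat e A := Matrix.ext_iff_mulVec.2 fun x => funext fun k => by
    show suAct g x k = _
    by_cases hk : k ∈ Set.range e
    · obtain ⟨i, rfl⟩ := hk
      rw [hon, blockMat_mulVec_on]
    · rw [hoff x k hk, blockMat_mulVec_off e A x hk]
  have hdet : A.det = 1 := by
    rw [← blockMat_det e A, ← hMA]
    exact (g : Matrix.SpecialLinearGroup (Fin d) F).2
  have hA : IsUnitary q A := fun u v => by
    have h := suAct_herm g (Function.extend e u 0) (Function.extend e v 0)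
    have hsum : ∀ (a b : Fin d → F), (∀ k, k ∉ Set.range e → a k = 0) →
        Cfsg.hermForm d F q a b = Cfsg.hermForm m F q (a ∘ e) (b ∘ e) := fun a b ha => by
      rw [hermForm_split e, Finset.sum_eq_zero (fun k _ => by rw [ha k k.2, zero_mul]), add_zero]
    have hz : ∀ k, k ∉ Set.range e → Function.extend e u (0 : Fin d → F) k = 0 := fun k hk =>
      Function.extend_apply' _ _ _ fun ⟨i, hi⟩ => hk ⟨i, hi⟩
    rw [hsum _ _ (fun k hk => (hoff _ k hk).trans (hz k hk)), hsum _ _ hz,
      Function.extend_comp e.injective, Function.extend_comp e.injective] at h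
    rwa [show suAct g (Function.extend e u 0) ∘ e = A *ᵥ u from funext fun i => by
        rw [Function.comp_apply, hon, Function.extend_comp e.injective],
      show suAct g (Function.extend e v 0) ∘ e = A *ᵥ v from funext fun i => by
        rw [Function.comp_apply, hon, Function.extend_comp e.injective]] at h
  exact ⟨suOfUnitary A hA hdet, Subtype.ext (Subtype.ext hMA.symm)⟩

theorem suBlock_eq_range (e : Fin m ↪ Fin d) {s : Set (Fin d)} (hs : s = Set.range e) :
    Cfsg.suBlock d F q s = (emb e : Cfsg.SU m F q →* _).range := by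
  classical
  subst hs
  refine le_antisymm ((Subgroup.closure_le _).2 fun A hA => ?_) ?_
  · rw [SetLike.mem_coe, mem_range_emb_iff hF]
    intro k hk
    obtain ⟨h1, h2⟩ := hA k hk
    funext l
    rw [suAct, Matrix.mulVec_single_one]
    by_cases hl : l = k
    · subst hl; rw [Pi.single_eq_same]; exact h1
    · rw [Pi.single_eq_of_ne hl]; exact (h2 l hl).2
  · rintro A ⟨g, rfl⟩
    refine Subgroup.subset_closure fun k hk => ?_
    have hfix := (mem_range_emb_iff hF e (emb e g)).1 ⟨g, rfl⟩ k hk
    have hcol : ∀ l, ((emb e g : Matrix.SpecialLinearGroup (Fin d) F) : Matrix (Fin d) (Fin d) F) l k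
        = (Pi.single k 1 : Fin d → F) l := fun l => by
      have h := congrFun hfix l
      rwa [suAct, Matrix.mulVec_single_one] at h
    refine ⟨by rw [hcol, Pi.single_eq_same], fun l hl => ⟨?_, by rw [hcol, Pi.single_eq_of_ne hl]⟩⟩
    have h := suAct_apply_of_fix hF hfix (Pi.single l 1)
    rwa [suAct, Matrix.mulVec_single_one, Pi.single_eq_of_ne (Ne.symm hl)] at h

end Fixer

end Cfsg.Agent.Phan
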