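/-
Generation of SU_d by consecutive two-dimensional blocks, q ≥ 3.

* `shift k m d`: the coordinates k, …, k+m-1.
* `exists_su_two`: SU_2 is transitive on vectors of a given nonzero norm.
* `exists_move`: consecutive blocks are transitive on unit vectors.
* `gen_top`: consecutive blocks generate SU_d.
-/
import Cfsg.Agent.Lib.Phan.Blocks
import Cfsg.Agent.Lib.Phan.Geom
import Cfsg.Agent.Lib.Unitary.Circle

set_option autoImplicit false

namespace Cfsg.Agent.Phan

open Cfsg.Agent.Unitary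
open scoped Matrix

/-- The coordinates k, …, k+m-1. -/
def shift (k m d : ℕ) (h : k + m ≤ d) : Fin m ↪ Fin d :=
  ⟨fun i => ⟨k + i, by omega⟩, fun i j e => by
    have := congrArg Fin.val e
    simp only at this
    exact Fin.ext (by omega)⟩

theorem shift_val {k m d : ℕ} (h : k + m ≤ d) (i : Fin m) : (shift k m d h i : ℕ) = k + i := rfl

theorem mem_range_shift {k m d : ℕ} (h : k + m ≤ d) (l : Fin d) :
    l ∈ Set.range (shift k m d h) ↔ k ≤ (l : ℕ) ∧ (l : ℕ) < k + m :=
  ⟨fun ⟨i, hi⟩ => by subst hi; rw [shift_val]; omega,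
    fun hl => ⟨⟨(l : ℕ) - k, by omega⟩, Fin.ext (by rw [shift_val]; simp only; omega)⟩⟩

theorem shift_trans {a b m M d : ℕ} (h : a + m ≤ M) (h' : b + M ≤ d) :
    (shift a m M h).trans (shift b M d h') = shift (b + a) m d (by omega) :=
  Function.Embedding.ext fun i => Fin.ext (by
    rw [Function.Embedding.trans_apply, shift_val, shift_val, shift_val, Nat.add_assoc])

theorem shift_self (m : ℕ) : shift 0 m m (by omega) = Function.Embedding.refl (Fin m) :=
  Function.Embedding.ext fun i => Fin.ext (by simp [shift_val])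

variable {F : Type*} [Field F] {q d m : ℕ}

/-- The subgroup generated by the consecutive two-dimensional blocks. -/
noncomputable def gen (d : ℕ) (F : Type*) [Field F] (q : ℕ) : Subgroup (Cfsg.SU d F q) :=
  ⨆ (i : ℕ) (h : i + 2 ≤ d), (emb (shift i 2 d h) : Cfsg.SU 2 F q →* _).range

theorem block_le_gen {i : ℕ} (h : i + 2 ≤ d) :
    (emb (shift i 2 d h) : Cfsg.SU 2 F q →* _).range ≤ gen d F q :=
  le_iSup₂_of_le i h le_rfl

theorem map_gen_le {k : ℕ} (h : k + m ≤ d) :
    (gen m F q).map (emb (shift k m d h)) ≤ gen d F q := by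
  simp only [gen, Subgroup.map_iSup]
  refine iSup₂_le fun i hi => ?_
  rw [← MonoidHom.range_comp, emb_comp_hom, shift_trans]
  exact le_iSup₂_of_le (k + i) (by omega) le_rfl

variable [Fintype F] (hF : Fintype.card F = q ^ 2)
include hF

/-- A norm-one element moving the trace of a given nonzero element away from a given value. -/
theorem exists_circle_trace_ne (hq : 2 ≤ q) {k : F} (hk : k ≠ 0) (c : F) :
    ∃ x : F, x ^ (q + 1) = 1 ∧ x * k + (x * k) ^ q ≠ c := by
  classical
  by_contra hcon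
  push Not at hcon
  set U := Finset.univ.filter (fun x : F => x ^ (q + 1) = 1)
  have hU : U.card = q + 1 := by
    rw [← card_norm_one hF, Nat.card_eq_fintype_card, Fintype.card_subtype]
  have h2 : U.card ≤ 2 := card_roots_quad_le (a := k) (b := -c) (c := k ^ q) hk U fun x hx => by
    have hx1 : x ^ (q + 1) = 1 := (Finset.mem_filter.1 hx).2
    have := hcon x hx1
    rw [mul_pow] at this
    rw [pow_succ] at hx1
    linear_combination x * this - k ^ q * hx1
  omega

theorem exists_su_two_unit {u : Fin 2 → F} (hu : Cfsg.hermForm 2 F q u u = 1) :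
    ∃ g : Cfsg.SU 2 F q, suAct g (Pi.single 0 1) = u ∧
      ∀ v, suAct g v = ![u 0 * v 0 - u 1 ^ q * v 1, u 1 * v 0 + u 0 ^ q * v 1] := by
  let M : Matrix (Fin 2) (Fin 2) F := !![u 0, -(u 1 ^ q); u 1, u 0 ^ q]
  have hn : u 0 * u 0 ^ q + u 1 * u 1 ^ q = 1 := by
    simpa [Cfsg.hermForm, Fin.sum_univ_two] using hu
  have hmul : ∀ v, M *ᵥ v = ![u 0 * v 0 - u 1 ^ q * v 1, u 1 * v 0 + u 0 ^ q * v 1] := fun v => by
    funext i
    fin_cases i <;> simp [M, Matrix.mulVec, dotProduct, Fin.sum_univ_two] <;> ring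
  have hM : IsUnitary q M := fun v w => by
    rw [hmul, hmul]
    simp only [Cfsg.hermForm, Fin.sum_univ_two, Matrix.cons_val_zero, Matrix.cons_val_one,
      sub_pow_q hF, add_pow_q hF, mul_pow, pow_q_pow_q hF]
    linear_combination (v 0 * w 0 ^ q + v 1 * w 1 ^ q) * hn
  refine ⟨suOfUnitary M hM (by rw [Matrix.det_fin_two_of]; linear_combination hn), ?_, hmul⟩
  show M *ᵥ _ = _
  rw [hmul]
  funext i
  fin_cases i <;> simp

/-- SU_2 is transitive on the vectors of a given nonzero norm. -/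
theorem exists_su_two {u v : Fin 2 → F} (hu : Cfsg.hermForm 2 F q u u ≠ 0)
    (huv : Cfsg.hermForm 2 F q v v = Cfsg.hermForm 2 F q u u) :
    ∃ g : Cfsg.SU 2 F q, suAct g u = v := by
  obtain ⟨c, hc, hcn, hu1⟩ := exists_scale hF hu
  have hv1 : Cfsg.hermForm 2 F q (c • v) (c • v) = 1 := by
    rw [norm_smul hF, huv, hcn, inv_mul_cancel₀ hu]
  obtain ⟨g, hg, -⟩ := exists_su_two_unit hF hu1
  obtain ⟨h, hh, -⟩ := exists_su_two_unit hF hv1
  refine ⟨h * g⁻¹, ?_⟩
  have : suAct (h * g⁻¹) (c • u) = c • v := by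
    rw [suAct_mul, ← hg, suAct_inv_suAct, hh]
  rw [suAct_smul] at this
  exact smul_right_injective _ hc this

theorem herm_pair (u : Fin 2 → F) :
    Cfsg.hermForm 2 F q u u = u 0 ^ (q + 1) + u 1 ^ (q + 1) := by
  simp [Cfsg.hermForm, Fin.sum_univ_two, pow_succ']

/-- A pair of coordinates is moved to one with a different first norm. -/
theorem exists_first_norm_ne (hq : 3 ≤ q) {u : Fin 2 → F} (hu : u 0 ≠ 0) (z : F)
    (hz : z ≠ 0) :
    ∃ g : Cfsg.SU 2 F q, suAct g u 0 ^ (q + 1) + z ≠ 0 := by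
  by_cases h : Cfsg.hermForm 2 F q u u = 0
  · obtain ⟨t, ht, ht0, ht1⟩ := exists_tau hF hq
    obtain ⟨a, ha⟩ := exists_norm_eq hF ht
    obtain ⟨b, hb⟩ := exists_norm_eq hF (c := 1 - t) (by rw [sub_pow_q hF, one_pow, ht])
    have hu1 : u 1 ≠ 0 := fun e => by
      rw [herm_pair hF, e, zero_pow (Nat.succ_ne_zero q), add_zero] at h
      exact hu (pow_eq_zero_iff (Nat.succ_ne_zero q) |>.1 h)
    have ha0 : a ≠ 0 := fun e => ht0 (by rw [← ha, e, zero_pow (Nat.succ_ne_zero q)])
    have hb0 : b ≠ 0 := fun e => by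
      rw [e, zero_pow (Nat.succ_ne_zero q)] at hb
      exact ht1 (sub_eq_zero.1 hb.symm).symm
    set w := -(b ^ q * u 1) with hw
    obtain ⟨x, hx, hne⟩ := exists_circle_trace_ne hF (le_trans (by omega) hq)
      (k := a * u 0 * w ^ q)
      (mul_ne_zero (mul_ne_zero ha0 hu) (pow_ne_zero _ (neg_ne_zero.2
        (mul_ne_zero (pow_ne_zero _ hb0) hu1))))
      (-z - (a * u 0) ^ (q + 1) - w ^ (q + 1))
    obtain ⟨g, -, hg⟩ := exists_su_two_unit hF (u := ![x * a, b])
      (by rw [herm_pair hF]; simp [mul_pow, hx, ha, hb])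
    refine ⟨g, fun e => hne ?_⟩
    rw [hg] at e
    simp only [Matrix.cons_val_zero, Matrix.cons_val_one] at e
    rw [pow_succ, sub_pow_q hF] at e
    rw [pow_succ] at hx
    rw [hw, pow_succ, pow_succ]
    simp only [mul_pow, neg_pow_q hF, pow_q_pow_q hF] at e ⊢
    linear_combination e - (a * u 0) * (a ^ q * u 0 ^ q) * hx
  · obtain ⟨c, hc⟩ := exists_norm_eq hF (c := Cfsg.hermForm 2 F q u u)
      ((hH hF).self_fixed u)
    obtain ⟨g, hg⟩ := exists_su_two hF h (v := ![0, c]) (by rw [herm_pair hF ![0, c]]; simp [hc])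
    exact ⟨g, by rw [hg]; simpa using hz⟩

/-- Consecutive blocks are transitive on unit vectors. -/
theorem exists_move (hq : 3 ≤ q) (hd : 2 ≤ d) {x : Fin d → F}
    (hx : Cfsg.hermForm d F q x x = 1) :
    ∃ h ∈ gen d F q, suAct h x = Pi.single ⟨d - 1, by omega⟩ 1 := by
  classical
  induction d, hd using Nat.le_induction with
  | base =>
    obtain ⟨g, hg⟩ := exists_su_two hF (u := x) (v := Pi.single ⟨1, by omega⟩ 1)
      (by rw [hx]; exact one_ne_zero) (by rw [hx, herm_pair hF]; simp)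
    refine ⟨g, block_le_gen (i := 0) (by omega) ⟨g, ?_⟩, hg⟩
    rw [shift_self, emb_refl]
  | succ d hd ih =>
    -- clear the first coordinate
    suffices key : ∃ h ∈ gen (d + 1) F q, suAct h x 0 = 0 by
      obtain ⟨h, hh, h0⟩ := key
      set y := suAct h x with hy
      have hyy : Cfsg.hermForm (d + 1) F q y y = 1 := by rw [hy, suAct_herm, hx]
      let e := shift 1 d (d + 1) (by omega)
      have hye : Cfsg.hermForm d F q (y ∘ e) (y ∘ e) = 1 := by
        rw [← hyy, hermForm_split e y y, Finset.sum_eq_zero, add_zero]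
        intro k _
        have : (k : Fin (d + 1)) = 0 := by
          have := k.2
          rw [mem_range_shift] at this
          refine Fin.ext ?_
          show ((k : Fin (d + 1)) : ℕ) = 0
          omega
        rw [this, h0, zero_mul]
      obtain ⟨g, hg, hgy⟩ := ih hye
      refine ⟨emb e g * h, mul_mem (map_gen_le _ ⟨g, hg, rfl⟩) hh, ?_⟩
      rw [suAct_mul, ← hy]
      funext k
      by_cases hk : k ∈ Set.range e
      · obtain ⟨i, rfl⟩ := hk
        rw [suAct_emb_on, hgy]
        simp only [Pi.single_apply, Fin.ext_iff, shift_val, e]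
        exact if_congr (by omega) rfl rfl
      · rw [suAct_emb_off e _ _ hk]
        rw [mem_range_shift] at hk
        have hk0 : k = 0 := Fin.ext (show (k : ℕ) = 0 by omega)
        subst hk0
        rw [h0, Pi.single_eq_of_ne (fun e => by simp [Fin.ext_iff] at e; omega)]
    by_cases hx0 : x 0 = 0
    · exact ⟨1, one_mem _, by rw [suAct_one, hx0]⟩
    have clear : ∀ y : Fin (d + 1) → F, y 0 ^ (q + 1) + y ⟨1, by omega⟩ ^ (q + 1) ≠ 0 →
        ∃ h ∈ gen (d + 1) F q, suAct h y 0 = 0 := by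
      intro y hy
      let e := shift 0 2 (d + 1) (by omega)
      have hye : Cfsg.hermForm 2 F q (y ∘ e) (y ∘ e) =
          y 0 ^ (q + 1) + y ⟨1, by omega⟩ ^ (q + 1) := by
        rw [herm_pair hF]; rfl
      obtain ⟨c, hc⟩ := exists_norm_eq hF (c := Cfsg.hermForm 2 F q (y ∘ e) (y ∘ e))
        ((hH hF).self_fixed _)
      obtain ⟨g, hg⟩ := exists_su_two hF (u := y ∘ e) (v := ![0, c]) (hye ▸ hy)
        (by rw [herm_pair hF ![0, c]]; simp [hc])
      refine ⟨emb e g, block_le_gen _ ⟨g, rfl⟩, ?_⟩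
      have h0 := suAct_emb_on e g y 0
      rw [hg] at h0
      exact h0
    by_cases hν : x 0 ^ (q + 1) + x ⟨1, by omega⟩ ^ (q + 1) = 0
    swap
    · exact clear x hν
    let e := shift 1 2 (d + 1) (by omega)
    have hx1 : x ⟨1, by omega⟩ ≠ 0 := fun h1 => by
      rw [h1, zero_pow (Nat.succ_ne_zero q), add_zero] at hν
      exact hx0 (pow_eq_zero_iff (Nat.succ_ne_zero q) |>.1 hν)
    obtain ⟨g, hg⟩ := exists_first_norm_ne hF hq (u := x ∘ e) hx1 (x 0 ^ (q + 1))
      (pow_ne_zero _ hx0)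
    have h0 : suAct (emb e g) x 0 = x 0 :=
      suAct_emb_off e g x (by rw [mem_range_shift]; simp)
    obtain ⟨h, hh, hh0⟩ := clear (suAct (emb e g) x) (by
      rw [h0, show (⟨1, _⟩ : Fin (d + 1)) = e 0 from rfl, suAct_emb_on, add_comm]
      exact hg)
    exact ⟨h * emb e g, mul_mem hh (block_le_gen _ ⟨g, rfl⟩), by rw [suAct_mul, hh0]⟩

/-- Consecutive blocks generate. -/
theorem gen_top (hq : 3 ≤ q) (hd : 2 ≤ d) : gen d F q = ⊤ := by
  classical
  induction d, hd using Nat.le_induction with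
  | base =>
    exact eq_top_iff.2 fun g _ => block_le_gen (i := 0) (by omega) ⟨g, by rw [shift_self, emb_refl]⟩
  | succ d hd ih =>
    refine eq_top_iff.2 fun g _ => ?_
    set l : Fin (d + 1) := ⟨d + 1 - 1, by omega⟩ with hl
    have hgl : Cfsg.hermForm (d + 1) F q (suAct g (Pi.single l 1)) (suAct g (Pi.single l 1)) = 1 := by
      rw [suAct_herm, hermForm_single hF, Pi.single_eq_same]
    obtain ⟨h, hh, hhg⟩ := exists_move hF hq (by omega) hgl
    have hfix : h * g ∈ (emb (shift 0 d (d + 1) (by omega)) : Cfsg.SU d F q →* _).range := by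
      rw [mem_range_emb_iff hF]
      intro k hk
      rw [mem_range_shift] at hk
      have hkl : k = l := Fin.ext (by rw [hl]; simp only; omega)
      rw [hkl, suAct_mul, hhg]
    obtain ⟨g', hg'⟩ := hfix
    have : h * g ∈ gen (d + 1) F q := hg' ▸ map_gen_le _ ⟨g', ih.symm ▸ Subgroup.mem_top g', rfl⟩
    exact (Subgroup.mul_mem_cancel_left _ hh).1 this

end Cfsg.Agent.Phan
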