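/-
The amalgam of SU_{m+3} and SU_3 over SU_2 maps isomorphically onto SU_{m+4}.

* `AmalgamData`: a group over SU_{m+4} generated by compatible copies of the two subgroups, the last
  SU_2-block commuting with the distant blocks.
* `AmalgamData.bijective`: the projection is bijective for q ≥ 3, and q ≥ 4 when m = 0.
-/
import Cfsg.Agent.Lib.Phan.Gen
import Cfsg.Agent.Lib.Phan.Four

set_option autoImplicit false

namespace Cfsg.Agent.Phan

open Cfsg.Agent.Unitary

section Tools

variable {F : Type*} [Field F] {q d k : ℕ}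

/-- A vector placed on selected coordinates. -/
noncomputable def ext (e : Fin k ↪ Fin d) : (Fin k → F) →ₗ[F] (Fin d → F) where
  toFun u := Function.extend e u 0
  map_add' u v := by
    classical
    funext i
    by_cases hi : ∃ j, e j = i
    · obtain ⟨j, rfl⟩ := hi
      simp [e.injective.extend_apply]
    · simp [Function.extend_apply' _ _ _ hi]
  map_smul' c u := by
    classical
    funext i
    by_cases hi : ∃ j, e j = i
    · obtain ⟨j, rfl⟩ := hi
      simp [e.injective.extend_apply]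
    · simp [Function.extend_apply' _ _ _ hi]

theorem ext_on (e : Fin k ↪ Fin d) (u : Fin k → F) (i : Fin k) : ext e u (e i) = u i :=
  e.injective.extend_apply _ _ i

theorem ext_off (e : Fin k ↪ Fin d) (u : Fin k → F) {i : Fin d} (hi : i ∉ Set.range e) :
    ext e u i = 0 :=
  Function.extend_apply' _ _ _ hi

theorem ext_comp (e : Fin k ↪ Fin d) (u : Fin k → F) : ext e u ∘ e = u := funext (ext_on e u)

theorem ext_injective (e : Fin k ↪ Fin d) :
    Function.Injective (ext e : (Fin k → F) → (Fin d → F)) := fun u v h => by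
  rw [← ext_comp e u, h, ext_comp]

theorem ext_single (e : Fin k ↪ Fin d) (i : Fin k) :
    ext e (Pi.single i (1 : F)) = Pi.single (e i) 1 := by
  classical
  funext j
  by_cases hj : j ∈ Set.range e
  · obtain ⟨l, rfl⟩ := hj
    rw [ext_on]
    simp [Pi.single_apply, e.injective.eq_iff]
  · rw [ext_off e _ hj, Pi.single_eq_of_ne]
    exact fun h => hj ⟨i, h.symm⟩

theorem suAct_emb_ext (e : Fin k ↪ Fin d) (g : Cfsg.SU k F q) (u : Fin k → F) :
    suAct (emb e g) (ext e u) = ext e (suAct g u) := by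
  funext j
  by_cases hj : j ∈ Set.range e
  · obtain ⟨l, rfl⟩ := hj
    rw [suAct_emb_on, ext_comp, ext_on]
  · rw [suAct_emb_off e _ _ hj, ext_off e _ hj, ext_off e _ hj]

theorem suAct_emb_single (e : Fin k ↪ Fin d) (g : Cfsg.SU k F q) (i : Fin k) :
    suAct (emb e g) (Pi.single (e i) 1) = ext e (suAct g (Pi.single i 1)) := by
  rw [← ext_single, suAct_emb_ext]

theorem suAct_inv_of {g : Cfsg.SU d F q} {x y : Fin d → F} (h : suAct g x = y) :
    suAct g⁻¹ y = x := by
  rw [← h, suAct_inv_suAct]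

/-- The stabiliser of the second coordinate line in SU_2. -/
def tor : Subgroup (Cfsg.SU 2 F q) where
  carrier := {t | ∃ c : F, suAct t (Pi.single 1 1) = c • Pi.single 1 1}
  one_mem' := ⟨1, by rw [suAct_one, one_smul]⟩
  mul_mem' := fun {a b} ⟨c, hc⟩ ⟨c', hc'⟩ =>
    ⟨c' * c, by rw [suAct_mul, hc', suAct_smul, hc, smul_smul]⟩
  inv_mem' := fun {a} ⟨c, hc⟩ => by
    refine ⟨c⁻¹, ?_⟩
    have hc0 : c ≠ 0 := fun e => by
      have := suAct_inv_suAct a (Pi.single 1 1 : Fin 2 → F)
      rw [hc, e, zero_smul, suAct_zero] at this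
      exact zero_ne_one (α := F) (by simpa using congrFun this 1)
    have h := suAct_inv_of hc
    rw [suAct_smul] at h
    exact (eq_inv_smul_iff₀ hc0).2 h

variable [Fintype F] (hF : Fintype.card F = q ^ 2)
include hF

theorem suAct_emb_single_off (e : Fin k ↪ Fin d) (g : Cfsg.SU k F q) {i : Fin d}
    (hi : i ∉ Set.range e) : suAct (emb e g) (Pi.single i 1) = Pi.single i 1 :=
  (mem_range_emb_iff hF e _).1 ⟨g, rfl⟩ i hi

theorem herm_ext (e : Fin k ↪ Fin d) (u v : Fin k → F) :
    Cfsg.hermForm d F q (ext e u) (ext e v) = Cfsg.hermForm k F q u v := by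
  rw [hermForm_split e, ext_comp, ext_comp, Finset.sum_eq_zero, add_zero]
  intro i _
  rw [ext_off e _ i.2, zero_mul]

theorem norm_of_smul {x : Fin d → F} {c : F} (hx : Cfsg.hermForm d F q x x = 1)
    (h : Cfsg.hermForm d F q (c • x) (c • x) = 1) : c ^ (q + 1) = 1 := by
  rwa [norm_smul hF, hx, mul_one] at h

theorem single_unit (i : Fin d) :
    Cfsg.hermForm d F q (Pi.single i 1) (Pi.single i 1) = 1 := by
  rw [hermForm_single hF, Pi.single_eq_same]

/-- An element fixing the last coordinate line in dimension two fixes the other one as well. -/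
theorem two_line {t : Cfsg.SU 2 F q} {c : F}
    (ht : suAct t (Pi.single 1 1) = c • Pi.single 1 1) :
    ∃ a : F, suAct t (Pi.single 0 1) = a • Pi.single 0 1 := by
  have h := suAct_herm t (Pi.single 0 1) (Pi.single 1 1)
  have hc : c ≠ 0 := fun e => by
    have := suAct_herm t (Pi.single 1 1) (Pi.single 1 1)
    rw [ht, e, zero_smul, (hH hF).zero_left, single_unit hF] at this
    exact zero_ne_one this
  rw [ht, (hH hF).smul_right, hermForm_single hF, hermForm_single hF,
    Pi.single_eq_of_ne (by decide)] at h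
  have h0 := (mul_eq_zero.1 h).resolve_left (pow_ne_zero _ hc)
  refine ⟨suAct t (Pi.single 0 1) 0, funext fun i => ?_⟩
  fin_cases i <;> simp [h0]

/-- An element of SU_2 fixing a basis vector is trivial. -/
theorem two_fix {t : Cfsg.SU 2 F q} (ht : suAct t (Pi.single 1 1) = Pi.single 1 1) : t = 1 := by
  obtain ⟨s, rfl⟩ := (mem_range_emb_iff hF (shift 0 1 2 (by omega)) t).2 (fun i hi => by
    rw [mem_range_shift] at hi
    have : i = (1 : Fin 2) := Fin.ext (by simp; omega)
    rw [this, ht])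
  have hs : s = 1 := suAct_ext fun x => funext fun i => by
    have hd := (s : Matrix.SpecialLinearGroup (Fin 1) F).2
    rw [Matrix.det_fin_one] at hd
    have hi : i = 0 := Subsingleton.elim _ _
    subst hi
    rw [suAct_one, suAct, Matrix.mulVec, dotProduct, Fin.sum_univ_one]
    simp [hd]
  rw [hs, map_one]

/-- The element exchanging the two coordinate lines. -/
theorem exists_swap_two :
    ∃ W : Cfsg.SU 2 F q, suAct W (Pi.single 1 1) = Pi.single 0 1 ∧
      suAct W (Pi.single 0 1) = (-1 : F) • Pi.single 1 1 := by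
  obtain ⟨g, hg0, hg⟩ := exists_su_two_unit hF (u := ![0, -1])
    (by simp [Cfsg.hermForm, Fin.sum_univ_two, neg_pow_q hF])
  refine ⟨g, ?_, ?_⟩
  · rw [hg]
    funext i
    fin_cases i <;> simp [neg_pow_q hF, zero_pow_q hF]
  · rw [hg0]
    funext i
    fin_cases i <;> simp

theorem exists_tor {c : F} (hc : c ^ (q + 1) = 1) :
    ∃ t : Cfsg.SU 2 F q, t ∈ tor ∧ suAct t (Pi.single 1 1) = c • Pi.single 1 1 := by
  obtain ⟨g, hg⟩ := exists_su_two hF (u := (Pi.single 1 1 : Fin 2 → F)) (v := c • Pi.single 1 1)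
    (by rw [single_unit hF]; exact one_ne_zero) (by rw [norm_smul hF, hc, one_mul])
  exact ⟨g, ⟨c, hg⟩, hg⟩

end Tools

variable {F : Type*} [Field F] {q m : ℕ}

/-- The first m+3 coordinates. -/
abbrev cL (m : ℕ) : Fin (m + 3) ↪ Fin (m + 4) := shift 0 (m + 3) (m + 4) (by omega)
/-- The last three coordinates. -/
abbrev cR (m : ℕ) : Fin 3 ↪ Fin (m + 4) := shift (m + 1) 3 (m + 4) (by omega)
/-- The overlap inside the first part. -/
abbrev cO (m : ℕ) : Fin 2 ↪ Fin (m + 3) := shift (m + 1) 2 (m + 3) (by omega)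
/-- The first m+2 coordinates. -/
abbrev cK (m : ℕ) : Fin (m + 2) ↪ Fin (m + 3) := shift 0 (m + 2) (m + 3) (by omega)
/-- The overlap inside SU_3. -/
abbrev c01 : Fin 2 ↪ Fin 3 := shift 0 2 3 (by omega)
/-- The last block inside SU_3. -/
abbrev c12 : Fin 2 ↪ Fin 3 := shift 1 2 3 (by omega)

theorem cR_zero : cR m 0 = cL m ⟨m + 1, by omega⟩ := Fin.ext (by simp [shift_val])
theorem cR_one : cR m 1 = cL m (Fin.last (m + 2)) := Fin.ext (by simp [shift_val])
theorem cR_two : cR m 2 = Fin.last (m + 3) := Fin.ext (by simp [shift_val])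
theorem cO_zero : cO m 0 = ⟨m + 1, by omega⟩ := Fin.ext (by simp [shift_val])
theorem cO_one : cO m 1 = Fin.last (m + 2) := Fin.ext (by simp [shift_val])
theorem c01_one : c01 1 = 1 := rfl
theorem c12_one : c12 1 = 2 := rfl
theorem c12_zero : c12 0 = 1 := rfl
theorem c01_zero : c01 0 = 0 := rfl

theorem last_notMem_cL : Fin.last (m + 3) ∉ Set.range (cL m) := by
  rw [mem_range_shift, Fin.val_last]; omega

/-- A group over SU_{m+4} generated by compatible copies of SU_{m+3} and SU_3. -/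
structure AmalgamData (F : Type*) [Field F] (q m : ℕ) (Γ : Type*) [Group Γ] where
  proj : Γ →* Cfsg.SU (m + 4) F q
  left : Cfsg.SU (m + 3) F q →* Γ
  right : Cfsg.SU 3 F q →* Γ
  proj_left : ∀ g, proj (left g) = emb (cL m) g
  proj_right : ∀ h, proj (right h) = emb (cR m) h
  agree : ∀ g, left (emb (cO m) g) = right (emb c01 g)
  comm : ∀ (i : ℕ) (hi : i + 2 ≤ m + 2) (g h : Cfsg.SU 2 F q),
    left (emb (shift i 2 (m + 3) (by omega)) g) * right (emb c12 h) =
      right (emb c12 h) * left (emb (shift i 2 (m + 3) (by omega)) g)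
  generates : Subgroup.closure (Set.range left ∪ Set.range right) = ⊤

namespace AmalgamData

variable {Γ : Type*} [Group Γ] (D : AmalgamData F q m Γ) [Fintype F]
  (hF : Fintype.card F = q ^ 2) (hq : 3 ≤ q)

local notation "eL" => (Pi.single (Fin.last (m + 3)) 1 : Fin (m + 4) → F)
local notation "eM" => (Pi.single (Fin.last (m + 2)) 1 : Fin (m + 3) → F)

include hF

theorem proj_left_last (g : Cfsg.SU (m + 3) F q) : suAct (D.proj (D.left g)) eL = eL := by
  rw [D.proj_left, suAct_emb_single_off hF _ _ last_notMem_cL]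

theorem proj_right_ext (h : Cfsg.SU 3 F q) (u : Fin 3 → F) :
    suAct (D.proj (D.right h)) (ext (cR m) u) = ext (cR m) (suAct h u) := by
  rw [D.proj_right, suAct_emb_ext]

omit hF in
theorem last_eq_ext : eL = ext (cR m) (Pi.single 2 1) := by rw [ext_single, cR_two]

omit hF in
theorem pen_eq_ext : ext (cL m) eM = ext (cR m) (Pi.single 1 1) := by
  rw [ext_single, ext_single, cR_one]

include hq

/-- Elements fixing the last two lines commute with the last block. -/
theorem left_comm (k : Cfsg.SU (m + 2) F q) (h : Cfsg.SU 2 F q) :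
    D.left (emb (cK m) k) * D.right (emb c12 h) = D.right (emb c12 h) * D.left (emb (cK m) k) := by
  have hle : gen (m + 2) F q ≤
      (Subgroup.centralizer {D.right (emb c12 h)}).comap (D.left.comp (emb (cK m))) := by
    refine iSup₂_le fun i hi => ?_
    rintro _ ⟨g, rfl⟩
    rw [Subgroup.mem_comap, Subgroup.mem_centralizer_iff]
    rintro _ rfl
    rw [MonoidHom.comp_apply, emb_comp, shift_trans]
    have := D.comm (0 + i) (by omega) g h
    exact this.symm
  have := hle (show k ∈ gen (m + 2) F q by rw [gen_top hF hq (by omega)]; trivial)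
  rw [Subgroup.mem_comap, Subgroup.mem_centralizer_iff] at this
  exact (this _ rfl).symm

/-- Conjugation by the diagonal part of the last block preserves the left part. -/
theorem tor_normal {t : Cfsg.SU 2 F q} (ht : t ∈ tor) (g : Cfsg.SU (m + 3) F q) :
    D.right (emb c12 t) * D.left g * (D.right (emb c12 t))⁻¹ ∈ D.left.range := by
  set x := D.right (emb c12 t) with hx
  have hle : gen (m + 3) F q ≤
      (D.left.range.comap (MulAut.conj x).toMonoidHom).comap D.left := by
    refine iSup₂_le fun i hi => ?_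
    rintro _ ⟨k, rfl⟩
    rw [Subgroup.mem_comap, Subgroup.mem_comap]
    show x * D.left _ * x⁻¹ ∈ _
    by_cases hi' : i + 2 ≤ m + 2
    · rw [hx, ← D.comm i hi' k t, mul_inv_cancel_right]
      exact ⟨_, rfl⟩
    · have e : shift i 2 (m + 3) hi = cO m :=
        Function.Embedding.ext fun j => Fin.ext (by simp [shift_val]; omega)
      rw [e, D.agree, hx, ← map_inv D.right, ← map_mul, ← map_mul]
      obtain ⟨c, hc⟩ := ht
      have hfix : emb c12 t * emb c01 k * (emb c12 t)⁻¹ ∈ (emb c01 : Cfsg.SU 2 F q →* _).range := by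
        rw [mem_range_emb_iff hF]
        intro l hl
        rw [mem_range_shift] at hl
        have hl2 : l = 2 := Fin.ext (by simp; omega)
        subst hl2
        have h2 : suAct (emb c12 t) (Pi.single 2 1) = c • (Pi.single 2 1 : Fin 3 → F) := by
          rw [← c12_one, suAct_emb_single, hc, map_smul, ext_single]
        have hc0 : c ≠ 0 := fun e => by
          have := suAct_inv_suAct (emb c12 t) (Pi.single 2 1 : Fin 3 → F)
          rw [h2, e, zero_smul, suAct_zero] at this
          exact zero_ne_one (α := F) (by simpa using congrFun this 2)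
        have h3 := suAct_inv_of h2
        rw [suAct_smul] at h3
        rw [suAct_mul, suAct_mul, (eq_inv_smul_iff₀ hc0).2 h3, suAct_smul, suAct_smul,
          suAct_emb_single_off hF c01 k (by rw [mem_range_shift]; simp), h2,
          inv_smul_smul₀ hc0]
      obtain ⟨k', hk'⟩ := hfix
      exact ⟨emb (cO m) k', by rw [D.agree, hk']⟩
  exact hle (show g ∈ gen (m + 3) F q by rw [gen_top hF hq (by omega)]; trivial)

/-- The lifted stabiliser of the last line. -/
def stab : Subgroup Γ where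
  carrier := {x | ∃ g, ∃ t : Cfsg.SU 2 F q, t ∈ tor ∧ x = D.left g * D.right (emb c12 t)}
  one_mem' := ⟨1, 1, one_mem _, by simp⟩
  mul_mem' := by
    rintro _ _ ⟨g, t, ht, rfl⟩ ⟨g', t', ht', rfl⟩
    obtain ⟨g'', hg''⟩ := D.tor_normal hF hq ht g'
    refine ⟨g * g'', t * t', mul_mem ht ht', ?_⟩
    rw [map_mul, map_mul, map_mul, hg'']
    group
  inv_mem' := by
    rintro _ ⟨g, t, ht, rfl⟩
    obtain ⟨g', hg'⟩ := D.tor_normal hF hq (inv_mem ht) g⁻¹
    refine ⟨g', t⁻¹, inv_mem ht, ?_⟩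
    rw [hg', map_inv, map_inv, map_inv]
    group

theorem left_mem (g : Cfsg.SU (m + 3) F q) : D.left g ∈ D.stab hF hq :=
  ⟨g, 1, one_mem _, by simp⟩

theorem right_mem {h : Cfsg.SU 3 F q} {c : F}
    (hh : suAct h (Pi.single 2 1) = c • Pi.single 2 1) : D.right h ∈ D.stab hF hq := by
  have hc : c ^ (q + 1) = 1 := norm_of_smul hF (single_unit hF 2)
    (by rw [← hh, suAct_herm, single_unit hF])
  obtain ⟨t, ht, hte⟩ := exists_tor hF hc
  have h2 : suAct (emb c12 t) (Pi.single 2 1) = c • (Pi.single 2 1 : Fin 3 → F) := by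
    rw [← c12_one, suAct_emb_single, hte, map_smul, ext_single]
  have hfix : h * (emb c12 t)⁻¹ ∈ (emb c01 : Cfsg.SU 2 F q →* _).range := by
    rw [mem_range_emb_iff hF]
    intro l hl
    rw [mem_range_shift] at hl
    have hl2 : l = 2 := Fin.ext (by simp; omega)
    subst hl2
    have hc0 : c ≠ 0 := fun e => by rw [e, zero_pow (Nat.succ_ne_zero q)] at hc; exact zero_ne_one hc
    have h3 := suAct_inv_of h2
    rw [suAct_smul] at h3
    rw [suAct_mul, (eq_inv_smul_iff₀ hc0).2 h3, suAct_smul, hh, inv_smul_smul₀ hc0]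
  obtain ⟨k, hk⟩ := hfix
  refine ⟨emb (cO m) k, t, ht, ?_⟩
  rw [D.agree, hk, ← map_mul, inv_mul_cancel_right]

theorem stab_line {x : Γ} (hx : x ∈ D.stab hF hq) :
    ∃ c : F, c ^ (q + 1) = 1 ∧ suAct (D.proj x) eL = c • eL := by
  obtain ⟨g, t, ⟨c, hc⟩, rfl⟩ := hx
  have h : suAct (D.proj (D.left g * D.right (emb c12 t))) eL = c • eL := by
    rw [map_mul, suAct_mul, last_eq_ext, D.proj_right_ext hF, ← c12_one, suAct_emb_single, hc,
      map_smul, ext_single, map_smul, c12_one, ← last_eq_ext, suAct_smul, D.proj_left_last hF]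
  exact ⟨c, norm_of_smul hF (single_unit hF _) (by rw [← h, suAct_herm, single_unit hF]), h⟩

theorem stab_injective {x : Γ} (hx : x ∈ D.stab hF hq) (h1 : D.proj x = 1) : x = 1 := by
  obtain ⟨g, t, ⟨c, hc⟩, rfl⟩ := hx
  have h : suAct (D.proj (D.left g * D.right (emb c12 t))) eL = c • eL := by
    rw [map_mul, suAct_mul, last_eq_ext, D.proj_right_ext hF, ← c12_one, suAct_emb_single, hc,
      map_smul, ext_single, map_smul, c12_one, ← last_eq_ext, suAct_smul, D.proj_left_last hF]
  rw [h1, suAct_one] at h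
  have hc1 : c = 1 := by simpa using (congrFun h (Fin.last (m + 3))).symm
  have ht : t = 1 := two_fix hF (by rw [hc, hc1, one_smul])
  rw [ht, map_one, map_one, mul_one] at h1 ⊢
  rw [D.proj_left] at h1
  rw [show g = 1 from emb_injective _ (h1.trans (map_one _).symm), map_one]

/-- The exchange element. -/
noncomputable def swap : Γ := D.right (emb c12 (exists_swap_two hF).choose)

theorem swap_right : ∃ W : Cfsg.SU 3 F q, D.swap hF = D.right W ∧
    W = emb c12 (exists_swap_two hF).choose ∧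
    suAct W (Pi.single 2 1) = Pi.single 1 1 ∧
    suAct W (Pi.single 1 1) = (-1 : F) • Pi.single 2 1 ∧
    suAct W (Pi.single 0 1) = Pi.single 0 1 := by
  obtain ⟨h1, h0⟩ := (exists_swap_two hF).choose_spec
  refine ⟨_, rfl, rfl, ?_, ?_, suAct_emb_single_off hF _ _ (by rw [mem_range_shift]; simp)⟩
  · rw [← c12_one, suAct_emb_single, h1, ext_single, c12_zero]
  · rw [← c12_zero, suAct_emb_single, h0, map_smul, ext_single, c12_one]

theorem swap_last : suAct (D.proj (D.swap hF)) eL = ext (cL m) eM := by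
  obtain ⟨W, hW, -, h2, -, -⟩ := D.swap_right hF hq
  rw [hW, last_eq_ext, D.proj_right_ext hF, h2, pen_eq_ext]

theorem swap_sq : D.swap hF * D.swap hF ∈ D.stab hF hq := by
  obtain ⟨W, hW, -, h2, h1, -⟩ := D.swap_right hF hq
  rw [hW, ← map_mul]
  exact D.right_mem hF hq (c := -1) (by rw [suAct_mul, h2, h1])

theorem swap_conj {p : Γ} (hp : p ∈ D.stab hF hq) {c : F}
    (hc : suAct (D.proj p) (ext (cL m) eM) = c • ext (cL m) eM) :
    (D.swap hF)⁻¹ * p * D.swap hF ∈ D.stab hF hq := by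
  obtain ⟨g, t, ⟨l, hl⟩, rfl⟩ := hp
  obtain ⟨a, ha⟩ := two_line hF hl
  have ha0 : a ≠ 0 := fun e => by
    have := suAct_herm t (Pi.single 0 1) (Pi.single 0 1)
    rw [ha, e, zero_smul, (hH hF).zero_left, single_unit hF] at this
    exact zero_ne_one this
  have hg : suAct g eM = (a⁻¹ * c) • eM := by
    apply ext_injective (cL m)
    have h1 : suAct (D.proj (D.right (emb c12 t))) (ext (cL m) eM) = a • ext (cL m) eM := by
      rw [pen_eq_ext, D.proj_right_ext hF, ← c12_zero, suAct_emb_single, ha, map_smul, map_smul,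
        ext_single]
    rw [map_mul, suAct_mul, h1, suAct_smul, D.proj_left, suAct_emb_ext] at hc
    rw [map_smul, mul_smul, ← hc, inv_smul_smul₀ ha0]
  set b := a⁻¹ * c
  have hb : b ^ (q + 1) = 1 := norm_of_smul hF (single_unit hF _)
    (by rw [← hg, suAct_herm, single_unit hF])
  obtain ⟨s, hs, hse⟩ := exists_tor hF hb
  have hb0 : b ≠ 0 := fun e => by rw [e, zero_pow (Nat.succ_ne_zero q)] at hb; exact zero_ne_one hb
  have hfix : g * (emb (cO m) s)⁻¹ ∈ (emb (cK m) : Cfsg.SU (m + 2) F q →* _).range := by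
    rw [mem_range_emb_iff hF]
    intro j hj
    rw [mem_range_shift] at hj
    have hj2 : j = Fin.last (m + 2) := Fin.ext (by simp; omega)
    subst hj2
    have h2 : suAct (emb (cO m) s) eM = b • eM := by
      rw [← cO_one, suAct_emb_single, hse, map_smul, ext_single]
    have h3 := suAct_inv_of h2
    rw [suAct_smul] at h3
    rw [suAct_mul, (eq_inv_smul_iff₀ hb0).2 h3, suAct_smul, hg, inv_smul_smul₀ hb0]
  obtain ⟨k, hk⟩ := hfix
  obtain ⟨W, hW, hWd, h2, h1, h0⟩ := D.swap_right hF hq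
  have hg' : g = emb (cK m) k * emb (cO m) s := by rw [hk, inv_mul_cancel_right]
  have hcomm := D.left_comm hF hq k (exists_swap_two hF).choose
  rw [← hWd] at hcomm
  have key : (D.swap hF)⁻¹ * (D.left g * D.right (emb c12 t)) * D.swap hF =
      D.left (emb (cK m) k) * D.right (W⁻¹ * (emb c01 s * emb c12 t) * W) := by
    rw [hW, hg', map_mul D.left, D.agree, map_mul, map_mul, map_mul, map_inv]
    calc _ = ((D.right W)⁻¹ * D.left (emb (cK m) k)) *
          (D.right (emb c01 s) * D.right (emb c12 t) * D.right W) := by group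
      _ = (D.left (emb (cK m) k) * (D.right W)⁻¹) *
          (D.right (emb c01 s) * D.right (emb c12 t) * D.right W) := by
        rw [(show Commute (D.left (emb (cK m) k)) (D.right W) from hcomm).inv_right.eq]
      _ = _ := by group
  rw [key]
  refine mul_mem (D.left_mem hF hq _) (D.right_mem hF hq (c := a * b) ?_)
  rw [suAct_mul, suAct_mul, suAct_mul, h2]
  rw [show suAct (emb c12 t) (Pi.single 1 1) = a • (Pi.single 1 1 : Fin 3 → F) by
      rw [← c12_zero, suAct_emb_single, ha, map_smul, ext_single],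
    suAct_smul,
    show suAct (emb c01 s) (Pi.single 1 1) = b • (Pi.single 1 1 : Fin 3 → F) by
      rw [← c01_one, suAct_emb_single, hse, map_smul, ext_single],
    suAct_smul, suAct_smul, suAct_inv_of h2, smul_smul]

/-- Two cosets through the same adjacency with proportional images coincide. -/
theorem coset_uniq {δ δ' : Γ} (h : (δ : Γ ⧸ D.stab hF hq) = δ') {c : F}
    (hv : suAct (D.proj δ') (ext (cL m) eM) = c • suAct (D.proj δ) (ext (cL m) eM)) :
    ((δ * D.swap hF : Γ) : Γ ⧸ D.stab hF hq) = ((δ' * D.swap hF : Γ) : Γ ⧸ D.stab hF hq) := by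
  rw [QuotientGroup.eq] at h ⊢
  have : suAct (D.proj (δ⁻¹ * δ')) (ext (cL m) eM) = c • ext (cL m) eM := by
    rw [map_mul, map_inv, suAct_mul, hv, suAct_smul, suAct_inv_suAct]
  have := D.swap_conj hF hq h this
  rwa [show (δ * D.swap hF)⁻¹ * (δ' * D.swap hF) = (D.swap hF)⁻¹ * (δ⁻¹ * δ') * D.swap hF by group]

theorem adj_symm_aux (γ : Γ) :
    ((γ * D.swap hF * D.swap hF : Γ) : Γ ⧸ D.stab hF hq) = (γ : Γ ⧸ D.stab hF hq) := by
  rw [QuotientGroup.eq, show (γ * D.swap hF * D.swap hF)⁻¹ * γ =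
    (D.swap hF * D.swap hF)⁻¹ by group]
  exact inv_mem (D.swap_sq hF hq)

theorem coset_eq {x y : Γ} {h : Cfsg.SU 3 F q} {c : F} (hy : y = x * D.right h)
    (hh : suAct h (Pi.single 2 1) = c • Pi.single 2 1) :
    (y : Γ ⧸ D.stab hF hq) = (x : Γ ⧸ D.stab hF hq) := by
  rw [hy]
  exact QuotientGroup.mk_mul_of_mem x (D.right_mem hF hq hh)

/-- The first coordinate of a unit vector of the last three can be brought to any position. -/
theorem exists_left_move {y : Fin (m + 3) → F} (hy : Cfsg.hermForm (m + 3) F q y y = 1) :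
    ∃ g : Cfsg.SU (m + 3) F q, suAct g eM = y := by
  obtain ⟨h, -, hh⟩ := exists_move hF hq (by omega) hy
  refine ⟨h⁻¹, ?_⟩
  have e : (⟨m + 3 - 1, by omega⟩ : Fin (m + 3)) = Fin.last (m + 2) := Fin.ext (by simp)
  rw [e] at hh
  exact suAct_inv_of hh

/-- Adjacency of cosets. -/
def CAdj (A B : Γ ⧸ D.stab hF hq) : Prop :=
  ∃ γ : Γ, (γ : Γ ⧸ D.stab hF hq) = A ∧ ((γ * D.swap hF : Γ) : Γ ⧸ D.stab hF hq) = B

/-- A coset lies over a vector. -/
def COver (A : Γ ⧸ D.stab hF hq) (v : Fin (m + 4) → F) : Prop :=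
  ∃ γ : Γ, (γ : Γ ⧸ D.stab hF hq) = A ∧ suAct (D.proj γ) eL = v

theorem cover_eq {x : Γ} {v : Fin (m + 4) → F} (h : D.COver hF hq x v) :
    ∃ c : F, c ^ (q + 1) = 1 ∧ v = c • suAct (D.proj x) eL := by
  obtain ⟨γ, hγ, rfl⟩ := h
  rw [eq_comm, QuotientGroup.eq] at hγ
  obtain ⟨c, hc, he⟩ := D.stab_line hF hq hγ
  refine ⟨c, hc, ?_⟩
  rw [show γ = x * (x⁻¹ * γ) by group, map_mul, suAct_mul, he, suAct_smul]

theorem cadj_symm {A B : Γ ⧸ D.stab hF hq} (h : D.CAdj hF hq A B) : D.CAdj hF hq B A := by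
  obtain ⟨γ, rfl, rfl⟩ := h
  exact ⟨γ * D.swap hF, rfl, D.adj_symm_aux hF hq γ⟩

theorem cover_smul {A : Γ ⧸ D.stab hF hq} {v : Fin (m + 4) → F} (c : F)
    (h : D.COver hF hq A v) (hc : c ^ (q + 1) = 1) : D.COver hF hq A (c • v) := by
  obtain ⟨γ, rfl, rfl⟩ := h
  obtain ⟨t, ht, hte⟩ := exists_tor hF hc
  have h2 : suAct (emb c12 t) (Pi.single 2 1) = c • (Pi.single 2 1 : Fin 3 → F) := by
    rw [← c12_one, suAct_emb_single, hte, map_smul, ext_single]
  refine ⟨γ * D.right (emb c12 t), D.coset_eq hF hq rfl h2, ?_⟩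
  rw [map_mul, suAct_mul, last_eq_ext, D.proj_right_ext hF, h2, map_smul, suAct_smul]

/-- A neighbour in the direction of a given vector. -/
theorem clift {A : Γ ⧸ D.stab hF hq} {v : Fin (m + 4) → F} (w : Fin (m + 4) → F)
    (hA : D.COver hF hq A v) (hw : Cfsg.hermForm (m + 4) F q w w = 1)
    (hvw : Cfsg.hermForm (m + 4) F q v w = 0) :
    ∃ B, D.CAdj hF hq A B ∧ D.COver hF hq B w := by
  obtain ⟨γ, rfl, rfl⟩ := hA
  set y := suAct (D.proj γ)⁻¹ w with hy
  have hy1 : Cfsg.hermForm (m + 4) F q y y = 1 := by rw [hy, suAct_herm, hw]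
  have hy0 : y (Fin.last (m + 3)) = 0 := by
    have h := suAct_herm (D.proj γ)⁻¹ w (suAct (D.proj γ) eL)
    rwa [suAct_inv_suAct, ← hy, hermForm_single hF, hm_symm0 hF hvw] at h
  have hyext : ext (cL m) (y ∘ cL m) = y := by
    funext i
    by_cases hi : i ∈ Set.range (cL m)
    · obtain ⟨j, rfl⟩ := hi
      rw [ext_on]; rfl
    · rw [ext_off _ _ hi]
      rw [mem_range_shift] at hi
      have : i = Fin.last (m + 3) := Fin.ext (by simp; omega)
      rw [this, hy0]
  obtain ⟨g, hg⟩ := exists_left_move hF hq (y := y ∘ cL m)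
    (by rw [← herm_ext hF (cL m), hyext, hy1])
  refine ⟨((γ * D.left g * D.swap hF : Γ) : Γ ⧸ D.stab hF hq),
    ⟨γ * D.left g, QuotientGroup.mk_mul_of_mem γ (D.left_mem hF hq g), rfl⟩,
    γ * D.left g * D.swap hF, rfl, ?_⟩
  rw [map_mul, suAct_mul, D.swap_last hF hq, map_mul, suAct_mul, D.proj_left, suAct_emb_ext, hg,
    hyext, hy, suAct_suAct_inv]

theorem clift_uniq {A B B' : Γ ⧸ D.stab hF hq} {w : Fin (m + 4) → F} (h : D.CAdj hF hq A B)
    (h' : D.CAdj hF hq A B') (hB : D.COver hF hq B w) (hB' : D.COver hF hq B' w) : B = B' := by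
  obtain ⟨γ, hγ, rfl⟩ := h
  obtain ⟨γ', hγ', rfl⟩ := h'
  obtain ⟨c, hc, e⟩ := D.cover_eq hF hq hB
  obtain ⟨c', hc', e'⟩ := D.cover_eq hF hq hB'
  rw [map_mul, suAct_mul, D.swap_last hF hq] at e e'
  have hc'0 : c' ≠ 0 := fun h0 => by
    rw [h0, zero_pow (Nat.succ_ne_zero q)] at hc'; exact zero_ne_one hc'
  refine D.coset_uniq hF hq (hγ.trans hγ'.symm) (c := c'⁻¹ * c) ?_
  rw [mul_smul, ← e, e', inv_smul_smul₀ hc'0]

theorem ctri {A B C : Γ ⧸ D.stab hF hq} {v w : Fin (m + 4) → F} (h : D.CAdj hF hq A B)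
    (h' : D.CAdj hF hq A C) (hB : D.COver hF hq B v) (hC : D.COver hF hq C w)
    (hvw : Cfsg.hermForm (m + 4) F q v w = 0) : D.CAdj hF hq B C := by
  classical
  have H := hH (d := m + 4) hF
  obtain ⟨γ, hγ, rfl⟩ := h
  obtain ⟨γ', hγ', rfl⟩ := h'
  have hpC : γ⁻¹ * γ' ∈ D.stab hF hq := QuotientGroup.eq.1 (hγ.trans hγ'.symm)
  obtain ⟨g, t, ⟨l, hl⟩, hgt⟩ := hpC
  obtain ⟨a, ha⟩ := two_line hF hl
  obtain ⟨c, hc, e⟩ := D.cover_eq hF hq hB
  obtain ⟨c', hc', e'⟩ := D.cover_eq hF hq hC
  have hγ'e : γ' = γ * (D.left g * D.right (emb c12 t)) := by rw [← hgt]; group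
  have h1 : suAct (D.proj (D.right (emb c12 t))) (ext (cL m) eM) = a • ext (cL m) eM := by
    rw [pen_eq_ext, D.proj_right_ext hF, ← c12_zero, suAct_emb_single, ha, map_smul, map_smul,
      ext_single]
  have ha0 : a ≠ 0 := fun e0 => by
    have := suAct_herm t (Pi.single 0 1) (Pi.single 0 1)
    rw [ha, e0, zero_smul, (hH hF).zero_left, single_unit hF] at this
    exact zero_ne_one this
  have hγ'pen : suAct (D.proj γ') (ext (cL m) eM) =
      a • suAct (D.proj γ) (ext (cL m) (suAct g eM)) := by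
    rw [hγ'e, map_mul, suAct_mul, map_mul, suAct_mul, h1, suAct_smul, suAct_smul, D.proj_left,
      suAct_emb_ext]
  -- the third vertex, seen from the first
  have hgz : suAct g eM (Fin.last (m + 2)) = 0 := by
    rw [map_mul, suAct_mul, D.swap_last hF hq] at e e'
    rw [hγ'pen] at e'
    rw [e, e', H.smul_left, H.smul_right, H.smul_right, suAct_herm, herm_ext hF] at hvw
    have hc0 : c ≠ 0 := fun h0 => by rw [h0, zero_pow (Nat.succ_ne_zero q)] at hc; exact zero_ne_one hc
    have hc'0 : c' ≠ 0 := fun h0 => by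
      rw [h0, zero_pow (Nat.succ_ne_zero q)] at hc'; exact zero_ne_one hc'
    have h0 : Cfsg.hermForm (m + 3) F q eM (suAct g eM) = 0 := by
      simpa [hc0, hc'0, ha0] using hvw
    rw [← hermForm_single hF (suAct g eM)]
    exact hm_symm0 hF h0
  set z := suAct g eM ∘ cK m with hz
  have hzext : ext (cK m) z = suAct g eM := by
    funext i
    by_cases hi : i ∈ Set.range (cK m)
    · obtain ⟨j, rfl⟩ := hi
      rw [ext_on]; rfl
    · rw [ext_off _ _ hi]
      rw [mem_range_shift] at hi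
      have : i = Fin.last (m + 2) := Fin.ext (by simp; omega)
      rw [this, hgz]
  obtain ⟨k, -, hk⟩ := exists_move hF hq (d := m + 2) (by omega) (x := z)
    (by rw [← herm_ext hF (cK m), hzext, suAct_herm, single_unit hF])
  have hk' := suAct_inv_of hk
  obtain ⟨W, hW, hWd, hW2, hW1, hW0⟩ := D.swap_right hF hq
  obtain ⟨hS1, hS0⟩ := (exists_swap_two hF).choose_spec
  set S := (exists_swap_two hF).choose with hS
  set δ := γ * D.left (emb (cK m) k⁻¹) with hδ
  have hδP : (δ : Γ ⧸ D.stab hF hq) = γ := QuotientGroup.mk_mul_of_mem γ (D.left_mem hF hq _)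
  have hB' : ((γ * D.swap hF : Γ) : Γ ⧸ D.stab hF hq) = ((δ * D.swap hF : Γ) : Γ ⧸ D.stab hF hq) := by
    have hcm := D.left_comm hF hq k⁻¹ S
    rw [← hWd, ← hW] at hcm
    rw [hδ, mul_assoc γ, hcm, ← mul_assoc]
    exact (QuotientGroup.mk_mul_of_mem _ (D.left_mem hF hq _)).symm
  have hS3 : suAct (emb c01 S) (Pi.single 1 1) = (Pi.single 0 1 : Fin 3 → F) := by
    rw [← c01_one, suAct_emb_single, hS1, ext_single, c01_zero]
  have hS2 : suAct (emb c01 S) (Pi.single 2 1) = (Pi.single 2 1 : Fin 3 → F) :=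
    suAct_emb_single_off hF _ _ (by rw [mem_range_shift]; simp)
  -- replace the representative of the third vertex
  have hC' : ((γ' * D.swap hF : Γ) : Γ ⧸ D.stab hF hq) =
      ((δ * D.right (emb c01 S) * D.swap hF : Γ) : Γ ⧸ D.stab hF hq) := by
    refine D.coset_uniq hF hq ?_ (c := a⁻¹) ?_
    · rw [hγ'.trans hγ.symm, D.coset_eq hF hq (x := δ) rfl (c := 1) (by rw [hS2, one_smul]), hδP]
    · rw [hγ'pen, inv_smul_smul₀ ha0, map_mul, suAct_mul, pen_eq_ext, D.proj_right_ext hF, hS3,
        hδ, map_mul, suAct_mul, ext_single, cR_zero, ← ext_single, D.proj_left, suAct_emb_ext]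
      congr 2
      rw [show (Pi.single (⟨m + 1, _⟩ : Fin (m + 3)) (1 : F)) =
        ext (cK m) (Pi.single ⟨m + 2 - 1, by omega⟩ 1) by
          rw [ext_single]; congr 1; exact Fin.ext (by simp [shift_val]),
        suAct_emb_ext, hk', hzext]
  rw [hB', hC']
  refine ⟨δ * D.swap hF * D.right (emb c01 S), D.coset_eq hF hq rfl (c := 1) (by rw [hS2, one_smul]),
    ?_⟩
  refine D.coset_eq hF hq (x := δ * D.right (emb c01 S) * D.swap hF)
    (h := (emb c01 S * W)⁻¹ * (W * emb c01 S * W)) (c := 1) ?_ ?_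
  · rw [hW, map_mul, map_inv, map_mul, map_mul, map_mul]
    group
  · rw [suAct_mul, suAct_mul, suAct_mul, hW2, hS3, hW0, one_smul]
    exact suAct_inv_of (by rw [suAct_mul, hW2, hS3])

/-- The cover of the graph of orthogonal points given by an amalgam. -/
def cov : Cov (m + 4) F q (Γ ⧸ D.stab hF hq) where
  Adj := D.CAdj hF hq
  Over := D.COver hF hq
  exists_over A := by
    obtain ⟨γ, rfl⟩ := QuotientGroup.mk_surjective A
    exact ⟨_, γ, rfl, rfl⟩
  unit := by
    rintro A v ⟨γ, -, rfl⟩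
    rw [suAct_herm, single_unit hF]
  over_smul c h hc := D.cover_smul hF hq c h hc
  over_uniq := by
    rintro A v w ⟨γ, rfl, rfl⟩ h
    exact D.cover_eq hF hq h
  symm := D.cadj_symm hF hq
  orth := by
    rintro A B v w ⟨γ, rfl, rfl⟩ hv hw
    obtain ⟨c, -, rfl⟩ := D.cover_eq hF hq hv
    obtain ⟨c', -, rfl⟩ := D.cover_eq hF hq hw
    rw [map_mul, suAct_mul, D.swap_last hF hq, (hH hF).smul_left, (hH hF).smul_right, suAct_herm,
      ext_single, hermForm_single hF, Pi.single_eq_of_ne, mul_zero, mul_zero]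
    exact fun e => last_notMem_cL ⟨_, e⟩
  lift w hA hw hvw := D.clift hF hq w hA hw hvw
  lift_uniq := D.clift_uniq hF hq
  tri := D.ctri hF hq

theorem stabActs : (D.cov hF hq).StabActs := by
  rintro g A a ⟨δ, rfl, rfl⟩ hg
  have hfix : (D.proj δ)⁻¹ * g * D.proj δ ∈ (emb (cL m) : Cfsg.SU (m + 3) F q →* _).range := by
    rw [mem_range_emb_iff hF]
    intro i hi
    rw [mem_range_shift] at hi
    have : i = Fin.last (m + 3) := Fin.ext (by simp; omega)
    rw [this, suAct_mul, suAct_mul, hg, suAct_inv_suAct]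
  obtain ⟨k, hk⟩ := hfix
  refine ⟨fun X => (δ * D.left k * δ⁻¹) • X, ?_, ?_, ?_⟩
  · show (((δ * D.left k * δ⁻¹) * δ : Γ) : Γ ⧸ D.stab hF hq) = _
    rw [inv_mul_cancel_right]
    exact QuotientGroup.mk_mul_of_mem δ (D.left_mem hF hq k)
  · rintro X Y ⟨γ, rfl, rfl⟩
    exact ⟨δ * D.left k * δ⁻¹ * γ, rfl, by rw [mul_assoc]; rfl⟩
  · rintro X v ⟨γ, rfl, rfl⟩
    refine ⟨δ * D.left k * δ⁻¹ * γ, rfl, ?_⟩
    rw [map_mul, suAct_mul, map_mul, map_mul, map_inv, D.proj_left, hk]
    congr 1
    congr 1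
    group

/-- The vertices over a hyperbolic or definite pair, in dimension four. -/
theorem well_nondeg (hm0 : m = 0) {A : Γ ⧸ D.stab hF hq} {a x : Fin (m + 4) → F}
    (hA : D.COver hF hq A a) (hx : Cfsg.hermForm (m + 4) F q x x = 1)
    (hne : Cfsg.hermForm (m + 4) F q a x ^ (q + 1) ≠ 1) : (D.cov hF hq).Well A a x := by
  classical
  obtain ⟨γ, rfl, rfl⟩ := hA
  have H := hH (d := m + 4) hF
  set x' := suAct (D.proj γ)⁻¹ x with hx'
  set α := x' (Fin.last (m + 3)) with hα
  have hαa : Cfsg.hermForm (m + 4) F q (suAct (D.proj γ) eL) x = α ^ q := by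
    rw [← suAct_suAct_inv (D.proj γ) x, ← hx', suAct_herm, hm_symm hF, hermForm_single hF]
  rw [hαa, ← pow_mul, mul_comm, pow_mul] at hne
  have hα1 : α ^ (q + 1) ≠ 1 := fun e => hne (by rw [e, one_pow])
  set y := x' ∘ cL m with hy
  have hxsplit : x' = ext (cL m) y + α • eL := by
    funext i
    by_cases hi : i ∈ Set.range (cL m)
    · obtain ⟨j, rfl⟩ := hi
      rw [Pi.add_apply, ext_on, Pi.smul_apply,
        Pi.single_eq_of_ne (fun e : cL m j = _ => last_notMem_cL ⟨j, e⟩),
        smul_zero, add_zero]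
      rfl
    · rw [Pi.add_apply, ext_off _ _ hi, zero_add]
      rw [mem_range_shift] at hi
      have : i = Fin.last (m + 3) := Fin.ext (by simp; omega)
      subst this
      simp [hα]
  have hyy : Cfsg.hermForm (m + 3) F q y y = 1 - α ^ (q + 1) := by
    have h1 : Cfsg.hermForm (m + 4) F q x' x' = 1 := by rw [hx', suAct_herm, hx]
    have h0 : ext (cL m) y (Fin.last (m + 3)) = 0 := ext_off _ _ last_notMem_cL
    rw [hxsplit, H.add_left, H.add_right hF, H.add_right hF, herm_ext hF, H.smul_left,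
      H.smul_left, H.smul_right, H.smul_right, hermForm_single hF, hm_symm hF (ext (cL m) y),
      hermForm_single hF, single_unit hF, h0, zero_pow_q hF] at h1
    rw [pow_succ]
    linear_combination h1
  obtain ⟨c, hc0, -, hcu⟩ := exists_scale hF (v := y) (by rw [hyy]; exact sub_ne_zero.2 (Ne.symm hα1))
  obtain ⟨k, hk⟩ := exists_left_move hF hq hcu
  set δ := γ * D.left k with hδ
  have hδP : (δ : Γ ⧸ D.stab hF hq) = γ := QuotientGroup.mk_mul_of_mem γ (D.left_mem hF hq k)
  -- the target seen from the new representative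
  have hxδ : x = suAct (D.proj δ) (ext (cR m) ![0, c⁻¹, α]) := by
    have e3 : (![0, c⁻¹, α] : Fin 3 → F) = c⁻¹ • Pi.single 1 1 + α • Pi.single 2 1 := by
      funext i; fin_cases i <;> simp
    rw [hδ, map_mul, suAct_mul, e3, map_add, map_smul, map_smul, ← pen_eq_ext, ← last_eq_ext,
      suAct_add, suAct_smul, suAct_smul, D.proj_left_last hF, D.proj_left, suAct_emb_ext, hk,
      map_smul, inv_smul_smul₀ hc0, ← hxsplit, hx', suAct_suAct_inv]
  have hu : Cfsg.hermForm 2 F q ![c⁻¹, α] ![c⁻¹, α] = 1 := by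
    rw [← hx, hxδ, suAct_herm, herm_ext hF]
    simp [Cfsg.hermForm, Fin.sum_univ_two, Fin.sum_univ_three, zero_pow_q hF]
  obtain ⟨u, hu'⟩ := exists_su_two hF (u := (Pi.single 1 1 : Fin 2 → F)) (v := ![c⁻¹, α])
    (by rw [single_unit hF]; exact one_ne_zero) (by rw [single_unit hF, hu])
  have hu3 : suAct (emb c12 u) (Pi.single 2 1) = (![0, c⁻¹, α] : Fin 3 → F) := by
    rw [← c12_one, suAct_emb_single, hu']
    funext i
    fin_cases i
    · exact ext_off _ _ (by rw [mem_range_shift]; simp)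
    · exact ext_on c12 _ 0
    · exact ext_on c12 _ 1
  -- every lift is this vertex
  intro b b' X X' hba hbx hb'a hb'x h h'
  suffices key : ∀ b X, Cfsg.hermForm (m + 4) F q b x = 0 →
      (D.cov hF hq).Path2 (γ : Γ ⧸ D.stab hF hq) b x X →
      X = ((δ * D.right (emb c12 u) : Γ) : Γ ⧸ D.stab hF hq) from
    (key b X hbx h).trans (key b' X' hb'x h').symm
  rintro b X hbx ⟨B, hB, hBb, hX, hXx⟩
  have hb : Cfsg.hermForm (m + 4) F q b b = 1 := (D.cov hF hq).unit hBb
  have hba : Cfsg.hermForm (m + 4) F q (suAct (D.proj γ) eL) b = 0 :=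
    (D.cov hF hq).orth hB (show D.COver hF hq _ _ from ⟨γ, rfl, rfl⟩) hBb
  set b₁ := suAct (D.proj δ)⁻¹ b with hb₁
  have hδlast : suAct (D.proj δ) eL = suAct (D.proj γ) eL := by
    rw [hδ, map_mul, suAct_mul, D.proj_left_last hF]
  have hb3 : b₁ (Fin.last (m + 3)) = 0 := by
    rw [← hermForm_single hF b₁, hb₁, ← suAct_inv_suAct (D.proj δ) eL, suAct_herm, hδlast]
    exact hm_symm0 hF hba
  have hb2 : b₁ (cR m 1) = 0 := by
    have h1 : Cfsg.hermForm (m + 4) F q b₁ (ext (cR m) ![0, c⁻¹, α]) = 0 := by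
      rw [hb₁, ← suAct_inv_suAct (D.proj δ) (ext (cR m) ![0, c⁻¹, α]), suAct_herm, ← hxδ, hbx]
    rw [hermForm_split (cR m), ext_comp, Finset.sum_eq_zero (fun i _ => by
      rw [ext_off _ _ i.2, zero_pow_q hF, mul_zero]), add_zero] at h1
    simp only [Cfsg.hermForm, Fin.sum_univ_three, Function.comp_apply, Matrix.cons_val_zero,
      Matrix.cons_val_one, Matrix.cons_val, zero_pow_q hF, mul_zero, zero_add] at h1
    rw [show cR m 2 = Fin.last (m + 3) from cR_two, hb3, zero_mul, add_zero] at h1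
    exact (mul_eq_zero.1 h1).resolve_right (pow_ne_zero _ (inv_ne_zero hc0))
  let e01 : Fin 2 ↪ Fin (m + 3) := shift 0 2 (m + 3) (by omega)
  set b₂ := b₁ ∘ (e01.trans (cL m)) with hb₂
  have hbext : ext (e01.trans (cL m)) b₂ = b₁ := by
    funext i
    by_cases hi : i ∈ Set.range (e01.trans (cL m))
    · obtain ⟨j, rfl⟩ := hi
      rw [ext_on]; rfl
    · rw [ext_off _ _ hi]
      rw [show e01.trans (cL m) = shift 0 2 (m + 4) (by omega) from shift_trans _ _,
        mem_range_shift] at hi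
      have : i = cR m 1 ∨ i = Fin.last (m + 3) := by
        simp only [Fin.ext_iff, shift_val, Fin.val_last, Fin.val_one]; omega
      rcases this with rfl | rfl
      · exact hb2.symm
      · exact hb3.symm
  obtain ⟨k₁, hk₁⟩ := exists_su_two hF (u := (Pi.single 1 1 : Fin 2 → F)) (v := b₂)
    (by rw [single_unit hF]; exact one_ne_zero)
    (by rw [single_unit hF, ← herm_ext hF (e01.trans (cL m)), hbext, hb₁, suAct_herm, hb])
  obtain ⟨hS1, -⟩ := (exists_swap_two hF).choose_spec
  set S := (exists_swap_two hF).choose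
  obtain ⟨W, hW, -, hW2, -, -⟩ := D.swap_right hF hq
  set K := D.left (emb e01 k₁)
  have hS3 : suAct (emb c01 S) (Pi.single 1 1) = (Pi.single 0 1 : Fin 3 → F) := by
    rw [← c01_one, suAct_emb_single, hS1, ext_single, c01_zero]
  set B₀ : Γ := δ * K * D.right (emb c01 S) * D.swap hF with hB₀
  have hAB₀ : (D.cov hF hq).Adj (γ : Γ ⧸ D.stab hF hq) (B₀ : Γ ⧸ D.stab hF hq) := by
    refine ⟨δ * K * D.right (emb c01 S), ?_, rfl⟩
    rw [D.coset_eq hF hq (x := δ * K) rfl (c := 1)
      (by rw [one_smul, suAct_emb_single_off hF _ _ (by rw [mem_range_shift]; simp)]),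
      QuotientGroup.mk_mul_of_mem δ (D.left_mem hF hq _), hδP]
  have hB₀b : (D.cov hF hq).Over (B₀ : Γ ⧸ D.stab hF hq) b := by
    refine ⟨B₀, rfl, ?_⟩
    rw [hB₀, map_mul, suAct_mul, D.swap_last hF hq, map_mul, suAct_mul, pen_eq_ext,
      D.proj_right_ext hF, hS3, map_mul, suAct_mul, ext_single, cR_zero, ← ext_single,
      D.proj_left, suAct_emb_ext]
    rw [show (Pi.single (⟨m + 1, _⟩ : Fin (m + 3)) (1 : F)) = ext e01 (Pi.single 1 1) by
      rw [ext_single]; congr 1; exact Fin.ext (by simp [e01, shift_val]; omega), suAct_emb_ext, hk₁]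
    rw [show ext (cL m) (ext e01 b₂) = ext (e01.trans (cL m)) b₂ from ?_, hbext, hb₁,
      suAct_suAct_inv]
    funext i
    by_cases hi : i ∈ Set.range (e01.trans (cL m))
    · obtain ⟨j, rfl⟩ := hi
      rw [ext_on, Function.Embedding.trans_apply, ext_on, ext_on]
    · rw [ext_off _ _ hi]
      by_cases hi' : i ∈ Set.range (cL m)
      · obtain ⟨j, rfl⟩ := hi'
        rw [ext_on, ext_off]
        exact fun ⟨l, hl⟩ => hi ⟨l, by rw [Function.Embedding.trans_apply, hl]⟩
      · rw [ext_off _ _ hi']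
  obtain rfl := (D.cov hF hq).lift_uniq hB hAB₀ hBb hB₀b
  refine (D.cov hF hq).lift_uniq hX ?_ hXx ⟨δ * D.right (emb c12 u), rfl, by
    rw [map_mul, suAct_mul, last_eq_ext, D.proj_right_ext hF, hu3, hxδ]⟩
  refine D.cadj_symm hF hq ?_
  refine ⟨δ * D.right (emb c12 u) * K * D.right (emb c01 S), ?_, ?_⟩
  · rw [D.coset_eq hF hq (x := δ * D.right (emb c12 u) * K) rfl (c := 1)
      (by rw [one_smul, suAct_emb_single_off hF _ _ (by rw [mem_range_shift]; simp)]),
      QuotientGroup.mk_mul_of_mem _ (D.left_mem hF hq _)]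
  · have hcm : D.right (emb c12 u) * K = K * D.right (emb c12 u) :=
      (D.comm 0 (by omega) k₁ u).symm
    refine D.coset_eq hF hq (x := B₀)
      (h := (emb c01 S * W)⁻¹ * (emb c12 u * (emb c01 S * W))) (c := 1) ?_ ?_
    · rw [hB₀, mul_assoc δ, hcm, hW, map_mul, map_mul, map_inv, map_mul]
      group
    · rw [suAct_mul, suAct_mul, suAct_mul, hW2, hS3,
        suAct_emb_single_off hF _ _ (by rw [mem_range_shift]; simp), one_smul]
      exact suAct_inv_of (by rw [suAct_mul, hW2, hS3])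

theorem well (h4 : m = 0 → 4 ≤ q) {A : Γ ⧸ D.stab hF hq} {a x : Fin (m + 4) → F}
    (hA : D.COver hF hq A a) (hx : Cfsg.hermForm (m + 4) F q x x = 1) :
    (D.cov hF hq).Well A a x := by
  rcases Nat.eq_zero_or_pos m with hm0 | hm0
  · exact (D.cov hF hq).well_four hF (by omega) (h4 hm0) (D.stabActs hF hq)
      (fun A a x hA hx hne => D.well_nondeg hF hq hm0 hA hx hne) hA hx
  · exact (D.cov hF hq).well_five hF (by omega) hq hA hx

/-- Every coset is connected with the base. -/
theorem connected (R : Set (Γ ⧸ D.stab hF hq)) (h1 : ((1 : Γ) : Γ ⧸ D.stab hF hq) ∈ R)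
    (hcl : ∀ X Y, X ∈ R → D.CAdj hF hq X Y → Y ∈ R) (γ : Γ) :
    (γ : Γ ⧸ D.stab hF hq) ∈ R := by
  classical
  let M : Subgroup (Cfsg.SU 3 F q) :=
    { carrier := {h | ∀ x : Γ,
        ((x : Γ ⧸ D.stab hF hq) ∈ R ↔ ((x * D.right h : Γ) : Γ ⧸ D.stab hF hq) ∈ R)}
      one_mem' := fun x => by simp
      mul_mem' := fun {a b} ha hb x => by
        rw [map_mul, ← mul_assoc, ha x, hb (x * D.right a)]
      inv_mem' := fun {a} ha x => by
        rw [ha (x * D.right a⁻¹), mul_assoc, ← map_mul, inv_mul_cancel, map_one, mul_one] }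
  have hM : ∀ h, h ∈ M := by
    have hle : gen 3 F q ≤ M := by
      refine iSup₂_le fun i hi => ?_
      rintro _ ⟨g, rfl⟩ x
      by_cases hi0 : i = 0
      · subst hi0
        rw [D.coset_eq hF hq (x := x) rfl (c := 1)
          (by rw [one_smul, suAct_emb_single_off hF _ _ (by rw [mem_range_shift]; simp)])]
      · obtain rfl : i = 1 := by omega
        obtain ⟨W, hW, hWd, hW2, hW1, hW0⟩ := D.swap_right hF hq
        obtain ⟨hS1, -⟩ := (exists_swap_two hF).choose_spec
        set S := (exists_swap_two hF).choose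
        have hS3 : suAct (emb c01 S) (Pi.single 1 1) = (Pi.single 0 1 : Fin 3 → F) := by
          rw [← c01_one, suAct_emb_single, hS1, ext_single, c01_zero]
        have hS2 : suAct (emb c01 S) (Pi.single 2 1) = (1 : F) • (Pi.single 2 1 : Fin 3 → F) := by
          rw [one_smul, suAct_emb_single_off hF _ _ (by rw [mem_range_shift]; simp)]
        have hst : ∀ z : Γ, D.CAdj hF hq z
            ((z * D.right (emb c01 S) * D.swap hF : Γ) : Γ ⧸ D.stab hF hq) := fun z =>
          ⟨z * D.right (emb c01 S), D.coset_eq hF hq rfl hS2, rfl⟩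
        have hsame : ((x * D.right (emb c12 g) * D.right (emb c01 S) * D.swap hF : Γ) :
              Γ ⧸ D.stab hF hq) =
            ((x * D.right (emb c01 S) * D.swap hF : Γ) : Γ ⧸ D.stab hF hq) := by
          refine D.coset_eq hF hq
            (h := (emb c01 S * W)⁻¹ * (emb c12 g * (emb c01 S * W))) (c := 1) ?_ ?_
          · rw [hW, map_mul, map_mul, map_inv, map_mul]
            group
          · rw [suAct_mul, suAct_mul, suAct_mul, hW2, hS3,
              suAct_emb_single_off hF _ _ (by rw [mem_range_shift]; simp), one_smul]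
            exact suAct_inv_of (by rw [suAct_mul, hW2, hS3])
        have h2 := hst (x * D.right (emb c12 g))
        rw [hsame] at h2
        constructor
        · exact fun hx => hcl _ _ (hcl _ _ hx (hst x)) (D.cadj_symm hF hq h2)
        · exact fun hx => hcl _ _ (hcl _ _ hx h2) (D.cadj_symm hF hq (hst x))
    exact fun h => hle (by rw [gen_top hF hq (by omega)]; trivial)
  have hγ : γ ∈ Subgroup.closure (Set.range D.left ∪ Set.range D.right) := by
    rw [D.generates]; trivial
  induction hγ using Subgroup.closure_induction_right with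
  | one => exact h1
  | mul_right x _ y hy ih =>
    rcases hy with ⟨g, rfl⟩ | ⟨g, rfl⟩
    · rwa [QuotientGroup.mk_mul_of_mem x (D.left_mem hF hq g)]
    · exact (hM g x).1 ih
  | mul_inv_cancel x _ y hy ih =>
    rcases hy with ⟨g, rfl⟩ | ⟨g, rfl⟩
    · rwa [QuotientGroup.mk_mul_of_mem x (inv_mem (D.left_mem hF hq g))]
    · rw [← map_inv]
      exact (hM g⁻¹ x).1 ih

theorem surjective : Function.Surjective D.proj := by
  rw [← MonoidHom.range_eq_top, eq_top_iff, ← gen_top hF hq (by omega : 2 ≤ m + 4)]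
  refine iSup₂_le fun i hi => ?_
  rintro _ ⟨g, rfl⟩
  by_cases hi' : i + 2 ≤ m + 3
  · refine ⟨D.left (emb (shift i 2 (m + 3) hi') g), ?_⟩
    rw [D.proj_left, emb_comp]
    congr 2
    exact Function.Embedding.ext fun j => Fin.ext (by simp [shift_val])
  · refine ⟨D.right (emb c12 g), ?_⟩
    rw [D.proj_right, emb_comp]
    congr 2
    exact Function.Embedding.ext fun j => Fin.ext (by simp [shift_val]; omega)

theorem bijective (h4 : m = 0 → 4 ≤ q) : Function.Bijective D.proj := by
  refine ⟨(injective_iff_map_eq_one _).2 fun x hx => ?_, D.surjective hF hq⟩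
  have hxe : D.COver hF hq x eL := ⟨x, rfl, by rw [hx, suAct_one]⟩
  have h1e : D.COver hF hq (1 : Γ) eL := ⟨1, rfl, by rw [map_one, suAct_one]⟩
  have := (D.cov hF hq).eq_of_over hF (by omega) (fun A a y hA hy => D.well hF hq h4 hA hy)
    (fun R hR hcl => D.connected hF hq R hR hcl x) h1e hxe
  rw [QuotientGroup.eq, inv_one, one_mul] at this
  exact D.stab_injective hF hq this hx

end AmalgamData

end Cfsg.Agent.Phan
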