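/-
Gluing homomorphisms of SU_{m+3} and SU_3 to one of SU_{m+4}.

* `exists_glue`: agreeing homomorphisms on the first part and on the last three coordinates extend.
-/
import Cfsg.Agent.Lib.Phan.Amalgam

set_option autoImplicit false

namespace Cfsg.Agent.Phan

open Cfsg.Agent.Unitary

variable {F : Type*} [Field F] [Fintype F] {q m : ℕ} {G : Type*} [Group G]

/-- Agreeing homomorphisms of SU_{m+3} and SU_3 extend to SU_{m+4}. -/
theorem exists_glue (hF : Fintype.card F = q ^ 2) (hq : 3 ≤ q) (h4 : m = 0 → 4 ≤ q)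
    (ψ : Cfsg.SU (m + 3) F q →* G) (χ : Cfsg.SU 3 F q →* G)
    (hagree : ∀ g, ψ (emb (cO m) g) = χ (emb c01 g))
    (hcomm : ∀ (i : ℕ) (hi : i + 2 ≤ m + 2) (g h : Cfsg.SU 2 F q),
      Commute (ψ (emb (shift i 2 (m + 3) (by omega)) g)) (χ (emb c12 h))) :
    ∃ Ψ : Cfsg.SU (m + 4) F q →* G,
      (∀ g, Ψ (emb (cL m) g) = ψ g) ∧ ∀ h, Ψ (emb (cR m) h) = χ h := by
  let gψ := (emb (cL m) : Cfsg.SU (m + 3) F q →* _).prod ψ
  let gχ := (emb (cR m) : Cfsg.SU 3 F q →* _).prod χ
  let Γ : Subgroup (Cfsg.SU (m + 4) F q × G) :=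
    Subgroup.closure (Set.range gψ ∪ Set.range gχ)
  let l : Cfsg.SU (m + 3) F q →* Γ :=
    gψ.codRestrict Γ fun g => Subgroup.subset_closure (Or.inl ⟨g, rfl⟩)
  let r : Cfsg.SU 3 F q →* Γ :=
    gχ.codRestrict Γ fun g => Subgroup.subset_closure (Or.inr ⟨g, rfl⟩)
  have hO : (cO m).trans (cL m) = c01.trans (cR m) := by
    rw [shift_trans, shift_trans]
    exact Function.Embedding.ext fun i => Fin.ext (by simp [shift_val])
  let D : AmalgamData F q m Γ :=
    { proj := (MonoidHom.fst _ _).comp Γ.subtype
      left := l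
      right := r
      proj_left := fun g => rfl
      proj_right := fun g => rfl
      agree := fun g => Subtype.ext (Prod.ext
        (show emb (cL m) (emb (cO m) g) = emb (cR m) (emb c01 g) by rw [emb_comp, emb_comp, hO])
        (hagree g))
      comm := fun i hi g h => Subtype.ext (Prod.ext
        (show emb (cL m) _ * emb (cR m) _ = emb (cR m) _ * emb (cL m) _ by
          rw [emb_comp, emb_comp]
          refine emb_commute _ _ (fun a b e => ?_) g h
          have := congrArg Fin.val e
          simp only [Function.Embedding.trans_apply, shift_val] at this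
          omega)
        (hcomm i hi g h).eq)
      generates := by
        refine Subgroup.map_injective Γ.subtype_injective ?_
        rw [MonoidHom.map_closure, ← MonoidHom.range_eq_map, Subgroup.range_subtype, Set.image_union,
          ← Set.range_comp, ← Set.range_comp]
        rfl }
  let E := MulEquiv.ofBijective D.proj (D.bijective hF hq h4)
  refine ⟨((MonoidHom.snd _ _).comp Γ.subtype).comp E.symm.toMonoidHom, fun g => ?_, fun h => ?_⟩
  · have : E.symm (emb (cL m) g) = l g := E.injective (by rw [E.apply_symm_apply]; rfl)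
    show (E.symm (emb (cL m) g) : Cfsg.SU (m + 4) F q × G).2 = _
    rw [this]; rfl
  · have : E.symm (emb (cR m) h) = r h := E.injective (by rw [E.apply_symm_apply]; rfl)
    show (E.symm (emb (cR m) h) : Cfsg.SU (m + 4) F q × G).2 = _
    rw [this]; rfl

end Cfsg.Agent.Phan
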