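/-
Automorphisms of SU_n given by a field automorphism and a diagonal matrix, and automorphisms of
SU_2 preserving the diagonal torus.

* `twist s w`: x ↦ diag(w) s(x) diag(w)⁻¹, `twist_emb`.
* `su_two_ext`: an element of SU_2 is determined by its first column.
* `exists_twist_of_tor`: an automorphism of SU_2 preserving the torus is a twist.
-/
import Cfsg.Agent.Lib.Phan.Amalgam
import Cfsg.Agent.Lib.AutPSL.Count
import Cfsg.Agent.Lib.GLOrder.Basic

set_option autoImplicit false

namespace Cfsg.Agent.Phan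

open Cfsg.Agent.Unitary
open scoped Matrix

variable {F : Type*} [Field F] {q d k : ℕ}

/-- The underlying matrix. -/
abbrev mat (g : Cfsg.SU d F q) : Matrix (Fin d) (Fin d) F :=
  ((g : Matrix.SpecialLinearGroup (Fin d) F) : Matrix (Fin d) (Fin d) F)

theorem mat_injective : Function.Injective (mat : Cfsg.SU d F q → Matrix (Fin d) (Fin d) F) :=
  fun _ _ h => Subtype.ext (Subtype.ext h)

theorem mat_eq_suAct (g : Cfsg.SU d F q) (i j : Fin d) :
    mat g i j = suAct g (Pi.single j 1) i := by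
  rw [suAct, Matrix.mulVec_single_one]
  rfl

theorem blockMat_apply_on (e : Fin k ↪ Fin d) (A : Matrix (Fin k) (Fin k) F) (i j : Fin k) :
    blockMat e A (e i) (e j) = A i j := by
  simp [blockMat, ← coordEquiv_inl]

theorem blockMat_apply_off (e : Fin k ↪ Fin d) (A : Matrix (Fin k) (Fin k) F) {i j : Fin d}
    (h : i ∉ Set.range e ∨ j ∉ Set.range e) :
    blockMat e A i j = (1 : Matrix (Fin d) (Fin d) F) i j := by
  classical
  obtain ⟨x, rfl⟩ := (coordEquiv e).surjective i
  obtain ⟨y, rfl⟩ := (coordEquiv e).surjective j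
  rcases x with x | x <;> rcases y with y | y
  · rcases h with h | h <;> exact absurd ⟨_, rfl⟩ h
  all_goals simp [blockMat, Matrix.one_apply, Subtype.ext_iff]

/-- SL_2 of a finite field with at least four elements is perfect. -/
theorem sl_two_perfect {K : Type*} [Field K] [Finite K] (hK : 4 ≤ Nat.card K) :
    commutator (Matrix.SpecialLinearGroup (Fin 2) K) = ⊤ := by
  classical
  refine Linear.commutator_sl_eq_top (Or.inr ?_)
  by_contra hcon
  push Not at hcon
  have hsub : (Set.univ : Set K) ⊆ ({0, 1, -1} : Set K) := fun x _ => by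
    by_cases hx : x = 0
    · simp [hx]
    · rcases sq_eq_one_iff.1 (hcon x hx) with h | h <;> simp [h]
  have h1 := Set.ncard_le_ncard hsub (Set.toFinite _)
  have h2 : ({0, 1, -1} : Set K).ncard ≤ 3 :=
    (Set.ncard_insert_le _ _).trans (Nat.succ_le_succ ((Set.ncard_insert_le _ _).trans
      (by rw [Set.ncard_singleton])))
  rw [Set.ncard_univ] at h1
  omega

/-- Every automorphism of SL_2 of a finite field is semilinear. -/
theorem exists_sl_two_semi {K : Type*} [Field K] [Finite K]
    (θ' : MulAut (Matrix.SpecialLinearGroup (Fin 2) K)) :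
    ∃ (g : GL (Fin 2) K) (σ : K ≃+* K), ∀ A, θ' A = AutPSL.semiSL g σ A := by
  classical
  let β : MulAut (Matrix.ProjectiveSpecialLinearGroup (Fin (0 + 2)) K) :=
    QuotientGroup.congr _ _ θ' (Linear.map_center_mulEquiv θ')
  obtain ⟨g, σ, hβ⟩ := AutPSL.exists_semi_of_two β
  refine ⟨g, σ, ?_⟩
  have hcen : ∀ A, θ' A * (AutPSL.semiSL g σ A)⁻¹ ∈
      Subgroup.center (Matrix.SpecialLinearGroup (Fin 2) K) := fun A => by
    have h := congrArg (fun b : MulAut _ => b (AutPSL.proj (Fin (0 + 2)) K A)) hβ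
    rw [show β (AutPSL.proj (Fin (0 + 2)) K A) = AutPSL.proj (Fin (0 + 2)) K (θ' A) from rfl,
      AutPSL.semi_proj] at h
    have := (QuotientGroup.eq).1 h.symm
    have h2 := Subgroup.Normal.conj_mem inferInstance _ this (AutPSL.semiSL g σ A)
    rwa [mul_inv_cancel_left] at h2
  let hh : Matrix.SpecialLinearGroup (Fin 2) K →*
      Subgroup.center (Matrix.SpecialLinearGroup (Fin 2) K) :=
    MonoidHom.mk' (fun A => ⟨θ' A * (AutPSL.semiSL g σ A)⁻¹, hcen A⟩) fun A B => Subtype.ext (by
      have hc := Subgroup.mem_center_iff.1 (hcen B) ((AutPSL.semiSL g σ A)⁻¹)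
      simp only [Subgroup.coe_mul, map_mul, mul_inv_rev]
      calc θ' A * θ' B * ((AutPSL.semiSL g σ B)⁻¹ * (AutPSL.semiSL g σ A)⁻¹)
          = θ' A * ((θ' B * (AutPSL.semiSL g σ B)⁻¹) * (AutPSL.semiSL g σ A)⁻¹) := by group
        _ = θ' A * ((AutPSL.semiSL g σ A)⁻¹ * (θ' B * (AutPSL.semiSL g σ B)⁻¹)) := by rw [hc]
        _ = _ := by group)
  have hcsq : ∀ z ∈ Subgroup.center (Matrix.SpecialLinearGroup (Fin 2) K),
      z ^ 2 = 1 ∧ (ringChar K = 2 → z = 1) := fun z hz => by
    obtain ⟨r, hr, hr'⟩ := Matrix.SpecialLinearGroup.mem_center_iff.mp hz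
    rw [Fintype.card_fin] at hr
    refine ⟨Subtype.ext ?_, fun hp => Subtype.ext ?_⟩
    · rw [Matrix.SpecialLinearGroup.coe_pow, ← hr', ← map_pow, hr, map_one,
        Matrix.SpecialLinearGroup.coe_one]
    · have : CharP K 2 := hp ▸ ringChar.charP K
      rw [← hr', Matrix.SpecialLinearGroup.coe_one,
        show r = 1 from CharTwo.sq_injective (by simpa using hr), map_one]
  have hker : Subgroup.closure (Linear.slTvSet (Fin 2) K) ≤ hh.ker := by
    rw [Subgroup.closure_le]
    rintro _ ⟨i, j, hij, c, rfl⟩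
    rw [SetLike.mem_coe, MonoidHom.mem_ker]
    set t := Matrix.SpecialLinearGroup.transvection hij c
    obtain ⟨h2, h2'⟩ := hcsq _ (hh t).2
    refine Subtype.ext ?_
    rw [Subgroup.coe_one]
    by_cases hp : ringChar K = 2
    · exact h2' hp
    have : Fact (ringChar K).Prime := ⟨CharP.char_is_prime K _⟩
    have htp : t ^ ringChar K = 1 := by
      have hn : ∀ n : ℕ, t ^ n = Matrix.SpecialLinearGroup.transvection hij ((n : K) * c) := by
        intro n
        induction n with
        | zero => exact Subtype.ext (by simp [Matrix.transvection_zero])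
        | succ n ih =>
          rw [pow_succ, ih]
          refine Subtype.ext ((Matrix.transvection_mul_transvection_same i j hij _ _).trans ?_)
          show _ = Matrix.transvection i j (((n + 1 : ℕ) : K) * c)
          congr 1
          push_cast; ring
      rw [hn, CharP.cast_eq_zero, zero_mul]
      exact Subtype.ext (Matrix.transvection_zero i j)
    have h3 : ((hh t : Subgroup.center _) : Matrix.SpecialLinearGroup (Fin 2) K) ^ ringChar K = 1 := by
      rw [← Subgroup.coe_pow, ← map_pow, htp, map_one, Subgroup.coe_one]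
    obtain ⟨k, hk⟩ := ((Fact.out : (ringChar K).Prime).eq_two_or_odd').resolve_left hp
    rwa [hk, pow_succ, pow_mul, h2, one_pow, one_mul] at h3
  intro A
  have h : A ∈ hh.ker := hker (by rw [Linear.closure_slTvSet]; trivial)
  exact mul_inv_eq_one.1 (congrArg Subtype.val (MonoidHom.mem_ker.1 h))

variable [Fintype F] (hF : Fintype.card F = q ^ 2)

theorem isUnitary_map (s : F ≃+* F) {M : Matrix (Fin d) (Fin d) F} (hM : IsUnitary q M) :
    IsUnitary q (M.map s) := by
  have hmul : ∀ u : Fin d → F, M.map s *ᵥ u = s ∘ (M *ᵥ (s.symm ∘ u)) := fun u => funext fun i => by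
    simp [Matrix.mulVec, dotProduct, map_sum]
  have hherm : ∀ u v : Fin d → F,
      Cfsg.hermForm d F q (s ∘ u) (s ∘ v) = s (Cfsg.hermForm d F q u v) := fun u v => by
    simp [Cfsg.hermForm, map_sum]
  intro u v
  rw [hmul, hmul, hherm, hM, ← hherm]
  congr 1 <;> funext i <;> simp

theorem twist_ne {w : Fin d → F} (hw : ∀ i, w i ^ (q + 1) = 1) (i : Fin d) : w i ≠ 0 := fun e => by
  have := hw i
  rw [e, zero_pow (Nat.succ_ne_zero q)] at this
  exact zero_ne_one this

include hF in
theorem isUnitary_diag {w : Fin d → F} (hw : ∀ i, w i ^ (q + 1) = 1) :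
    IsUnitary q (Matrix.diagonal w) := fun u v => by
  simp only [Cfsg.hermForm, Matrix.mulVec_diagonal, mul_pow]
  refine Finset.sum_congr rfl fun i _ => ?_
  have := hw i
  rw [pow_succ] at this
  linear_combination (u i * v i ^ q) * this

/-- The twist by a field automorphism and a diagonal isometry. -/
noncomputable def twist (s : F ≃+* F) (w : Fin d → F) (hw : ∀ i, w i ^ (q + 1) = 1) :
    Cfsg.SU d F q →* Cfsg.SU d F q :=
  MonoidHom.mk'
    (fun g => suOfUnitary (Matrix.diagonal w * (mat g).map s * Matrix.diagonal (fun i => (w i)⁻¹))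
      (((isUnitary_diag hF hw).mul (isUnitary_map s g.2)).mul
        (isUnitary_diag hF fun i => by rw [inv_pow, hw, inv_one]))
      (by
        have h : ((mat g).map s).det = 1 := by
          rw [← RingEquiv.mapMatrix_apply, ← RingEquiv.map_det,
            show (mat g).det = 1 from (g : Matrix.SpecialLinearGroup (Fin d) F).2, map_one]
        rw [Matrix.det_mul, Matrix.det_mul, h, mul_one, Matrix.det_diagonal, Matrix.det_diagonal,
          ← Finset.prod_mul_distrib]
        exact Finset.prod_eq_one fun i _ => mul_inv_cancel₀ (twist_ne hw i)))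
    fun g h => mat_injective (by
      show Matrix.diagonal w * (mat g * mat h).map s * Matrix.diagonal (fun i => (w i)⁻¹) =
        (Matrix.diagonal w * (mat g).map s * Matrix.diagonal (fun i => (w i)⁻¹)) *
          (Matrix.diagonal w * (mat h).map s * Matrix.diagonal (fun i => (w i)⁻¹))
      rw [Matrix.map_mul]
      have e : Matrix.diagonal (fun i => (w i)⁻¹) * Matrix.diagonal w = 1 := by
        rw [Matrix.diagonal_mul_diagonal, ← Matrix.diagonal_one]
        congr 1
        exact funext fun i => inv_mul_cancel₀ (twist_ne hw i)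
      simp only [Matrix.mul_assoc]
      rw [← Matrix.mul_assoc (Matrix.diagonal fun i => (w i)⁻¹) (Matrix.diagonal w), e,
        Matrix.one_mul])

theorem twist_apply (s : F ≃+* F) (w : Fin d → F) (hw : ∀ i, w i ^ (q + 1) = 1)
    (g : Cfsg.SU d F q) (i j : Fin d) :
    mat (twist hF s w hw g) i j = w i * s (mat g i j) * (w j)⁻¹ := by
  show (Matrix.diagonal w * (mat g).map s * Matrix.diagonal (fun i => (w i)⁻¹)) i j = _
  simp [Matrix.diagonal_mul, Matrix.mul_diagonal]

theorem twist_injective (s : F ≃+* F) (w : Fin d → F) (hw : ∀ i, w i ^ (q + 1) = 1) :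
    Function.Injective (twist hF s w hw) := fun g h e => mat_injective (Matrix.ext fun i j => by
  have h1 := congrArg (fun x => mat x i j) e
  simp only [twist_apply] at h1
  have h2 := mul_left_cancel₀ (twist_ne hw i)
    (mul_right_cancel₀ (inv_ne_zero (twist_ne hw j)) h1)
  exact s.injective h2)

theorem twist_bijective (s : F ≃+* F) (w : Fin d → F) (hw : ∀ i, w i ^ (q + 1) = 1) :
    Function.Bijective (twist hF s w hw) :=
  Finite.injective_iff_bijective.1 (twist_injective hF s w hw)

theorem twist_emb (s : F ≃+* F) (w : Fin d → F) (hw : ∀ i, w i ^ (q + 1) = 1) (e : Fin k ↪ Fin d)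
    (g : Cfsg.SU k F q) :
    twist hF s w hw (emb e g) = emb e (twist hF s (w ∘ e) (fun i => hw (e i)) g) := by
  refine mat_injective (Matrix.ext fun i j => ?_)
  rw [twist_apply]
  show w i * s (blockMat e (mat g) i j) * (w j)⁻¹ = blockMat e (mat _) i j
  by_cases hi : i ∈ Set.range e ∧ j ∈ Set.range e
  · obtain ⟨⟨a, rfl⟩, ⟨b, rfl⟩⟩ := hi
    rw [blockMat_apply_on, blockMat_apply_on, twist_apply]
    rfl
  · rw [blockMat_apply_off e _ (not_and_or.1 hi), blockMat_apply_off e _ (not_and_or.1 hi)]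
    by_cases hij : i = j
    · subst hij
      simp [mul_inv_cancel₀ (twist_ne hw i)]
    · simp [Matrix.one_apply_ne hij]

include hF

/-- An element of SU_2 is determined by its first column. -/
theorem su_two_ext {g h : Cfsg.SU 2 F q}
    (e : suAct g (Pi.single 0 1) = suAct h (Pi.single 0 1)) : g = h := by
  obtain ⟨s, hs⟩ := (mem_range_emb_iff hF (shift 1 1 2 (by omega)) (h⁻¹ * g)).2 (fun i hi => by
    rw [mem_range_shift] at hi
    have : i = (0 : Fin 2) := Fin.ext (by simp; omega)
    rw [this, suAct_mul, e, suAct_inv_suAct])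
  have h1 : s = 1 := suAct_ext fun x => funext fun i => by
    have hd := (s : Matrix.SpecialLinearGroup (Fin 1) F).2
    rw [Matrix.det_fin_one] at hd
    have hi : i = 0 := Subsingleton.elim _ _
    subst hi
    rw [suAct_one, suAct, Matrix.mulVec, dotProduct, Fin.sum_univ_one]
    simp [hd]
  rw [h1, map_one, eq_comm, inv_mul_eq_one] at hs
  exact hs.symm

theorem su_two_norm (g : Cfsg.SU 2 F q) :
    mat g 0 0 ^ (q + 1) + mat g 1 0 ^ (q + 1) = 1 := by
  have h := suAct_herm g (Pi.single 0 1) (Pi.single 0 1)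
  rw [single_unit hF, herm_pair hF, ← mat_eq_suAct, ← mat_eq_suAct] at h
  exact h

theorem su_two_entries (g : Cfsg.SU 2 F q) :
    mat g 1 1 = mat g 0 0 ^ q ∧ mat g 0 1 = -(mat g 1 0 ^ q) := by
  obtain ⟨h, hh, hv⟩ := exists_su_two_unit hF (u := suAct g (Pi.single 0 1))
    (by rw [suAct_herm, single_unit hF])
  obtain rfl := su_two_ext hF hh
  have h1 := hv (Pi.single 1 1)
  simp only [mat_eq_suAct]
  rw [h1]
  simp

/-- The fixed field's automorphisms extend. -/
theorem exists_ringEquiv_extend (σ : fixedField hF ≃+* fixedField hF) :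
    ∃ s : F ≃+* F, ∀ x : fixedField hF, s x = σ x := by
  classical
  set p := ringChar F
  have : CharP F p := ringChar.charP F
  have : Fact p.Prime := ⟨CharP.char_is_prime F p⟩
  have : CharP (fixedField hF) p :=
    (RingHom.charP_iff (fixedField hF).subtype (fixedField hF).subtype.injective p).2 inferInstance
  letI : Algebra (ZMod p) (fixedField hF) := ZMod.algebra _ p
  let a : fixedField hF ≃ₐ[ZMod p] fixedField hF :=
    AlgEquiv.ofRingEquiv (f := σ) fun x => RingHom.congr_fun
      (Subsingleton.elim ((σ : fixedField hF →+* fixedField hF).comp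
        (algebraMap (ZMod p) (fixedField hF))) (algebraMap (ZMod p) (fixedField hF))) x
  obtain ⟨⟨i, _⟩, hi⟩ :=
    (FiniteField.bijective_frobeniusAlgEquivOfAlgebraic_pow (ZMod p) (fixedField hF)).2 a
  refine ⟨iterateFrobeniusEquiv F p i, fun x => ?_⟩
  rw [iterateFrobeniusEquiv_def]
  have := congrArg (fun b : fixedField hF ≃ₐ[ZMod p] fixedField hF => b x) hi
  simp only [AlgEquiv.coe_pow, FiniteField.coe_frobeniusAlgEquivOfAlgebraic, pow_iterate,
    ZMod.card] at this
  exact congrArg Subtype.val this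

/-- SU_2 as a conjugate of SL_2 over the fixed field. -/
theorem exists_sl_model :
    ∃ (P : GL (Fin 2) F) (f : Matrix.SpecialLinearGroup (Fin 2) (fixedField hF) ≃* Cfsg.SU 2 F q),
      ∀ A, mat (f A) = ((P⁻¹ : GL (Fin 2) F) : Matrix (Fin 2) (Fin 2) F) *
        (A : Matrix (Fin 2) (Fin 2) (fixedField hF)).map (fixedField hF).subtype *
          (P : Matrix (Fin 2) (Fin 2) F) := by
  classical
  obtain ⟨δ, hδ0, hδ⟩ := exists_skew hF
  let h : (Fin 2 → F) → (Fin 2 → F) → F := fun u v => δ * (u 0 * v 1 ^ q - u 1 * v 0 ^ q)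
  have H : IsHerm q h := by
    refine ⟨fun x y z => ?_, fun c x z => ?_, fun x y => ?_⟩
    · simp only [h, Pi.add_apply]; ring
    · simp only [h, Pi.smul_apply, smul_eq_mul]; ring
    · simp only [h, mul_pow, sub_pow_q hF, pow_q_pow_q hF, hδ]; ring
  have hnd : Nondeg h := by
    intro x hx
    have h0 := hx (Pi.single 0 1)
    have h1 := hx (Pi.single 1 1)
    simp [h, hδ0, zero_pow_q hF] at h0 h1
    ext i; fin_cases i <;> assumption
  obtain ⟨c, hc, -⟩ := exists_orthonormal_extend hF H hnd (k := 0) (b := Fin.elim0)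
    ⟨fun i => i.elim0, fun i => i.elim0⟩ (Nat.zero_le 2) (le_of_eq (Module.finrank_fin_fun F).symm)
  let P₀ : Matrix (Fin 2) (Fin 2) F := (Matrix.of c)ᵀ
  have hPu : IsUnit P₀ :=
    Matrix.linearIndependent_cols_iff_isUnit.1 (hc.linearIndependent H)
  obtain ⟨P, hPP⟩ := hPu
  have hP : ∀ u v : Fin 2 → F,
      h ((P : Matrix (Fin 2) (Fin 2) F) *ᵥ u) ((P : Matrix (Fin 2) (Fin 2) F) *ᵥ v) =
        Cfsg.hermForm 2 F q u v := by
    intro u v
    have e : ∀ w : Fin 2 → F, P₀.mulVec w = ∑ i, w i • c i := fun w => by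
      ext j; simp [P₀, Matrix.mulVec, dotProduct, mul_comm]
    rw [hPP, e, e, hc.inner_sum hF H]
    rfl
  let ι := (fixedField hF).subtype
  have hι : ∀ x : fixedField hF, ι x ^ q = ι x := fun x => (mem_fixedField hF).1 x.2
  let J : Matrix.SpecialLinearGroup (Fin 2) (fixedField hF) → Matrix (Fin 2) (Fin 2) F :=
    fun A => ((P⁻¹ : GL (Fin 2) F) : Matrix (Fin 2) (Fin 2) F) *
      (A : Matrix (Fin 2) (Fin 2) (fixedField hF)).map ι * (P : Matrix (Fin 2) (Fin 2) F)
  have hJd : ∀ A, (J A).det = 1 := fun A => by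
    simp only [J]
    rw [Matrix.det_units_conj']
    show (ι.mapMatrix (A : Matrix (Fin 2) (Fin 2) (fixedField hF))).det = 1
    rw [← RingHom.map_det, A.2, map_one]
  have hJu : ∀ A, IsUnitary q (J A) := fun A u v => by
    rw [← hP, ← hP u v]
    simp only [J, Matrix.mulVec_mulVec, ← mul_assoc, Units.mul_inv, one_mul]
    simp only [← Matrix.mulVec_mulVec]
    generalize (P : Matrix (Fin 2) (Fin 2) F) *ᵥ u = x
    generalize (P : Matrix (Fin 2) (Fin 2) F) *ᵥ v = y
    have hdet : ι ((A : Matrix (Fin 2) (Fin 2) (fixedField hF)) 0 0) *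
          ι ((A : Matrix (Fin 2) (Fin 2) (fixedField hF)) 1 1)
        - ι ((A : Matrix (Fin 2) (Fin 2) (fixedField hF)) 0 1) *
          ι ((A : Matrix (Fin 2) (Fin 2) (fixedField hF)) 1 0) = 1 := by
      have := congrArg ι A.2
      rw [Matrix.det_fin_two, map_sub, map_mul, map_mul, map_one] at this
      exact this
    simp only [h, Matrix.mulVec, dotProduct, Fin.sum_univ_two, Matrix.map_apply, add_pow_q hF,
      mul_pow, hι]
    linear_combination (δ * (x 0 * y 1 ^ q - x 1 * y 0 ^ q)) * hdet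
  let f : Matrix.SpecialLinearGroup (Fin 2) (fixedField hF) →* Cfsg.SU 2 F q :=
    MonoidHom.mk' (fun A => suOfUnitary (J A) (hJu A) (hJd A)) fun A B => mat_injective (by
      simp only [mat, Subgroup.coe_mul, Matrix.SpecialLinearGroup.coe_mul, suOfUnitary_val, J,
        Matrix.map_mul, mul_assoc]
      rw [← mul_assoc (P : Matrix (Fin 2) (Fin 2) F), Units.mul_inv, one_mul])
  have hf : Function.Injective f := fun A B hAB => by
    refine Subtype.ext (Matrix.map_injective ι.injective ?_)
    have h2 : J A = J B := congrArg mat hAB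
    simpa [J, mul_assoc] using congrArg
      (fun M => (P : Matrix (Fin 2) (Fin 2) F) * M * ((P⁻¹ : GL (Fin 2) F) : Matrix (Fin 2) (Fin 2) F)) h2
  have hcard : Nat.card (Matrix.SpecialLinearGroup (Fin 2) (fixedField hF)) =
      Nat.card (Cfsg.SU 2 F q) := by
    haveI : Fintype (fixedField hF) := Fintype.ofFinite _
    rw [Cfsg.Agent.GLOrder.card_SL_two, card_fixedField hF]
    apply Nat.eq_of_mul_eq_mul_left (Nat.succ_pos q)
    rw [card_SU hF 2 (by omega)]
    simp [Finset.prod_range_succ]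
    ring
  exact ⟨P, MulEquiv.ofBijective f ((Nat.bijective_iff_injective_and_card f).2 ⟨hf, hcard⟩),
    fun A => rfl⟩

/-- Every automorphism of SU_2 is semilinear. -/
theorem exists_semilinear (θ : MulAut (Cfsg.SU 2 F q)) :
    ∃ (M : GL (Fin 2) F) (s : F ≃+* F), ∀ x,
      mat (θ x) * (M : Matrix (Fin 2) (Fin 2) F) = (M : Matrix (Fin 2) (Fin 2) F) * (mat x).map s := by
  classical
  obtain ⟨P, f, hf⟩ := exists_sl_model hF
  let θ' : MulAut (Matrix.SpecialLinearGroup (Fin 2) (fixedField hF)) := (f.trans θ).trans f.symm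
  obtain ⟨g, σ, hθ'⟩ := exists_sl_two_semi θ'
  obtain ⟨s, hs⟩ := exists_ringEquiv_extend hF σ
  set ι := (fixedField hF).subtype
  let Pm : Matrix (Fin 2) (Fin 2) F := (P : Matrix (Fin 2) (Fin 2) F)
  refine ⟨P⁻¹ * Matrix.GeneralLinearGroup.map ι g *
    Matrix.GeneralLinearGroup.map (s : F →+* F) P, s, fun x => ?_⟩
  obtain ⟨A, rfl⟩ := f.surjective x
  have e1 : θ (f A) = f (θ' A) := (f.apply_symm_apply _).symm
  rw [e1, hθ', hf, hf]
  simp only [Units.val_mul]
  have hσA : ((A : Matrix (Fin 2) (Fin 2) (fixedField hF)).map σ).map ι =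
      ((A : Matrix (Fin 2) (Fin 2) (fixedField hF)).map ι).map s := Matrix.ext fun i j => (hs _).symm
  have hsemi : ((AutPSL.semiSL g σ A : Matrix.SpecialLinearGroup (Fin 2) (fixedField hF)) :
      Matrix (Fin 2) (Fin 2) (fixedField hF)) = (g : Matrix (Fin 2) (Fin 2) (fixedField hF)) *
        (A : Matrix (Fin 2) (Fin 2) (fixedField hF)).map σ * ((g⁻¹ : GL (Fin 2) (fixedField hF)) : Matrix (Fin 2) (Fin 2) (fixedField hF)) := rfl
  rw [hsemi, Matrix.map_mul, Matrix.map_mul, hσA, Matrix.map_mul, Matrix.map_mul]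
  set A' := (A : Matrix (Fin 2) (Fin 2) (fixedField hF)).map ι
  have k1 : ((g⁻¹ : GL (Fin 2) (fixedField hF)) : Matrix (Fin 2) (Fin 2) (fixedField hF)).map ι *
      ((Matrix.GeneralLinearGroup.map ι g : GL (Fin 2) F) : Matrix (Fin 2) (Fin 2) F) = 1 := by
    show _ * (g : Matrix (Fin 2) (Fin 2) (fixedField hF)).map ι = 1
    rw [← Matrix.map_mul, Units.inv_mul, Matrix.map_one ι (map_zero ι) (map_one ι)]
  have k2 : ((Matrix.GeneralLinearGroup.map (s : F →+* F) P : GL (Fin 2) F) :
      Matrix (Fin 2) (Fin 2) F) * ((P⁻¹ : GL (Fin 2) F) : Matrix (Fin 2) (Fin 2) F).map s = 1 := by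
    show Pm.map s * _ = 1
    rw [← Matrix.map_mul, Units.mul_inv, Matrix.map_one s (map_zero s) (map_one s)]
  have k3 : ((Matrix.GeneralLinearGroup.map (s : F →+* F) P : GL (Fin 2) F) :
      Matrix (Fin 2) (Fin 2) F) = Pm.map s := rfl
  have k4 : ((Matrix.GeneralLinearGroup.map ι g : GL (Fin 2) F) :
      Matrix (Fin 2) (Fin 2) F) = (g : Matrix (Fin 2) (Fin 2) (fixedField hF)).map ι := rfl
  rw [k4] at k1 ⊢
  rw [k3] at k2 ⊢
  simp only [mul_assoc]
  rw [← mul_assoc (P : Matrix (Fin 2) (Fin 2) F), Units.mul_inv, one_mul,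
    ← mul_assoc (((g⁻¹ : GL (Fin 2) (fixedField hF)) : Matrix (Fin 2) (Fin 2) (fixedField hF)).map ι), k1, one_mul,
    ← mul_assoc (Pm.map s) (((P⁻¹ : GL (Fin 2) F) : Matrix (Fin 2) (Fin 2) F).map s), k2, one_mul]

/-- An automorphism of SU_2 preserving the torus is a twist. -/
theorem exists_twist_of_tor (θ : MulAut (Cfsg.SU 2 F q))
    (hθ : ∀ t : Cfsg.SU 2 F q, t ∈ tor → θ t ∈ tor) :
    ∃ (s : F ≃+* F) (ν : F) (hν : ν ^ (q + 1) = 1),
      ∀ x, θ x = twist hF s ![1, ν] (by intro i; fin_cases i <;> simp [hν]) x := by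
  classical
  obtain ⟨M, s, hM⟩ := exists_semilinear hF θ
  obtain ⟨c, hc, hord⟩ := exists_norm_one_gen hF
  obtain ⟨t, ht, htc⟩ := exists_tor hF hc
  obtain ⟨a, hta⟩ := two_line hF htc
  obtain ⟨c', htc'⟩ := hθ t ht
  obtain ⟨a', hta'⟩ := two_line hF htc'
  have e00 : mat t 0 0 = a := by simp [mat_eq_suAct, hta]
  have e10 : mat t 1 0 = 0 := by simp [mat_eq_suAct, hta]
  have e01 : mat t 0 1 = 0 := by simp [mat_eq_suAct, htc]
  have e11 : mat t 1 1 = c := by simp [mat_eq_suAct, htc]
  have f10 : mat (θ t) 1 0 = 0 := by simp [mat_eq_suAct, hta']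
  have f01 : mat (θ t) 0 1 = 0 := by simp [mat_eq_suAct, htc']
  have hac : s a ≠ s c := fun e => by
    have hdet : (mat t).det = 1 := (t : Matrix.SpecialLinearGroup (Fin 2) F).2
    rw [Matrix.det_fin_two, e00, e11, e01, e10, mul_zero, sub_zero, s.injective e] at hdet
    have := Nat.le_of_dvd two_pos (hord ▸ orderOf_dvd_of_pow_eq_one (by rw [sq]; exact hdet))
    have := two_le_q hF
    omega
  set m := (M : Matrix (Fin 2) (Fin 2) F)
  have hrow : ∀ i, m i 0 = 0 ∨ m i 1 = 0 := fun i => by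
    by_contra hcon
    rw [not_or] at hcon
    have h0 := congrFun (congrFun (hM t) i) 0
    have h1 := congrFun (congrFun (hM t) i) 1
    fin_cases i <;>
      simp [Matrix.mul_apply, Fin.sum_univ_two, e00, e01, e10, e11, f01, f10] at h0 h1 hcon
    · exact hac (mul_left_cancel₀ hcon.1
        (h0.symm.trans (mul_comm _ _)) |>.trans (mul_left_cancel₀ hcon.2
        (h1.symm.trans (mul_comm _ _))).symm)
    · exact hac (mul_left_cancel₀ hcon.1
        (h0.symm.trans (mul_comm _ _)) |>.trans (mul_left_cancel₀ hcon.2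
        (h1.symm.trans (mul_comm _ _))).symm)
  have hdet : m.det ≠ 0 := Matrix.GeneralLinearGroup.det_ne_zero M
  rw [Matrix.det_fin_two] at hdet
  -- the first column of every image
  obtain ⟨s', ν, hcol⟩ : ∃ (s' : F ≃+* F) (ν : F), ∀ x,
      mat (θ x) 0 0 = s' (mat x 0 0) ∧ mat (θ x) 1 0 = ν * s' (mat x 1 0) := by
    by_cases h01 : m 0 1 = 0
    · rw [h01, zero_mul, sub_zero] at hdet
      obtain ⟨h00, h11⟩ := mul_ne_zero_iff.1 hdet
      have h10 : m 1 0 = 0 := (hrow 1).resolve_right h11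
      refine ⟨s, m 1 1 / m 0 0, fun x => ?_⟩
      have h0 := congrFun (congrFun (hM x) 0) 0
      have h1 := congrFun (congrFun (hM x) 1) 0
      simp [Matrix.mul_apply, Fin.sum_univ_two, h01, h10] at h0 h1
      refine ⟨mul_right_cancel₀ h00 (h0.trans (mul_comm _ _)), ?_⟩
      rw [div_mul_eq_mul_div, eq_div_iff h00]
      exact h1
    · have h00 : m 0 0 = 0 := (hrow 0).resolve_right h01
      rw [h00, zero_mul, zero_sub, neg_ne_zero] at hdet
      have h11 : m 1 1 = 0 := (hrow 1).resolve_left (mul_ne_zero_iff.1 hdet).2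
      refine ⟨(RingEquiv.ofBijective (Unitary.conjHom hF) (conjHom_bijective hF)).trans s,
        -(m 1 0 / m 0 1), fun x => ?_⟩
      obtain ⟨x11, x01⟩ := su_two_entries hF x
      have h0 := congrFun (congrFun (hM x) 0) 1
      have h1 := congrFun (congrFun (hM x) 1) 1
      simp [Matrix.mul_apply, Fin.sum_univ_two, h00, h11, x11, x01] at h0 h1
      refine ⟨mul_right_cancel₀ h01 (h0.trans (mul_comm _ _)) |>.trans ?_, ?_⟩
      · show s (mat x 0 0) ^ q = s (mat x 0 0 ^ q)
        rw [map_pow]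
      · show mat (θ x) 1 0 = -(m 1 0 / m 0 1) * s (mat x 1 0 ^ q)
        rw [map_pow, neg_mul, div_mul_eq_mul_div, eq_neg_iff_add_eq_zero]
        field_simp
        linear_combination h1
  have hν : ν ^ (q + 1) = 1 := by
    obtain ⟨W, -, hW⟩ := exists_swap_two hF
    obtain ⟨h0, h1⟩ := hcol W
    have w0 : mat W 0 0 = 0 := by simp [mat_eq_suAct, hW]
    have w1 : mat W 1 0 = -1 := by simp [mat_eq_suAct, hW]
    have h := su_two_norm hF (θ W)
    rw [h0, h1, w0, w1, map_zero, zero_pow (Nat.succ_ne_zero q), zero_add, map_neg, map_one,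
      mul_neg_one, pow_succ, neg_pow_q hF, neg_mul_neg, ← pow_succ] at h
    exact h
  refine ⟨s', ν, hν, fun x => su_two_ext hF (funext fun i => ?_)⟩
  rw [← mat_eq_suAct, ← mat_eq_suAct, twist_apply]
  obtain ⟨h0, h1⟩ := hcol x
  fin_cases i <;> simp [h0, h1]

end Cfsg.Agent.Phan
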