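/-
Standard pairs and their alignment.

* `IsGood φ V A B`: φ parametrises V carrying the two blocks injectively onto A and B.
* `exists_good`: from a standard pair.
* `exists_align`: consecutive parametrisations can be made to agree on the common block.
* `exists_next`: one step of the recognition.
-/
import Cfsg.Agent.Lib.Phan.Twist
import Cfsg.Agent.Lib.Phan.Extend

set_option autoImplicit false

namespace Cfsg.Agent.Phan

open Cfsg.Agent.Unitary
open scoped Matrix

variable {F : Type*} [Field F] {q : ℕ} {G : Type*} [Group G]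

/-- φ parametrises V carrying the two blocks injectively onto A and B. -/
structure IsGood (φ : Cfsg.SU 3 F q →* G) (V A B : Subgroup G) : Prop where
  range_eq : φ.range = V
  left_eq : (φ.comp (emb c01)).range = A
  right_eq : (φ.comp (emb c12)).range = B
  left_inj : Function.Injective (φ.comp (emb c01))
  right_inj : Function.Injective (φ.comp (emb c12))

variable [Fintype F] (hF : Fintype.card F = q ^ 2)
include hF

theorem center_block_trivial {e : Fin 2 ↪ Fin 3} {g : Cfsg.SU 2 F q} {k : Fin 3}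
    (hk : k ∉ Set.range e) (hg : emb e g ∈ Subgroup.center (Cfsg.SU 3 F q)) : g = 1 := by
  obtain ⟨z, hz⟩ := (mem_center_SU_iff hF (by omega) _).1 hg
  have hzz : mat (emb e g) = z • (1 : Matrix (Fin 3) (Fin 3) F) := by
    rw [show mat (emb e g) = Matrix.scalar (Fin 3) z from hz, Matrix.scalar_apply,
      Matrix.smul_one_eq_diagonal]
  have h1 := suAct_emb_single_off hF e g hk
  have h2 := congrFun h1 k
  rw [← mat_eq_suAct, hzz, Pi.single_eq_same] at h2
  simp at h2
  apply emb_injective e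
  rw [map_one]
  exact mat_injective (by rw [hzz, h2, one_smul]; rfl)

theorem suBlock_left : Cfsg.suBlock 3 F q {0, 1} = (emb c01 : Cfsg.SU 2 F q →* _).range :=
  suBlock_eq_range hF c01 (by
    ext i
    rw [mem_range_shift]
    fin_cases i <;> simp)

theorem suBlock_right : Cfsg.suBlock 3 F q {1, 2} = (emb c12 : Cfsg.SU 2 F q →* _).range :=
  suBlock_eq_range hF c12 (by
    ext i
    rw [mem_range_shift]
    fin_cases i <;> simp)

/-- A standard pair has a parametrisation. -/
theorem exists_good {V A B : Subgroup G} (h : Cfsg.IsStandardUnitaryPair V A B F q) :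
    ∃ φ : Cfsg.SU 3 F q →* G, IsGood φ V A B := by
  rcases h with ⟨e, hA, hB⟩ | ⟨e, hA, hB⟩
  · refine ⟨V.subtype.comp e.toMonoidHom, ⟨?_, ?_, ?_, ?_, ?_⟩⟩
    · rw [MonoidHom.range_comp, MonoidHom.range_eq_top.2 e.surjective, ← MonoidHom.range_eq_map,
        Subgroup.range_subtype]
    · rw [MonoidHom.range_comp, ← suBlock_left hF, hA]
    · rw [MonoidHom.range_comp, ← suBlock_right hF, hB]
    · exact V.subtype_injective.comp (e.injective.comp (emb_injective _))
    · exact V.subtype_injective.comp (e.injective.comp (emb_injective _))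
  · set π := QuotientGroup.mk' (Subgroup.center (Cfsg.SU 3 F q))
    set φ := V.subtype.comp (e.toMonoidHom.comp π) with hφ
    have hker : ∀ x, φ x = 1 → x ∈ Subgroup.center (Cfsg.SU 3 F q) := fun x hx => by
      rw [hφ, MonoidHom.comp_apply, MonoidHom.comp_apply] at hx
      exact (QuotientGroup.eq_one_iff _).1
        (e.injective ((V.subtype_injective (hx.trans (map_one _).symm)).trans (map_one e).symm))
    refine ⟨φ, ⟨?_, ?_, ?_, ?_, ?_⟩⟩
    · rw [hφ, MonoidHom.range_comp, MonoidHom.range_eq_top.2 (show Function.Surjective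
        (e.toMonoidHom.comp π) from e.surjective.comp (QuotientGroup.mk'_surjective _)),
        ← MonoidHom.range_eq_map, Subgroup.range_subtype]
    · rw [MonoidHom.range_comp, ← suBlock_left hF, hA]
    · rw [MonoidHom.range_comp, ← suBlock_right hF, hB]
    · exact (injective_iff_map_eq_one _).2 fun g hg =>
        center_block_trivial hF (k := 2) (by rw [mem_range_shift]; simp) (hker _ hg)
    · exact (injective_iff_map_eq_one _).2 fun g hg =>
        center_block_trivial hF (k := 0) (by rw [mem_range_shift]; simp) (hker _ hg)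

theorem tor_iff (g : Cfsg.SU 2 F q) : g ∈ tor ↔ mat g 0 1 = 0 := by
  constructor
  · rintro ⟨c, hc⟩
    simp [mat_eq_suAct, hc]
  · intro h
    refine ⟨mat g 1 1, funext fun i => ?_⟩
    rw [← mat_eq_suAct]
    fin_cases i <;> simp [h]

theorem tor_diag {g : Cfsg.SU 2 F q} (hg : g ∈ tor) :
    mat g = Matrix.diagonal ![mat g 0 0, mat g 1 1] := by
  have h01 := (tor_iff hF g).1 hg
  have h10 : mat g 1 0 = 0 := by
    have := (su_two_entries hF g).2
    rw [h01, eq_comm, neg_eq_zero, pow_q_eq_zero hF] at this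
    exact this
  ext i j
  fin_cases i <;> fin_cases j <;> simp [h01, h10]

theorem tor_comm {g h : Cfsg.SU 2 F q} (hg : g ∈ tor) (hh : h ∈ tor) : g * h = h * g := by
  refine mat_injective ?_
  show mat g * mat h = mat h * mat g
  rw [tor_diag hF hg, tor_diag hF hh, Matrix.diagonal_mul_diagonal, Matrix.diagonal_mul_diagonal]
  congr 1
  exact funext fun i => mul_comm _ _

/-- Conjugation by a diagonal element is a twist. -/
theorem conj_eq_twist {n : ℕ} {h : Cfsg.SU n F q} {w : Fin n → F}
    (hh : mat h = Matrix.diagonal w) (hw : ∀ i, w i ^ (q + 1) = 1) (g : Cfsg.SU n F q) :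
    h * g * h⁻¹ = twist hF (RingEquiv.refl F) w hw g := by
  rw [mul_inv_eq_iff_eq_mul]
  refine mat_injective (Matrix.ext fun i j => ?_)
  show (mat h * mat g) i j = (mat (twist hF (RingEquiv.refl F) w hw g) * mat h) i j
  rw [hh, Matrix.diagonal_mul, Matrix.mul_diagonal, twist_apply, mul_assoc,
    inv_mul_cancel₀ (twist_ne hw j), mul_one]
  rfl

theorem emb_diag {n : ℕ} {e : Fin 2 ↪ Fin n} {t : Cfsg.SU 2 F q} {w : Fin n → F} {u : Fin 2 → F}
    (ht : mat t = Matrix.diagonal u) (hwe : ∀ i, w (e i) = u i)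
    (hw : ∀ k, k ∉ Set.range e → w k = 1) : mat (emb e t) = Matrix.diagonal w := by
  refine Matrix.ext fun i j => ?_
  show blockMat e (mat t) i j = _
  by_cases hi : i ∈ Set.range e ∧ j ∈ Set.range e
  · obtain ⟨⟨a, rfl⟩, ⟨b, rfl⟩⟩ := hi
    rw [blockMat_apply_on, ht]
    simp [Matrix.diagonal_apply, e.injective.eq_iff, hwe]
  · rw [blockMat_apply_off e _ (not_and_or.1 hi)]
    by_cases hij : i = j
    · subst hij
      rw [Matrix.one_apply_eq, Matrix.diagonal_apply_eq, hw]
      exact fun h => hi ⟨h, h⟩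
    · rw [Matrix.one_apply_ne hij, Matrix.diagonal_apply_ne _ hij]

/-- The diagonal of the common block is common. -/
theorem align_tor {φ χ : Cfsg.SU 3 F q →* G} {V W A B C : Subgroup G}
    (hφ : IsGood φ V A B) (hχ : IsGood χ W B C)
    (hcomm : ∀ x ∈ A, ∀ y ∈ C, x * y = y * x) (θ : MulAut (Cfsg.SU 2 F q))
    (hθ : ∀ x, φ (emb c12 x) = χ (emb c01 (θ x))) : ∀ x : Cfsg.SU 2 F q, x ∈ tor → θ x ∈ tor := by
  obtain ⟨c, hc, hord⟩ := exists_norm_one_gen hF
  obtain ⟨t, ht, htc⟩ := exists_tor hF hc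
  have htd := tor_diag hF ht
  have t11 : mat t 1 1 = c := by simp [mat_eq_suAct, htc]
  obtain ⟨t11', t01⟩ := su_two_entries hF t
  set a := mat t 0 0
  rw [t11] at htd
  have hdet : a * c = 1 := by
    have := (t : Matrix.SpecialLinearGroup (Fin 2) F).2
    rw [show (t : Matrix.SpecialLinearGroup (Fin 2) F).1 = mat t from rfl, htd,
      Matrix.det_diagonal, Fin.prod_univ_two] at this
    exact this
  have ha : a ^ (q + 1) = 1 := by
    have := congrArg (fun x => x ^ (q + 1)) hdet
    simp only [mul_pow, hc, mul_one, one_pow] at this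
    exact this
  have hq2 := two_le_q hF
  have hc2 : c ^ 2 ≠ 1 := fun e => by
    have := Nat.le_of_dvd two_pos (hord ▸ orderOf_dvd_of_pow_eq_one e); omega
  have hc1 : c ≠ 1 := fun e => hc2 (by rw [e, one_pow])
  have hac : a ≠ c := fun e => hc2 (by rw [sq]; rw [e] at hdet; exact hdet)
  let κ₁ := twist hF (RingEquiv.refl F) ![c, 1] (by intro i; fin_cases i <;> simp [hc])
  let κ₂ := twist hF (RingEquiv.refl F) ![1, a] (by intro i; fin_cases i <;> simp [ha])
  set X := φ (emb c01 t)
  set Y := χ (emb c12 t)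
  have hX : ∀ x, X * φ (emb c12 x) * X⁻¹ = φ (emb c12 (κ₁ x)) := fun x => by
    rw [← map_inv φ, ← map_mul, ← map_mul, conj_eq_twist hF (w := ![a, c, 1])
      (emb_diag hF htd (fun i => by fin_cases i <;> rfl) (fun k hk => by
        rw [mem_range_shift] at hk
        fin_cases k <;> simp at hk ⊢))
      (by intro i; fin_cases i <;> simp [ha, hc]), twist_emb]
    congr 2
    refine mat_injective (Matrix.ext fun i j => ?_)
    rw [twist_apply, twist_apply]
    fin_cases i <;> fin_cases j <;> rfl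
  have hY : ∀ x, Y * χ (emb c01 x) * Y⁻¹ = χ (emb c01 (κ₂ x)) := fun x => by
    rw [← map_inv χ, ← map_mul, ← map_mul, conj_eq_twist hF (w := ![1, a, c])
      (emb_diag hF htd (fun i => by fin_cases i <;> rfl) (fun k hk => by
        rw [mem_range_shift] at hk
        fin_cases k <;> simp at hk ⊢))
      (by intro i; fin_cases i <;> simp [ha, hc]), twist_emb]
    congr 2
    refine mat_injective (Matrix.ext fun i j => ?_)
    rw [twist_apply, twist_apply]
    fin_cases i <;> fin_cases j <;> rfl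
  have hXY : X * Y = Y * X :=
    hcomm X (hφ.left_eq ▸ ⟨t, rfl⟩) Y (hχ.right_eq ▸ ⟨t, rfl⟩)
  intro x hx
  have h1 : κ₁ x = x := by
    refine mat_injective (Matrix.ext fun i j => ?_)
    rw [twist_apply, tor_diag hF hx]
    have hc0 : c ≠ 0 := fun e => by rw [e, mul_zero] at hdet; exact zero_ne_one hdet
    fin_cases i <;> fin_cases j <;> simp
    field_simp
  obtain ⟨y, hy⟩ := θ.surjective (κ₂ (θ x))
  have h2 : φ (emb c12 y) = Y * φ (emb c12 x) * Y⁻¹ := by rw [hθ, hθ, hY, hy]
  have h3 : φ (emb c12 (κ₁ y)) = φ (emb c12 y) := by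
    rw [← hX, h2]
    calc X * (Y * φ (emb c12 x) * Y⁻¹) * X⁻¹
        = (X * Y) * φ (emb c12 x) * (X * Y)⁻¹ := by group
      _ = (Y * X) * φ (emb c12 x) * (Y * X)⁻¹ := by rw [hXY]
      _ = Y * (X * φ (emb c12 x) * X⁻¹) * Y⁻¹ := by group
      _ = _ := by rw [hX, h1]
  have h4 : y ∈ tor := by
    have h5 := congrArg (fun z => mat z 0 1) (hφ.right_inj h3)
    simp only [κ₁, twist_apply] at h5
    simp at h5
    rw [tor_iff hF]
    have h5' : (c - 1) * mat y 0 1 = 0 := by
      first
        | linear_combination h5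
        | linear_combination (-1 : F) * h5
    exact (mul_eq_zero.1 h5').resolve_left (sub_ne_zero.2 hc1)
  -- the image and its twist commute
  have h6 : θ x * κ₂ (θ x) = κ₂ (θ x) * θ x := by
    rw [← hy, ← map_mul, ← map_mul, tor_comm hF hx h4]
  set g := θ x
  have h7 := congrArg (fun z : Cfsg.SU 2 F q => mat z 0 0) h6
  have hmm : ∀ u v : Cfsg.SU 2 F q, mat (u * v) = mat u * mat v := fun u v => rfl
  simp only [hmm, Matrix.mul_apply, Fin.sum_univ_two, κ₂, twist_apply] at h7
  simp at h7
  have ha0 : a ≠ 0 := fun e => by rw [e, zero_mul] at hdet; exact zero_ne_one hdet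
  have h8 : (a - a⁻¹) * (mat g 0 1 * mat g 1 0) = 0 := by linear_combination h7
  rw [tor_iff hF]
  rcases mul_eq_zero.1 h8 with h9 | h9
  · refine absurd ?_ hac
    rw [sub_eq_zero] at h9
    exact h9.trans (inv_eq_of_mul_eq_one_right hdet)
  · rcases mul_eq_zero.1 h9 with h10 | h10
    · exact h10
    · rw [(su_two_entries hF g).2, h10, zero_pow_q hF, neg_zero]

/-- Consecutive parametrisations can be made to agree on the common block. -/
theorem exists_align {φ χ : Cfsg.SU 3 F q →* G} {V W A B C : Subgroup G}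
    (hφ : IsGood φ V A B) (hχ : IsGood χ W B C)
    (hcomm : ∀ x ∈ A, ∀ y ∈ C, x * y = y * x) :
    ∃ χ' : Cfsg.SU 3 F q →* G, IsGood χ' W B C ∧ ∀ g, φ (emb c12 g) = χ' (emb c01 g) := by
  let b := MonoidHom.ofInjective hφ.right_inj
  let a := MonoidHom.ofInjective hχ.left_inj
  let θ : MulAut (Cfsg.SU 2 F q) :=
    (b.trans (MulEquiv.subgroupCongr (hφ.right_eq.trans hχ.left_eq.symm))).trans a.symm
  have hθ : ∀ x, φ (emb c12 x) = χ (emb c01 (θ x)) := fun x => by
    have h := congrArg Subtype.val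
      (a.apply_symm_apply ((MulEquiv.subgroupCongr (hφ.right_eq.trans hχ.left_eq.symm)) (b x)))
    exact h.symm
  obtain ⟨s, ν, hν, hs⟩ := exists_twist_of_tor hF θ (align_tor hF hφ hχ hcomm θ hθ)
  have hw : ∀ i, (![1, ν, 1] : Fin 3 → F) i ^ (q + 1) = 1 := by
    intro i; fin_cases i <;> simp [hν]
  set T := twist hF s ![1, ν, 1] hw
  have h01 : ∀ g, T (emb c01 g) = emb c01 (θ g) := fun g => by
    rw [twist_emb, hs]
    congr 1
    refine mat_injective (Matrix.ext fun i j => ?_)
    rw [twist_apply, twist_apply]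
    fin_cases i <;> fin_cases j <;> rfl
  refine ⟨χ.comp T, ⟨?_, ?_, ?_, ?_, ?_⟩, fun g => ?_⟩
  · rw [MonoidHom.range_comp, MonoidHom.range_eq_top.2 (twist_bijective hF s _ hw).2,
      ← MonoidHom.range_eq_map, hχ.range_eq]
  · rw [show (χ.comp T).comp (emb c01) = (χ.comp (emb c01)).comp θ.toMonoidHom from
      MonoidHom.ext fun g => congrArg χ (h01 g), MonoidHom.range_comp,
      MonoidHom.range_eq_top.2 θ.surjective, ← MonoidHom.range_eq_map, hχ.left_eq]
  · rw [show (χ.comp T).comp (emb c12) = (χ.comp (emb c12)).comp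
        (twist hF s (![1, ν, 1] ∘ c12) fun i => hw _) from
      MonoidHom.ext fun g => congrArg χ (twist_emb hF s _ hw c12 g), MonoidHom.range_comp,
      MonoidHom.range_eq_top.2 (twist_bijective hF s _ _).2, ← MonoidHom.range_eq_map, hχ.right_eq]
  · intro g h e
    simp only [MonoidHom.comp_apply, h01] at e
    exact θ.injective (hχ.left_inj e)
  · intro g h e
    simp only [MonoidHom.comp_apply, T, twist_emb] at e
    exact twist_injective hF s _ _ (hχ.right_inj e)
  · rw [MonoidHom.comp_apply, h01, hθ]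

/-- One step: a parametrisation of the first m+3 coordinates extends by an aligned last triple. -/
theorem exists_next {m : ℕ} (hq : 3 ≤ q) (h4 : m = 0 → 4 ≤ q) (ψ : Cfsg.SU (m + 3) F q →* G)
    {χ : Cfsg.SU 3 F q →* G} (hagree : ∀ g, ψ (emb (cO m) g) = χ (emb c01 g))
    (hcomm : ∀ (i : ℕ) (hi : i + 2 ≤ m + 2),
      ∀ x ∈ (ψ.comp (emb (shift i 2 (m + 3) (by omega)))).range,
        ∀ y ∈ (χ.comp (emb c12)).range, x * y = y * x) :
    ∃ Ψ : Cfsg.SU (m + 4) F q →* G, Ψ.comp (emb (cL m)) = ψ ∧ Ψ.comp (emb (cR m)) = χ := by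
  obtain ⟨Ψ, h1, h2⟩ := exists_glue hF hq h4 ψ χ hagree
    fun i hi g h => hcomm i hi _ ⟨g, rfl⟩ _ ⟨h, rfl⟩
  exact ⟨Ψ, MonoidHom.ext h1, MonoidHom.ext h2⟩

end Cfsg.Agent.Phan
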