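/-
Tools for the four-dimensional unitary group over nine elements.

* `conjEquiv`: conjugation of SU_n by an element of GU_n.
* `negTwo`, `D01`, `D12`: diagonal involutions.
* `exists_frame`: two commuting involutions of SU_4 in general position are conjugate to D01, D12.
* `exists_pair_of_comm`: the centraliser of D01 among elements of order three.
-/
import Cfsg.Agent.Lib.Phan.Align
import Cfsg.Agent.Lib.Unitary.Block

set_option autoImplicit false

namespace Cfsg.Agent.Phan

open Cfsg.Agent.Unitary
open scoped Matrix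

variable {F : Type*} [Field F] {q n : ℕ}

theorem mat_one : mat (1 : Cfsg.SU n F q) = 1 := rfl

theorem mat_mul (g h : Cfsg.SU n F q) : mat (g * h) = mat g * mat h := rfl

theorem su_ext_single {g h : Cfsg.SU n F q}
    (e : ∀ j, suAct g (Pi.single j 1) = suAct h (Pi.single j 1)) : g = h :=
  mat_injective (Matrix.ext fun i j => by rw [mat_eq_suAct, mat_eq_suAct, e j])

theorem suAct_eq_sum (g : Cfsg.SU n F q) (x : Fin n → F) :
    suAct g x = ∑ j, x j • suAct g (Pi.single j 1) := by
  funext i
  simp [suAct, Matrix.mulVec, dotProduct, mul_comm]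

/-- The coordinates 0, 1. -/
abbrev d01 : Fin 2 ↪ Fin 4 := shift 0 2 4 (by omega)
/-- The coordinates 1, 2. -/
abbrev d12 : Fin 2 ↪ Fin 4 := shift 1 2 4 (by omega)
/-- The coordinates 2, 3. -/
abbrev d23 : Fin 2 ↪ Fin 4 := shift 2 2 4 (by omega)

variable [Fintype F] (hF : Fintype.card F = q ^ 2)
include hF

/-- Conjugation by a unitary matrix. -/
theorem exists_conjEquiv (P : GL (Fin n) F) (hP : P ∈ Cfsg.GU n F q) :
    ∃ φ : Cfsg.SU n F q ≃* Cfsg.SU n F q, ∀ x, mat (φ x) =
      (P : Matrix (Fin n) (Fin n) F) * mat x * ((P⁻¹ : GL (Fin n) F) : Matrix (Fin n) (Fin n) F) := by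
  set M := (P : Matrix (Fin n) (Fin n) F)
  set Q := ((P⁻¹ : GL (Fin n) F) : Matrix (Fin n) (Fin n) F)
  have hPu : IsUnitary q M := hP
  have hQu : IsUnitary q Q := (inv_mem hP : _ ∈ Cfsg.GU n F q)
  have hQP : Q * M = 1 := Units.inv_mul _
  have hPQ : M * Q = 1 := Units.mul_inv _
  have conjdet : ∀ {X : Matrix (Fin n) (Fin n) F}, X.det = 1 →
      (M * X * Q).det = 1 ∧ (Q * X * M).det = 1 := fun {X} hX => by
    have h := congrArg Matrix.det hPQ
    rw [Matrix.det_mul, Matrix.det_one] at h
    constructor <;> rw [Matrix.det_mul, Matrix.det_mul, hX, mul_one] <;> linear_combination h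
  refine ⟨{ toFun := fun x => suOfUnitary (M * mat x * Q) ((hPu.mul x.2).mul hQu)
              (conjdet (x : Matrix.SpecialLinearGroup (Fin n) F).2).1
            invFun := fun x => suOfUnitary (Q * mat x * M) ((hQu.mul x.2).mul hPu)
              (conjdet (x : Matrix.SpecialLinearGroup (Fin n) F).2).2
            left_inv := fun x => mat_injective (by
              show Q * (M * mat x * Q) * M = mat x
              simp only [← mul_assoc, hQP, one_mul]
              rw [mul_assoc, hQP, mul_one])
            right_inv := fun x => mat_injective (by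
              show M * (Q * mat x * M) * Q = mat x
              simp only [← mul_assoc, hPQ, one_mul]
              rw [mul_assoc, hPQ, mul_one])
            map_mul' := fun x y => mat_injective (by
              show M * (mat x * mat y) * Q = (M * mat x * Q) * (M * mat y * Q)
              simp only [mul_assoc]
              rw [← mul_assoc Q M, hQP, one_mul]) }, fun x => rfl⟩

theorem neg_one_norm : ((-1 : F)) ^ (q + 1) = 1 := by
  rw [pow_succ, neg_pow_q hF, one_pow]; ring

/-- The central involution of SU_2. -/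
noncomputable def negTwo : Cfsg.SU 2 F q :=
  suOfUnitary (Matrix.diagonal fun _ => (-1 : F))
    (isUnitary_diag hF fun _ => neg_one_norm hF)
    (by rw [Matrix.det_diagonal, Fin.prod_univ_two]; ring)

theorem suAct_negTwo (v : Fin 2 → F) : suAct (negTwo hF) v = -v := by
  funext i
  show (Matrix.diagonal (fun _ => (-1 : F)) *ᵥ v) i = _
  rw [Matrix.mulVec_diagonal, neg_one_mul, Pi.neg_apply]

theorem negTwo_comm (g : Cfsg.SU 2 F q) : negTwo hF * g = g * negTwo hF :=
  suAct_ext fun v => by
    rw [suAct_mul, suAct_mul, suAct_negTwo, suAct_negTwo, ← neg_one_smul F v, suAct_smul,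
      neg_one_smul]

theorem negTwo_ne (h2 : (2 : F) ≠ 0) : negTwo hF ≠ 1 := fun e => by
  have h := congrFun (suAct_negTwo hF (Pi.single 0 1)) 0
  rw [e, suAct_one] at h
  simp at h
  exact h2 (by linear_combination h)

/-- The diagonal involution on the first two coordinates. -/
noncomputable def D01 : Cfsg.SU 4 F q := emb d01 (negTwo hF)

/-- The diagonal involution on the middle coordinates. -/
noncomputable def D12 : Cfsg.SU 4 F q := emb d12 (negTwo hF)

theorem suAct_emb_negTwo {m : ℕ} (e : Fin 2 ↪ Fin m) (x : Fin m → F) (i : Fin m) :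
    (i ∈ Set.range e → suAct (emb e (negTwo hF)) x i = -x i) ∧
      (i ∉ Set.range e → suAct (emb e (negTwo hF)) x i = x i) := by
  refine ⟨fun hi => ?_, fun hi => suAct_emb_off e _ x hi⟩
  obtain ⟨j, rfl⟩ := hi
  rw [suAct_emb_on, suAct_negTwo]
  rfl

theorem mat_emb_negTwo {m : ℕ} (e : Fin 2 ↪ Fin m) (w : Fin m → F)
    (h1 : ∀ i, i ∈ Set.range e → w i = -1) (h2 : ∀ i, i ∉ Set.range e → w i = 1) :
    mat (emb e (negTwo hF)) = Matrix.diagonal w :=
  Matrix.ext_iff_mulVec.2 fun x => funext fun i => by
    show suAct (emb e (negTwo hF)) x i = _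
    rw [Matrix.mulVec_diagonal]
    by_cases hi : i ∈ Set.range e
    · rw [(suAct_emb_negTwo hF e x i).1 hi, h1 i hi, neg_one_mul]
    · rw [(suAct_emb_negTwo hF e x i).2 hi, h2 i hi, one_mul]

theorem mat_D01 : mat (D01 hF) = Matrix.diagonal ![-1, -1, 1, 1] :=
  mat_emb_negTwo hF _ _
    (fun i hi => by rw [mem_range_shift] at hi; fin_cases i <;> simp at hi ⊢)
    (fun i hi => by rw [mem_range_shift] at hi; fin_cases i <;> simp at hi ⊢)

theorem mat_D12 : mat (D12 hF) = Matrix.diagonal ![1, -1, -1, 1] :=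
  mat_emb_negTwo hF _ _
    (fun i hi => by rw [mem_range_shift] at hi; fin_cases i <;> simp at hi ⊢)
    (fun i hi => by rw [mem_range_shift] at hi; fin_cases i <;> simp at hi ⊢)

theorem exists_eigen_step (h2 : (2 : F) ≠ 0) {m : ℕ} {a : Cfsg.SU m F q} (ha : a * a = 1)
    {z : Fin m → F} (hz : Cfsg.hermForm m F q z z ≠ 0) :
    ∃ s : Bool, Cfsg.hermForm m F q (z + (bif s then (-1 : F) else 1) • suAct a z)
        (z + (bif s then (-1 : F) else 1) • suAct a z) ≠ 0 ∧
      suAct a (z + (bif s then (-1 : F) else 1) • suAct a z) =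
        (bif s then (-1 : F) else 1) • (z + (bif s then (-1 : F) else 1) • suAct a z) := by
  have H := hH (d := m) hF
  have haa : suAct a (suAct a z) = z := by rw [← suAct_mul, ha, suAct_one]
  have heig : ∀ c : F, c * c = 1 → suAct a (z + c • suAct a z) = c • (z + c • suAct a z) := fun c hc => by
    rw [suAct_add, suAct_smul, haa, smul_add, smul_smul, hc, one_smul, add_comm]
  by_cases h : Cfsg.hermForm m F q (z + (1 : F) • suAct a z) (z + (1 : F) • suAct a z) = 0
  · refine ⟨true, fun h' => hz ?_, heig _ (by simp)⟩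
    simp only [cond_true] at h'
    rw [one_smul] at h
    rw [neg_one_smul] at h'
    simp only [H.add_left, H.add_right hF, H.neg_left, H.neg_right hF, suAct_herm] at h h'
    have h4 : (2 : F) * 2 * Cfsg.hermForm m F q z z = 0 := by linear_combination h + h'
    exact (mul_eq_zero.1 h4).resolve_left (mul_ne_zero h2 h2)
  · exact ⟨false, h, heig _ (by simp)⟩

/-- An orthonormal family of common eigenvectors of two commuting involutions. -/
theorem exists_joint (h2 : (2 : F) ≠ 0) {m : ℕ} {a b : Cfsg.SU m F q} (ha : a * a = 1)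
    (hb : b * b = 1) (hab : a * b = b * a) (k : ℕ) (hk : k ≤ m) :
    ∃ (v : Fin k → Fin m → F) (s t : Fin k → Bool), Orthonormal (Cfsg.hermForm m F q) v ∧
      ∀ i, suAct a (v i) = (bif s i then (-1 : F) else 1) • v i ∧
        suAct b (v i) = (bif t i then (-1 : F) else 1) • v i := by
  have H := hH (d := m) hF
  induction k with
  | zero => exact ⟨Fin.elim0, Fin.elim0, Fin.elim0, ⟨fun i => i.elim0, fun i => i.elim0⟩, fun i => i.elim0⟩
  | succ k ih =>
    obtain ⟨v, s, t, hv, heig⟩ := ih (by omega)
    obtain ⟨z, hz, hzv⟩ := exists_orthonormal_step hF H (hermForm_nondeg hF m) hv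
      (by rw [Module.finrank_fin_fun]; omega)
    have orth : ∀ (c : Cfsg.SU m F q) (e : Fin k → F), (∀ i, e i * e i = 1) →
        (∀ i, suAct c (v i) = e i • v i) → ∀ y, (∀ i, Cfsg.hermForm m F q (v i) y = 0) →
          ∀ i, Cfsg.hermForm m F q (v i) (suAct c y) = 0 := fun c e he hce y hy i => by
      have : v i = suAct c (e i • v i) := by rw [suAct_smul, hce, smul_smul, he, one_smul]
      rw [this, suAct_herm, H.smul_left, hy, mul_zero]
    have hsq : ∀ x : Bool, (bif x then (-1 : F) else 1) * (bif x then (-1 : F) else 1) = 1 := by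
      intro x; cases x <;> simp
    obtain ⟨s', hu, hua⟩ := exists_eigen_step hF h2 ha (z := z) (by rw [hz]; exact one_ne_zero)
    set u := z + (bif s' then (-1 : F) else 1) • suAct a z
    have huv : ∀ i, Cfsg.hermForm m F q (v i) u = 0 := fun i => by
      rw [H.add_right hF, H.smul_right, hzv,
        orth a _ (fun i => hsq (s i)) (fun i => (heig i).1) z hzv, mul_zero, add_zero]
    obtain ⟨t', hw, hwb⟩ := exists_eigen_step hF h2 hb hu
    set w := u + (bif t' then (-1 : F) else 1) • suAct b u
    have hwv : ∀ i, Cfsg.hermForm m F q (v i) w = 0 := fun i => by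
      rw [H.add_right hF, H.smul_right, huv,
        orth b _ (fun i => hsq (t i)) (fun i => (heig i).2) u huv, mul_zero, add_zero]
    have hwa : suAct a w = (bif s' then (-1 : F) else 1) • w := by
      rw [suAct_add, suAct_smul, ← suAct_mul, hab, suAct_mul, hua, suAct_smul, smul_add]
      module
    obtain ⟨c, -, -, hc⟩ := exists_scale hF hw
    refine ⟨Fin.snoc v (c • w), Fin.snoc s s', Fin.snoc t t',
      hv.snoc hF hc (fun i => by rw [H.smul_right, hwv, mul_zero]), fun i => ?_⟩
    induction i using Fin.lastCases with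
    | last => simp only [Fin.snoc_last, suAct_smul, hwa, hwb]; exact ⟨smul_comm _ _ _, smul_comm _ _ _⟩
    | cast i => simpa using heig i

omit hF in
theorem exists_pattern (s t : Fin 4 → Bool)
    (hs : (s 0).xor ((s 1).xor ((s 2).xor (s 3))) = false)
    (ht : (t 0).xor ((t 1).xor ((t 2).xor (t 3))) = false)
    (h1 : ¬ ∀ i, s i = s 0) (h2 : ¬ ∀ i, t i = t 0)
    (h3 : ¬ ∀ i, (s i).xor (t i) = (s 0).xor (t 0)) (a b : Bool) : ∃ i, s i = a ∧ t i = b := by
  revert s t a b; decide +kernel

/-- Two commuting involutions in general position are conjugate to D01 and D12. -/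
theorem exists_frame (h2 : (2 : F) ≠ 0) {a b : Cfsg.SU 4 F q} (ha : a * a = 1) (hb : b * b = 1)
    (hab : a * b = b * a) (hac : a ∉ Subgroup.center (Cfsg.SU 4 F q))
    (hbc : b ∉ Subgroup.center (Cfsg.SU 4 F q))
    (habc : a * b ∉ Subgroup.center (Cfsg.SU 4 F q)) :
    ∃ φ : Cfsg.SU 4 F q ≃* Cfsg.SU 4 F q, φ (D01 hF) = a ∧ φ (D12 hF) = b := by
  classical
  let sg : Bool → F := fun x => bif x then (-1 : F) else 1
  obtain ⟨v, s, t, hv, heig⟩ := exists_joint hF h2 ha hb hab 4 le_rfl
  obtain ⟨g, hg⟩ := exists_gu_map hF le_rfl hv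
  set P := ((g : Matrix.GeneralLinearGroup (Fin 4) F) : Matrix (Fin 4) (Fin 4) F)
  have hg' : ∀ i, P *ᵥ Pi.single i 1 = v i := fun i => hg i
  have hPdet : P.det ≠ 0 := Matrix.GeneralLinearGroup.det_ne_zero _
  have hdiag : ∀ (c : Cfsg.SU 4 F q) (e : Fin 4 → F), (∀ i, suAct c (v i) = e i • v i) →
      mat c * P = P * Matrix.diagonal e := fun c e hce => by
    refine Matrix.ext fun i j => ?_
    have h := congrFun (hce j) i
    rw [← hg' j, suAct, Matrix.mulVec_mulVec, Matrix.mulVec_single_one, Matrix.mulVec_single_one]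
      at h
    rw [Matrix.mul_diagonal]
    exact h.trans (mul_comm _ _)
  have hparity : ∀ (c : Cfsg.SU 4 F q) (x : Fin 4 → Bool),
      (∀ i, suAct c (v i) = sg (x i) • v i) →
        (x 0).xor ((x 1).xor ((x 2).xor (x 3))) = false := fun c x hce => by
    have h := congrArg Matrix.det (hdiag c _ hce)
    rw [Matrix.det_mul, Matrix.det_mul, (c : Matrix.SpecialLinearGroup (Fin 4) F).2, one_mul,
      Matrix.det_diagonal, Fin.prod_univ_four] at h
    have h1 : sg (x 0) * sg (x 1) * sg (x 2) * sg (x 3) = 1 :=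
      mul_left_cancel₀ hPdet (h.symm.trans (mul_one _).symm)
    have hn : (-1 : F) ≠ 1 := fun e => h2 (by linear_combination -e)
    revert h1
    cases x 0 <;> cases x 1 <;> cases x 2 <;> cases x 3 <;> simp [sg, hn]
  have hconst : ∀ (c : Cfsg.SU 4 F q) (x : Fin 4 → Bool),
      (∀ i, suAct c (v i) = sg (x i) • v i) → (∀ i, x i = x 0) →
        c ∈ Subgroup.center (Cfsg.SU 4 F q) := fun c x hce hx => by
    refine (mem_center_SU_iff hF (by omega) c).2 ⟨sg (x 0), ?_⟩
    have hPu : IsUnit P := ((g : Matrix.GeneralLinearGroup (Fin 4) F)).isUnit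
    refine hPu.mul_right_cancel ?_
    show mat c * P = _
    rw [hdiag c (fun _ => sg (x 0)) (fun i => by rw [hce i, hx i]), Matrix.scalar_apply]
    exact (Matrix.scalar_commute (n := Fin 4) (sg (x 0)) (fun r => mul_comm _ r) P).eq.symm
  have hs := hparity a s (fun i => (heig i).1)
  have ht := hparity b t (fun i => (heig i).2)
  have hst : ¬ ∀ i, (s i).xor (t i) = (s 0).xor (t 0) := fun h =>
    habc (hconst (a * b) (fun i => (s i).xor (t i)) (fun i => by
      rw [suAct_mul, (heig i).2, suAct_smul, (heig i).1, smul_smul]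
      congr 1
      cases s i <;> cases t i <;> simp [sg]) h)
  have hsel := exists_pattern s t hs ht (fun h => hac (hconst a s (fun i => (heig i).1) h))
    (fun h => hbc (hconst b t (fun i => (heig i).2) h)) hst
  let S : Fin 4 → Bool := ![true, true, false, false]
  let T : Fin 4 → Bool := ![false, true, true, false]
  choose σ hσs hσt using fun i => hsel (S i) (T i)
  have hσ : Function.Injective σ := fun i j e => by
    have e1 : S i = S j := by rw [← hσs i, e, hσs j]
    have e2 : T i = T j := by rw [← hσt i, e, hσt j]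
    revert e1 e2
    fin_cases i <;> fin_cases j <;> simp [S, T]
  obtain ⟨g₂, hg₂⟩ := exists_gu_map hF le_rfl (hv.comp σ hσ)
  obtain ⟨φ, hφ⟩ := exists_conjEquiv hF _ g₂.2
  have hfin : ∀ (c D : Cfsg.SU 4 F q) (e : Fin 4 → F),
      (∀ i, suAct c (v (σ i)) = e i • v (σ i)) → mat D = Matrix.diagonal e → φ D = c :=
    fun c D e hce hD => mat_injective (by
      rw [hφ, hD]
      set M := ((g₂ : Matrix.GeneralLinearGroup (Fin 4) F) : Matrix (Fin 4) (Fin 4) F)
      have hM : mat c * M = M * Matrix.diagonal e := by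
        refine Matrix.ext fun i j => ?_
        have h := congrFun (hce j) i
        have hj : M *ᵥ Pi.single j 1 = v (σ j) := hg₂ j
        rw [← hj, suAct, Matrix.mulVec_mulVec, Matrix.mulVec_single_one, Matrix.mulVec_single_one]
          at h
        rw [Matrix.mul_diagonal]
        exact h.trans (mul_comm _ _)
      rw [← hM, mul_assoc, Units.mul_inv, mul_one])
  refine ⟨φ, hfin a _ _ (fun i => ?_) (mat_D01 hF), hfin b _ _ (fun i => ?_) (mat_D12 hF)⟩
  · rw [(heig (σ i)).1, hσs]
    fin_cases i <;> simp [S]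
  · rw [(heig (σ i)).2, hσt]
    fin_cases i <;> simp [T]

omit hF in
theorem emb_pair_injective {A A' B B' : Cfsg.SU 2 F q}
    (h : (emb d01 A * emb d23 B : Cfsg.SU 4 F q) = emb d01 A' * emb d23 B') :
    A = A' ∧ B = B' := by
  have hcross : ∀ i j : Fin 2, d01 i ≠ d23 j := fun i j e => by
    have := congrArg Fin.val e
    simp only [shift_val] at this
    omega
  constructor <;> refine suAct_ext fun y => funext fun i => ?_
  · have h1 := congrArg (fun g => suAct g (ext d01 y) (d01 i)) h
    simp only [suAct_mul, suAct_emb_on] at h1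
    have hx : ∀ B : Cfsg.SU 2 F q, suAct (emb d23 B) (ext d01 y) ∘ d01 = y := fun B => funext fun j => by
      rw [Function.comp_apply, suAct_emb_off d23 B _ (fun ⟨l, hl⟩ => hcross j l hl.symm), ext_on]
    rwa [hx, hx] at h1
  · have h1 := congrArg (fun g => suAct g (ext d23 y) (d23 i)) h
    simp only [suAct_mul, suAct_emb_off d01 _ _ (fun ⟨l, hl⟩ => hcross l i hl : d23 i ∉ Set.range d01),
      suAct_emb_on, ext_comp] at h1
    exact h1

/-- An element of order three commuting with D01 splits. -/
theorem exists_pair_of_comm (h2 : (2 : F) ≠ 0) (hdet3 : ∀ x : F, x ^ 3 = 1 → x = 1)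
    {u : Cfsg.SU 4 F q} (hu : u ^ 3 = 1) (hcomm : u * D01 hF = D01 hF * u) :
    ∃ A B : Cfsg.SU 2 F q, u = emb d01 A * emb d23 B ∧ A ^ 3 = 1 ∧ B ^ 3 = 1 := by
  have hll : ∀ (i j : Fin 2), mat u (Fin.natAdd 2 i) (Fin.castAdd 2 j) = 0 := by
    intro i j
    have h := congrFun (congrFun (congrArg mat hcomm) (Fin.natAdd 2 i)) (Fin.castAdd 2 j)
    rw [mat_mul, mat_mul, mat_D01, Matrix.mul_diagonal, Matrix.diagonal_mul] at h
    have key : -mat u (Fin.natAdd 2 i) (Fin.castAdd 2 j) = mat u (Fin.natAdd 2 i) (Fin.castAdd 2 j) := by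
      fin_cases i <;> fin_cases j <;> simp [Fin.natAdd, Fin.castAdd, Fin.castLE] at h ⊢ <;>
        first
          | exact h
          | exact h.symm
          | linear_combination h
    exact (mul_eq_zero.1 (show (2 : F) * mat u (Fin.natAdd 2 i) (Fin.castAdd 2 j) = 0 by
      linear_combination -key)).resolve_left h2
  obtain ⟨⟨A₀, B₀⟩, hAB⟩ := (mem_range_blockHom_iff (k := 2) (m := 2) hF
    (suToGU 4 F q u)).2 hll
  have hM : mat u = blockMatrix ((A₀ : Matrix.GeneralLinearGroup (Fin 2) F) : Matrix (Fin 2) (Fin 2) F)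
      ((B₀ : Matrix.GeneralLinearGroup (Fin 2) F) : Matrix (Fin 2) (Fin 2) F) :=
    congrArg (fun x : Cfsg.GU 4 F q =>
      ((x : Matrix.GeneralLinearGroup (Fin 4) F) : Matrix (Fin 4) (Fin 4) F)) hAB.symm
  set A := ((A₀ : Matrix.GeneralLinearGroup (Fin 2) F) : Matrix (Fin 2) (Fin 2) F)
  set B := ((B₀ : Matrix.GeneralLinearGroup (Fin 2) F) : Matrix (Fin 2) (Fin 2) F)
  have h3 : blockMatrix (A * A * A) (B * B * B) = blockMatrix (1 : Matrix (Fin 2) (Fin 2) F) 1 := by
    rw [blockMatrix_mul, blockMatrix_mul, ← hM, ← mat_mul, ← mat_mul, ← pow_two, ← pow_succ, hu,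
      mat_one]
    refine Matrix.ext_iff_mulVec.2 fun w => ?_
    rw [Matrix.one_mulVec, ← append_split (k := 2) (m := 2) w, blockMatrix_mulVec, Matrix.one_mulVec, Matrix.one_mulVec]
  have hA3 : A * A * A = 1 := Matrix.ext fun i j => by
    simpa [blockMatrix] using congrFun (congrFun h3 (Fin.castAdd 2 i)) (Fin.castAdd 2 j)
  have hB3 : B * B * B = 1 := Matrix.ext fun i j => by
    have := congrFun (congrFun h3 (Fin.natAdd 2 i)) (Fin.natAdd 2 j)
    simp only [blockMatrix, Matrix.of_apply, Fin.append_right] at this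
    exact this
  have hdA : A.det = 1 := hdet3 _ (by
    have := congrArg Matrix.det hA3
    rw [Matrix.det_mul, Matrix.det_mul, Matrix.det_one] at this
    linear_combination this)
  have hdB : B.det = 1 := hdet3 _ (by
    have := congrArg Matrix.det hB3
    rw [Matrix.det_mul, Matrix.det_mul, Matrix.det_one] at this
    linear_combination this)
  refine ⟨suOfUnitary A A₀.2 hdA, suOfUnitary B B₀.2 hdB, suAct_ext fun x => ?_, mat_injective ?_,
    mat_injective ?_⟩
  · funext k
    rw [suAct_mul]
    show (mat u *ᵥ x) k = _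
    rw [hM, ← append_split (k := 2) (m := 2) x, blockMatrix_mulVec]
    induction k using Fin.addCases (m := 2) (n := 2) with
    | left i =>
      rw [Fin.append_left, show Fin.castAdd 2 i = d01 i from Fin.ext (by simp [shift_val]),
        suAct_emb_on]
      show (A *ᵥ _) i = (A *ᵥ _) i
      congr 2
      funext j
      rw [Function.comp_apply, suAct_emb_off d23 _ _ (fun ⟨l, hl⟩ => by
          have := congrArg Fin.val hl
          simp only [shift_val] at this
          omega),
        show d01 j = Fin.castAdd 2 j from Fin.ext (by simp [shift_val]), Fin.append_left]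
    | right i =>
      have hk : Fin.natAdd 2 i = d23 i := Fin.ext (by simp [shift_val]; omega)
      rw [Fin.append_right, hk, suAct_emb_off d01 _ _ (fun ⟨l, hl⟩ => by
          have := congrArg Fin.val hl
          simp only [shift_val] at this
          omega), suAct_emb_on]
      show (B *ᵥ _) i = (B *ᵥ _) i
      congr 2
      funext j
      rw [Function.comp_apply, show d23 j = Fin.natAdd 2 j from Fin.ext (by simp [shift_val]; omega),
        Fin.append_right]
  · rw [pow_succ, pow_two, mat_mul, mat_mul, mat_one]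
    exact hA3
  · rw [pow_succ, pow_two, mat_mul, mat_mul, mat_one]
    exact hB3

end Cfsg.Agent.Phan
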