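/-
The amalgam of SU_{m+4} and SU_4 over SU_3 maps isomorphically onto SU_{m+5}, q = 2.

* `Amalgam2`: a group over SU_{m+5} generated by compatible copies of the two subgroups, with the
  commutations of the distant parts.
* `Amalgam2.bijective`, `exists_glue2`.

A point over the first of the last four coordinates is fixed by the last triple, and the distant
SU_{m+2} commutes with that triple; this makes all paths of length two between two non-orthogonal
points agree.
-/
import Cfsg.Agent.Lib.Phan.GenThree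
import Cfsg.Agent.Lib.Phan.Frame

set_option autoImplicit false

namespace Cfsg.Agent.Phan

open Cfsg.Agent.Unitary

variable {F : Type*} [Field F] {q m : ℕ}

/-- The first m+4 coordinates. -/
abbrev aL (m : ℕ) : Fin (m + 4) ↪ Fin (m + 5) := shift 0 (m + 4) (m + 5) (by omega)
/-- The last four coordinates. -/
abbrev aR (m : ℕ) : Fin 4 ↪ Fin (m + 5) := shift (m + 1) 4 (m + 5) (by omega)
/-- The overlap inside the first part. -/
abbrev aO (m : ℕ) : Fin 3 ↪ Fin (m + 4) := shift (m + 1) 3 (m + 4) (by omega)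
/-- The first m+3 coordinates. -/
abbrev aK (m : ℕ) : Fin (m + 3) ↪ Fin (m + 4) := shift 0 (m + 3) (m + 4) (by omega)
/-- The first m+2 coordinates. -/
abbrev aS (m : ℕ) : Fin (m + 2) ↪ Fin (m + 4) := shift 0 (m + 2) (m + 4) (by omega)
/-- The last pair inside the first part. -/
abbrev cP (m : ℕ) : Fin 2 ↪ Fin (m + 4) := shift (m + 2) 2 (m + 4) (by omega)
/-- The first triple inside SU_4. -/
abbrev b012 : Fin 3 ↪ Fin 4 := shift 0 3 4 (by omega)
/-- The last triple inside SU_4. -/
abbrev b123 : Fin 3 ↪ Fin 4 := shift 1 3 4 (by omega)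

theorem aR_zero : aR m 0 = aL m ⟨m + 1, by omega⟩ := Fin.ext (by simp [shift_val])
theorem aR_one : aR m 1 = aL m ⟨m + 2, by omega⟩ := Fin.ext (by simp [shift_val])
theorem aR_two : aR m 2 = aL m (Fin.last (m + 3)) := Fin.ext (by simp [shift_val])
theorem aR_three : aR m 3 = Fin.last (m + 4) := Fin.ext (by simp [shift_val])
theorem cP_one : cP m 1 = Fin.last (m + 3) := Fin.ext (by simp [shift_val])
theorem d01_zero : d01 0 = 0 := rfl
theorem d01_one : d01 1 = 1 := rfl
theorem d12_zero : d12 0 = 1 := rfl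
theorem d12_one : d12 1 = 2 := rfl
theorem d23_zero : d23 0 = 2 := rfl
theorem d23_one : d23 1 = 3 := rfl

theorem last_notMem_aL : Fin.last (m + 4) ∉ Set.range (aL m) := by
  rw [mem_range_shift, Fin.val_last]; omega

/-- A group over SU_{m+5} generated by compatible copies of SU_{m+4} and SU_4. -/
structure Amalgam2 (F : Type*) [Field F] (q m : ℕ) (Γ : Type*) [Group Γ] where
  proj : Γ →* Cfsg.SU (m + 5) F q
  left : Cfsg.SU (m + 4) F q →* Γ
  right : Cfsg.SU 4 F q →* Γ
  proj_left : ∀ g, proj (left g) = emb (aL m) g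
  proj_right : ∀ h, proj (right h) = emb (aR m) h
  agree : ∀ g, left (emb (aO m) g) = right (emb b012 g)
  commK : ∀ k h, Commute (left (emb (aK m) k)) (right (emb d23 h))
  commS : ∀ k h, Commute (left (emb (aS m) k)) (right (emb b123 h))
  generates : Subgroup.closure (Set.range left ∪ Set.range right) = ⊤

namespace Amalgam2

variable {Γ : Type*} [Group Γ] (D : Amalgam2 F q m Γ) [Fintype F]
  (hF : Fintype.card F = q ^ 2)

local notation "eL" => (Pi.single (Fin.last (m + 4)) 1 : Fin (m + 5) → F)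
local notation "eM" => (Pi.single (Fin.last (m + 3)) 1 : Fin (m + 4) → F)

include hF

theorem proj_left_last (g : Cfsg.SU (m + 4) F q) : suAct (D.proj (D.left g)) eL = eL := by
  rw [D.proj_left, suAct_emb_single_off hF _ _ last_notMem_aL]

omit [Fintype F] hF in
theorem proj_right_ext (h : Cfsg.SU 4 F q) (u : Fin 4 → F) :
    suAct (D.proj (D.right h)) (ext (aR m) u) = ext (aR m) (suAct h u) := by
  rw [D.proj_right, suAct_emb_ext]

omit [Fintype F] hF in
theorem last_eq_ext : eL = ext (aR m) (Pi.single 3 1) := by rw [ext_single, aR_three]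

omit [Fintype F] hF in
theorem pen_eq_ext : ext (aL m) eM = ext (aR m) (Pi.single 2 1) := by
  rw [ext_single, ext_single, aR_two]

omit [Fintype F] hF in
theorem left_pair (s : Cfsg.SU 2 F q) : D.left (emb (cP m) s) = D.right (emb d12 s) := by
  have h := D.agree (emb (shift 1 2 3 (by omega)) s)
  rw [emb_comp, emb_comp, shift_trans, shift_trans] at h
  exact h

/-- An element of SU_4 fixing the last line splits off the diagonal part of the last block. -/
theorem exists_split {h : Cfsg.SU 4 F q} {c : F} (hh : suAct h (Pi.single 3 1) = c • Pi.single 3 1) :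
    ∃ (k : Cfsg.SU 3 F q) (t : Cfsg.SU 2 F q), t ∈ tor ∧ h = emb b012 k * emb d23 t := by
  have hc : c ^ (q + 1) = 1 := norm_of_smul hF (single_unit hF 3)
    (by rw [← hh, suAct_herm, single_unit hF])
  obtain ⟨t, ht, hte⟩ := exists_tor hF hc
  have h2 : suAct (emb d23 t) (Pi.single 3 1) = c • (Pi.single 3 1 : Fin 4 → F) := by
    rw [← d23_one, suAct_emb_single, hte, map_smul, ext_single]
  have hfix : h * (emb d23 t)⁻¹ ∈ (emb b012 : Cfsg.SU 3 F q →* _).range := by
    rw [mem_range_emb_iff hF]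
    intro l hl
    rw [mem_range_shift] at hl
    have hl2 : l = 3 := Fin.ext (by simp; omega)
    subst hl2
    have hc0 : c ≠ 0 := fun e => by rw [e, zero_pow (Nat.succ_ne_zero q)] at hc; exact zero_ne_one hc
    have h3 := suAct_inv_of h2
    rw [suAct_smul] at h3
    rw [suAct_mul, (eq_inv_smul_iff₀ hc0).2 h3, suAct_smul, hh, inv_smul_smul₀ hc0]
  obtain ⟨k, hk⟩ := hfix
  exact ⟨k, t, ht, by rw [hk, inv_mul_cancel_right]⟩

/-- Conjugation by the diagonal part of the last block preserves the left part. -/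
theorem tor_normal {t : Cfsg.SU 2 F q} (ht : t ∈ tor) (g : Cfsg.SU (m + 4) F q) :
    D.right (emb d23 t) * D.left g * (D.right (emb d23 t))⁻¹ ∈ D.left.range := by
  set x := D.right (emb d23 t) with hx
  have hle : gen3 (m + 4) F q ≤
      (D.left.range.comap (MulAut.conj x).toMonoidHom).comap D.left := by
    refine iSup₂_le fun i hi => ?_
    rintro _ ⟨k, rfl⟩
    rw [Subgroup.mem_comap, Subgroup.mem_comap]
    show x * D.left _ * x⁻¹ ∈ _
    by_cases hi' : i + 3 ≤ m + 3
    · have e : (shift i 3 (m + 3) hi').trans (aK m) = shift i 3 (m + 4) hi :=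
        Function.Embedding.ext fun j => Fin.ext (by simp [shift_val])
      rw [← e, ← emb_comp, hx, ← (D.commK _ t).eq, mul_inv_cancel_right]
      exact ⟨_, rfl⟩
    · have e : shift i 3 (m + 4) hi = aO m :=
        Function.Embedding.ext fun j => Fin.ext (by simp [shift_val]; omega)
      rw [e, D.agree, hx, ← map_inv D.right, ← map_mul, ← map_mul]
      obtain ⟨c, hc⟩ := ht
      have hfix : emb d23 t * emb b012 k * (emb d23 t)⁻¹ ∈
          (emb b012 : Cfsg.SU 3 F q →* _).range := by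
        rw [mem_range_emb_iff hF]
        intro l hl
        rw [mem_range_shift] at hl
        have hl2 : l = 3 := Fin.ext (by simp; omega)
        subst hl2
        have h2 : suAct (emb d23 t) (Pi.single 3 1) = c • (Pi.single 3 1 : Fin 4 → F) := by
          rw [← d23_one, suAct_emb_single, hc, map_smul, ext_single]
        have hc0 : c ≠ 0 := fun e => by
          have := suAct_inv_suAct (emb d23 t) (Pi.single 3 1 : Fin 4 → F)
          rw [h2, e, zero_smul, suAct_zero] at this
          exact zero_ne_one (α := F) (by simpa using congrFun this 3)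
        have h3 := suAct_inv_of h2
        rw [suAct_smul] at h3
        rw [suAct_mul, suAct_mul, (eq_inv_smul_iff₀ hc0).2 h3, suAct_smul, suAct_smul,
          suAct_emb_single_off hF b012 k (by rw [mem_range_shift]; simp), h2,
          inv_smul_smul₀ hc0]
      obtain ⟨k', hk'⟩ := hfix
      exact ⟨emb (aO m) k', by rw [D.agree, hk']⟩
  exact hle (show g ∈ gen3 (m + 4) F q by rw [gen3_top hF (by omega)]; trivial)

/-- The lifted stabiliser of the last line. -/
def stab : Subgroup Γ where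
  carrier := {x | ∃ g, ∃ t : Cfsg.SU 2 F q, t ∈ tor ∧ x = D.left g * D.right (emb d23 t)}
  one_mem' := ⟨1, 1, one_mem _, by simp⟩
  mul_mem' := by
    rintro _ _ ⟨g, t, ht, rfl⟩ ⟨g', t', ht', rfl⟩
    obtain ⟨g'', hg''⟩ := D.tor_normal hF ht g'
    refine ⟨g * g'', t * t', mul_mem ht ht', ?_⟩
    rw [map_mul, map_mul, map_mul, hg'']
    group
  inv_mem' := by
    rintro _ ⟨g, t, ht, rfl⟩
    obtain ⟨g', hg'⟩ := D.tor_normal hF (inv_mem ht) g⁻¹
    refine ⟨g', t⁻¹, inv_mem ht, ?_⟩
    rw [hg', map_inv, map_inv, map_inv]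
    group

theorem left_mem (g : Cfsg.SU (m + 4) F q) : D.left g ∈ D.stab hF :=
  ⟨g, 1, one_mem _, by simp⟩

theorem right_mem {h : Cfsg.SU 4 F q} {c : F}
    (hh : suAct h (Pi.single 3 1) = c • Pi.single 3 1) : D.right h ∈ D.stab hF := by
  obtain ⟨k, t, ht, rfl⟩ := exists_split hF hh
  exact ⟨emb (aO m) k, t, ht, by rw [D.agree, map_mul]⟩

theorem stab_line {x : Γ} (hx : x ∈ D.stab hF) :
    ∃ c : F, c ^ (q + 1) = 1 ∧ suAct (D.proj x) eL = c • eL := by
  obtain ⟨g, t, ⟨c, hc⟩, rfl⟩ := hx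
  have h : suAct (D.proj (D.left g * D.right (emb d23 t))) eL = c • eL := by
    rw [map_mul, suAct_mul, last_eq_ext, D.proj_right_ext, ← d23_one, suAct_emb_single, hc,
      map_smul, ext_single, map_smul, d23_one, ← last_eq_ext, suAct_smul, D.proj_left_last hF]
  exact ⟨c, norm_of_smul hF (single_unit hF _) (by rw [← h, suAct_herm, single_unit hF]), h⟩

theorem stab_injective {x : Γ} (hx : x ∈ D.stab hF) (h1 : D.proj x = 1) : x = 1 := by
  obtain ⟨g, t, ⟨c, hc⟩, rfl⟩ := hx
  have h : suAct (D.proj (D.left g * D.right (emb d23 t))) eL = c • eL := by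
    rw [map_mul, suAct_mul, last_eq_ext, D.proj_right_ext, ← d23_one, suAct_emb_single, hc,
      map_smul, ext_single, map_smul, d23_one, ← last_eq_ext, suAct_smul, D.proj_left_last hF]
  rw [h1, suAct_one] at h
  have hc1 : c = 1 := by simpa using (congrFun h (Fin.last (m + 4))).symm
  have ht : t = 1 := two_fix hF (by rw [hc, hc1, one_smul])
  rw [ht, map_one, map_one, mul_one] at h1 ⊢
  rw [D.proj_left] at h1
  rw [show g = 1 from emb_injective _ (h1.trans (map_one _).symm), map_one]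

/-- The exchange element. -/
noncomputable def swap : Γ := D.right (emb d23 (exists_swap_two hF).choose)

theorem swap_right : ∃ W : Cfsg.SU 4 F q, D.swap hF = D.right W ∧
    W = emb d23 (exists_swap_two hF).choose ∧
    suAct W (Pi.single 3 1) = Pi.single 2 1 ∧
    suAct W (Pi.single 2 1) = (-1 : F) • Pi.single 3 1 ∧
    suAct W (Pi.single 1 1) = Pi.single 1 1 := by
  obtain ⟨h1, h0⟩ := (exists_swap_two hF).choose_spec
  refine ⟨_, rfl, rfl, ?_, ?_, suAct_emb_single_off hF _ _ (by rw [mem_range_shift]; simp)⟩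
  · rw [← d23_one, suAct_emb_single, h1, ext_single, d23_zero]
  · rw [← d23_zero, suAct_emb_single, h0, map_smul, ext_single, d23_one]

theorem swap_last : suAct (D.proj (D.swap hF)) eL = ext (aL m) eM := by
  obtain ⟨W, hW, -, h2, -, -⟩ := D.swap_right hF
  rw [hW, last_eq_ext, D.proj_right_ext, h2, pen_eq_ext]

theorem swap_sq : D.swap hF * D.swap hF ∈ D.stab hF := by
  obtain ⟨W, hW, -, h2, h1, -⟩ := D.swap_right hF
  rw [hW, ← map_mul]
  exact D.right_mem hF (c := -1) (by rw [suAct_mul, h2, h1])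

theorem swap_conj {p : Γ} (hp : p ∈ D.stab hF) {c : F}
    (hc : suAct (D.proj p) (ext (aL m) eM) = c • ext (aL m) eM) :
    (D.swap hF)⁻¹ * p * D.swap hF ∈ D.stab hF := by
  obtain ⟨g, t, ⟨l, hl⟩, rfl⟩ := hp
  obtain ⟨a, ha⟩ := two_line hF hl
  have ha0 : a ≠ 0 := fun e => by
    have := suAct_herm t (Pi.single 0 1) (Pi.single 0 1)
    rw [ha, e, zero_smul, (hH hF).zero_left, single_unit hF] at this
    exact zero_ne_one this
  have hg : suAct g eM = (a⁻¹ * c) • eM := by
    apply ext_injective (aL m)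
    have h1 : suAct (D.proj (D.right (emb d23 t))) (ext (aL m) eM) = a • ext (aL m) eM := by
      rw [pen_eq_ext, D.proj_right_ext, ← d23_zero, suAct_emb_single, ha, map_smul, map_smul,
        ext_single]
    rw [map_mul, suAct_mul, h1, suAct_smul, D.proj_left, suAct_emb_ext] at hc
    rw [map_smul, mul_smul, ← hc, inv_smul_smul₀ ha0]
  set b := a⁻¹ * c
  have hb : b ^ (q + 1) = 1 := norm_of_smul hF (single_unit hF _)
    (by rw [← hg, suAct_herm, single_unit hF])
  obtain ⟨s, hs, hse⟩ := exists_tor hF hb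
  have hb0 : b ≠ 0 := fun e => by rw [e, zero_pow (Nat.succ_ne_zero q)] at hb; exact zero_ne_one hb
  have hfix : g * (emb (cP m) s)⁻¹ ∈ (emb (aK m) : Cfsg.SU (m + 3) F q →* _).range := by
    rw [mem_range_emb_iff hF]
    intro j hj
    rw [mem_range_shift] at hj
    have hj2 : j = Fin.last (m + 3) := Fin.ext (by simp; omega)
    subst hj2
    have h2 : suAct (emb (cP m) s) eM = b • eM := by
      rw [← cO_one, suAct_emb_single, hse, map_smul, ext_single]
    have h3 := suAct_inv_of h2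
    rw [suAct_smul] at h3
    rw [suAct_mul, (eq_inv_smul_iff₀ hb0).2 h3, suAct_smul, hg, inv_smul_smul₀ hb0]
  obtain ⟨k, hk⟩ := hfix
  obtain ⟨W, hW, hWd, h2, h1, h0⟩ := D.swap_right hF
  have hg' : g = emb (aK m) k * emb (cP m) s := by rw [hk, inv_mul_cancel_right]
  have hcomm := (D.commK k (exists_swap_two hF).choose).eq
  rw [← hWd] at hcomm
  have key : (D.swap hF)⁻¹ * (D.left g * D.right (emb d23 t)) * D.swap hF =
      D.left (emb (aK m) k) * D.right (W⁻¹ * (emb d12 s * emb d23 t) * W) := by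
    rw [hW, hg', map_mul D.left, D.left_pair, map_mul, map_mul, map_mul, map_inv]
    calc _ = ((D.right W)⁻¹ * D.left (emb (aK m) k)) *
          (D.right (emb d12 s) * D.right (emb d23 t) * D.right W) := by group
      _ = (D.left (emb (aK m) k) * (D.right W)⁻¹) *
          (D.right (emb d12 s) * D.right (emb d23 t) * D.right W) := by
        rw [(show Commute (D.left (emb (aK m) k)) (D.right W) from hcomm).inv_right.eq]
      _ = _ := by group
  rw [key]
  refine mul_mem (D.left_mem hF _) (D.right_mem hF (c := a * b) ?_)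
  rw [suAct_mul, suAct_mul, suAct_mul, h2]
  rw [show suAct (emb d23 t) (Pi.single 2 1) = a • (Pi.single 2 1 : Fin 4 → F) by
      rw [← d23_zero, suAct_emb_single, ha, map_smul, ext_single],
    suAct_smul,
    show suAct (emb d12 s) (Pi.single 2 1) = b • (Pi.single 2 1 : Fin 4 → F) by
      rw [← d12_one, suAct_emb_single, hse, map_smul, ext_single],
    suAct_smul, suAct_smul, suAct_inv_of h2, smul_smul]

/-- Two cosets through the same adjacency with proportional images coincide. -/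
theorem coset_uniq {δ δ' : Γ} (h : (δ : Γ ⧸ D.stab hF) = δ') {c : F}
    (hv : suAct (D.proj δ') (ext (aL m) eM) = c • suAct (D.proj δ) (ext (aL m) eM)) :
    ((δ * D.swap hF : Γ) : Γ ⧸ D.stab hF) = ((δ' * D.swap hF : Γ) : Γ ⧸ D.stab hF) := by
  rw [QuotientGroup.eq] at h ⊢
  have : suAct (D.proj (δ⁻¹ * δ')) (ext (aL m) eM) = c • ext (aL m) eM := by
    rw [map_mul, map_inv, suAct_mul, hv, suAct_smul, suAct_inv_suAct]
  have := D.swap_conj hF h this
  rwa [show (δ * D.swap hF)⁻¹ * (δ' * D.swap hF) = (D.swap hF)⁻¹ * (δ⁻¹ * δ') * D.swap hF by group]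

theorem adj_symm_aux (γ : Γ) :
    ((γ * D.swap hF * D.swap hF : Γ) : Γ ⧸ D.stab hF) = (γ : Γ ⧸ D.stab hF) := by
  rw [QuotientGroup.eq, show (γ * D.swap hF * D.swap hF)⁻¹ * γ =
    (D.swap hF * D.swap hF)⁻¹ by group]
  exact inv_mem (D.swap_sq hF)

theorem coset_eq {x y : Γ} {h : Cfsg.SU 4 F q} {c : F} (hy : y = x * D.right h)
    (hh : suAct h (Pi.single 3 1) = c • Pi.single 3 1) :
    (y : Γ ⧸ D.stab hF) = (x : Γ ⧸ D.stab hF) := by
  rw [hy]
  exact QuotientGroup.mk_mul_of_mem x (D.right_mem hF hh)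

/-- Adjacency of cosets. -/
def CAdj (A B : Γ ⧸ D.stab hF) : Prop :=
  ∃ γ : Γ, (γ : Γ ⧸ D.stab hF) = A ∧ ((γ * D.swap hF : Γ) : Γ ⧸ D.stab hF) = B

/-- A coset lies over a vector. -/
def COver (A : Γ ⧸ D.stab hF) (v : Fin (m + 5) → F) : Prop :=
  ∃ γ : Γ, (γ : Γ ⧸ D.stab hF) = A ∧ suAct (D.proj γ) eL = v

theorem cover_eq {x : Γ} {v : Fin (m + 5) → F} (h : D.COver hF x v) :
    ∃ c : F, c ^ (q + 1) = 1 ∧ v = c • suAct (D.proj x) eL := by
  obtain ⟨γ, hγ, rfl⟩ := h
  rw [eq_comm, QuotientGroup.eq] at hγ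
  obtain ⟨c, hc, he⟩ := D.stab_line hF hγ
  refine ⟨c, hc, ?_⟩
  rw [show γ = x * (x⁻¹ * γ) by group, map_mul, suAct_mul, he, suAct_smul]

theorem cadj_symm {A B : Γ ⧸ D.stab hF} (h : D.CAdj hF A B) : D.CAdj hF B A := by
  obtain ⟨γ, rfl, rfl⟩ := h
  exact ⟨γ * D.swap hF, rfl, D.adj_symm_aux hF γ⟩

theorem cover_smul {A : Γ ⧸ D.stab hF} {v : Fin (m + 5) → F} (c : F)
    (h : D.COver hF A v) (hc : c ^ (q + 1) = 1) : D.COver hF A (c • v) := by
  obtain ⟨γ, rfl, rfl⟩ := h
  obtain ⟨t, ht, hte⟩ := exists_tor hF hc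
  have h2 : suAct (emb d23 t) (Pi.single 3 1) = c • (Pi.single 3 1 : Fin 4 → F) := by
    rw [← d23_one, suAct_emb_single, hte, map_smul, ext_single]
  refine ⟨γ * D.right (emb d23 t), D.coset_eq hF rfl h2, ?_⟩
  rw [map_mul, suAct_mul, last_eq_ext, D.proj_right_ext, h2, map_smul, suAct_smul]

/-- A neighbour in the direction of a given vector. -/
theorem clift {A : Γ ⧸ D.stab hF} {v : Fin (m + 5) → F} (w : Fin (m + 5) → F)
    (hA : D.COver hF A v) (hw : Cfsg.hermForm (m + 5) F q w w = 1)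
    (hvw : Cfsg.hermForm (m + 5) F q v w = 0) :
    ∃ B, D.CAdj hF A B ∧ D.COver hF B w := by
  obtain ⟨γ, rfl, rfl⟩ := hA
  set y := suAct (D.proj γ)⁻¹ w with hy
  have hy1 : Cfsg.hermForm (m + 5) F q y y = 1 := by rw [hy, suAct_herm, hw]
  have hy0 : y (Fin.last (m + 4)) = 0 := by
    have h := suAct_herm (D.proj γ)⁻¹ w (suAct (D.proj γ) eL)
    rwa [suAct_inv_suAct, ← hy, hermForm_single hF, hm_symm0 hF hvw] at h
  have hyext : ext (aL m) (y ∘ aL m) = y := by
    funext i
    by_cases hi : i ∈ Set.range (aL m)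
    · obtain ⟨j, rfl⟩ := hi
      rw [ext_on]; rfl
    · rw [ext_off _ _ hi]
      rw [mem_range_shift] at hi
      have : i = Fin.last (m + 4) := Fin.ext (by simp; omega)
      rw [this, hy0]
  obtain ⟨g, hg⟩ := exists_su_unit hF (by omega) (single_unit hF (Fin.last (m + 3))) (y := y ∘ aL m)
    (by rw [← herm_ext hF (aL m), hyext, hy1])
  refine ⟨((γ * D.left g * D.swap hF : Γ) : Γ ⧸ D.stab hF),
    ⟨γ * D.left g, QuotientGroup.mk_mul_of_mem γ (D.left_mem hF g), rfl⟩,
    γ * D.left g * D.swap hF, rfl, ?_⟩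
  rw [map_mul, suAct_mul, D.swap_last hF, map_mul, suAct_mul, D.proj_left, suAct_emb_ext, hg,
    hyext, hy, suAct_suAct_inv]

theorem clift_uniq {A B B' : Γ ⧸ D.stab hF} {w : Fin (m + 5) → F} (h : D.CAdj hF A B)
    (h' : D.CAdj hF A B') (hB : D.COver hF B w) (hB' : D.COver hF B' w) : B = B' := by
  obtain ⟨γ, hγ, rfl⟩ := h
  obtain ⟨γ', hγ', rfl⟩ := h'
  obtain ⟨c, hc, e⟩ := D.cover_eq hF hB
  obtain ⟨c', hc', e'⟩ := D.cover_eq hF hB'
  rw [map_mul, suAct_mul, D.swap_last hF] at e e'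
  have hc'0 : c' ≠ 0 := fun h0 => by
    rw [h0, zero_pow (Nat.succ_ne_zero q)] at hc'; exact zero_ne_one hc'
  refine D.coset_uniq hF (hγ.trans hγ'.symm) (c := c'⁻¹ * c) ?_
  rw [mul_smul, ← e, e', inv_smul_smul₀ hc'0]

theorem ctri {A B C : Γ ⧸ D.stab hF} {v w : Fin (m + 5) → F} (h : D.CAdj hF A B)
    (h' : D.CAdj hF A C) (hB : D.COver hF B v) (hC : D.COver hF C w)
    (hvw : Cfsg.hermForm (m + 5) F q v w = 0) : D.CAdj hF B C := by
  classical
  have H := hH (d := m + 5) hF
  obtain ⟨γ, hγ, rfl⟩ := h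
  obtain ⟨γ', hγ', rfl⟩ := h'
  have hpC : γ⁻¹ * γ' ∈ D.stab hF := QuotientGroup.eq.1 (hγ.trans hγ'.symm)
  obtain ⟨g, t, ⟨l, hl⟩, hgt⟩ := hpC
  obtain ⟨a, ha⟩ := two_line hF hl
  obtain ⟨c, hc, e⟩ := D.cover_eq hF hB
  obtain ⟨c', hc', e'⟩ := D.cover_eq hF hC
  have hγ'e : γ' = γ * (D.left g * D.right (emb d23 t)) := by rw [← hgt]; group
  have h1 : suAct (D.proj (D.right (emb d23 t))) (ext (aL m) eM) = a • ext (aL m) eM := by
    rw [pen_eq_ext, D.proj_right_ext, ← d23_zero, suAct_emb_single, ha, map_smul, map_smul,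
      ext_single]
  have ha0 : a ≠ 0 := fun e0 => by
    have := suAct_herm t (Pi.single 0 1) (Pi.single 0 1)
    rw [ha, e0, zero_smul, (hH hF).zero_left, single_unit hF] at this
    exact zero_ne_one this
  have hγ'pen : suAct (D.proj γ') (ext (aL m) eM) =
      a • suAct (D.proj γ) (ext (aL m) (suAct g eM)) := by
    rw [hγ'e, map_mul, suAct_mul, map_mul, suAct_mul, h1, suAct_smul, suAct_smul, D.proj_left,
      suAct_emb_ext]
  -- the third vertex, seen from the first
  have hgz : suAct g eM (Fin.last (m + 3)) = 0 := by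
    rw [map_mul, suAct_mul, D.swap_last hF] at e e'
    rw [hγ'pen] at e'
    rw [e, e', H.smul_left, H.smul_right, H.smul_right, suAct_herm, herm_ext hF] at hvw
    have hc0 : c ≠ 0 := fun h0 => by rw [h0, zero_pow (Nat.succ_ne_zero q)] at hc; exact zero_ne_one hc
    have hc'0 : c' ≠ 0 := fun h0 => by
      rw [h0, zero_pow (Nat.succ_ne_zero q)] at hc'; exact zero_ne_one hc'
    have h0 : Cfsg.hermForm (m + 4) F q eM (suAct g eM) = 0 := by
      simpa [hc0, hc'0, ha0] using hvw
    rw [← hermForm_single hF (suAct g eM)]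
    exact hm_symm0 hF h0
  set z := suAct g eM ∘ aK m with hz
  have hzext : ext (aK m) z = suAct g eM := by
    funext i
    by_cases hi : i ∈ Set.range (aK m)
    · obtain ⟨j, rfl⟩ := hi
      rw [ext_on]; rfl
    · rw [ext_off _ _ hi]
      rw [mem_range_shift] at hi
      have : i = Fin.last (m + 3) := Fin.ext (by simp; omega)
      rw [this, hgz]
  obtain ⟨k, hk⟩ := exists_su_unit hF (d := m + 3) (by omega) (x := z)
    (by rw [← herm_ext hF (aK m), hzext, suAct_herm, single_unit hF])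
    (single_unit hF ⟨m + 3 - 1, by omega⟩)
  have hk' := suAct_inv_of hk
  obtain ⟨W, hW, hWd, hW2, hW1, hW0⟩ := D.swap_right hF
  obtain ⟨hS1, hS0⟩ := (exists_swap_two hF).choose_spec
  set S := (exists_swap_two hF).choose with hS
  set δ := γ * D.left (emb (aK m) k⁻¹) with hδ
  have hδP : (δ : Γ ⧸ D.stab hF) = γ := QuotientGroup.mk_mul_of_mem γ (D.left_mem hF _)
  have hB' : ((γ * D.swap hF : Γ) : Γ ⧸ D.stab hF) = ((δ * D.swap hF : Γ) : Γ ⧸ D.stab hF) := by
    have hcm := (D.commK k⁻¹ S).eq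
    rw [← hWd, ← hW] at hcm
    rw [hδ, mul_assoc γ, hcm, ← mul_assoc]
    exact (QuotientGroup.mk_mul_of_mem _ (D.left_mem hF _)).symm
  have hS3 : suAct (emb d12 S) (Pi.single 2 1) = (Pi.single 1 1 : Fin 4 → F) := by
    rw [← d12_one, suAct_emb_single, hS1, ext_single, d12_zero]
  have hS2 : suAct (emb d12 S) (Pi.single 3 1) = (Pi.single 3 1 : Fin 4 → F) :=
    suAct_emb_single_off hF _ _ (by rw [mem_range_shift]; simp)
  -- replace the representative of the third vertex
  have hC' : ((γ' * D.swap hF : Γ) : Γ ⧸ D.stab hF) =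
      ((δ * D.right (emb d12 S) * D.swap hF : Γ) : Γ ⧸ D.stab hF) := by
    refine D.coset_uniq hF ?_ (c := a⁻¹) ?_
    · rw [hγ'.trans hγ.symm, D.coset_eq hF (x := δ) rfl (c := 1) (by rw [hS2, one_smul]), hδP]
    · rw [hγ'pen, inv_smul_smul₀ ha0, map_mul, suAct_mul, pen_eq_ext, D.proj_right_ext, hS3,
        hδ, map_mul, suAct_mul, ext_single, aR_one, ← ext_single, D.proj_left, suAct_emb_ext]
      congr 2
      rw [show (Pi.single (⟨m + 2, _⟩ : Fin (m + 4)) (1 : F)) =
        ext (aK m) (Pi.single ⟨m + 3 - 1, by omega⟩ 1) by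
          rw [ext_single]; congr 1; exact Fin.ext (by simp [shift_val]),
        suAct_emb_ext, hk', hzext]
  rw [hB', hC']
  refine ⟨δ * D.swap hF * D.right (emb d12 S), D.coset_eq hF rfl (c := 1) (by rw [hS2, one_smul]),
    ?_⟩
  refine D.coset_eq hF (x := δ * D.right (emb d12 S) * D.swap hF)
    (h := (emb d12 S * W)⁻¹ * (W * emb d12 S * W)) (c := 1) ?_ ?_
  · rw [hW, map_mul, map_inv, map_mul, map_mul, map_mul]
    group
  · rw [suAct_mul, suAct_mul, suAct_mul, hW2, hS3, hW0, one_smul]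
    exact suAct_inv_of (by rw [suAct_mul, hW2, hS3])

/-- The cover of the graph of orthogonal points given by an amalgam. -/
def cov : Cov (m + 5) F q (Γ ⧸ D.stab hF) where
  Adj := D.CAdj hF
  Over := D.COver hF
  exists_over A := by
    obtain ⟨γ, rfl⟩ := QuotientGroup.mk_surjective A
    exact ⟨_, γ, rfl, rfl⟩
  unit := by
    rintro A v ⟨γ, -, rfl⟩
    rw [suAct_herm, single_unit hF]
  over_smul c h hc := D.cover_smul hF c h hc
  over_uniq := by
    rintro A v w ⟨γ, rfl, rfl⟩ h
    exact D.cover_eq hF h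
  symm := D.cadj_symm hF
  orth := by
    rintro A B v w ⟨γ, rfl, rfl⟩ hv hw
    obtain ⟨c, -, rfl⟩ := D.cover_eq hF hv
    obtain ⟨c', -, rfl⟩ := D.cover_eq hF hw
    rw [map_mul, suAct_mul, D.swap_last hF, (hH hF).smul_left, (hH hF).smul_right, suAct_herm,
      ext_single, hermForm_single hF, Pi.single_eq_of_ne, mul_zero, mul_zero]
    exact fun e => last_notMem_aL ⟨_, e⟩
  lift w hA hw hvw := D.clift hF w hA hw hvw
  lift_uniq := D.clift_uniq hF
  tri := D.ctri hF


section Two

local notation "hV" => Cfsg.hermForm (m + 5) F q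

/-- The point over the first of the last four coordinates, seen from the base. -/
theorem exists_corner : ∃ (β : Γ) (ρ : Cfsg.SU 4 F q),
    β = D.right ρ * D.swap hF ∧ suAct ρ (Pi.single 3 1) = Pi.single 3 1 ∧
    suAct (D.proj β) eL = ext (aR m) (Pi.single 0 1) ∧
    ∀ h : Cfsg.SU 3 F q,
      ((D.right (emb b123 h) * β : Γ) : Γ ⧸ D.stab hF) = (β : Γ ⧸ D.stab hF) := by
  obtain ⟨hS1, -⟩ := (exists_swap_two hF).choose_spec
  set S := (exists_swap_two hF).choose
  obtain ⟨W, hW, -, hW3, -, -⟩ := D.swap_right hF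
  have hR2 : suAct (emb d01 S * emb d12 S) (Pi.single 2 1) = (Pi.single 0 1 : Fin 4 → F) := by
    rw [suAct_mul, ← d12_one, suAct_emb_single, hS1, ext_single, d12_zero, ← d01_one,
      suAct_emb_single, hS1, ext_single, d01_zero]
  refine ⟨D.right (emb d01 S * emb d12 S) * D.swap hF, _, rfl, ?_, ?_, fun h => ?_⟩
  · rw [suAct_mul, suAct_emb_single_off hF d12 _ (by rw [mem_range_shift]; simp),
      suAct_emb_single_off hF d01 _ (by rw [mem_range_shift]; simp)]
  · rw [map_mul, suAct_mul, D.swap_last hF, pen_eq_ext, D.proj_right_ext, hR2]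
  · set σ := emb d01 S * emb d12 S * W
    refine D.coset_eq hF (h := σ⁻¹ * emb b123 h * σ) (c := 1) ?_ ?_
    · have e : emb b123 h * (emb d01 S * emb d12 S) * W =
          emb d01 S * emb d12 S * W * (σ⁻¹ * emb b123 h * σ) := by
        simp only [σ]
        group
      rw [hW, ← map_mul, ← map_mul, ← map_mul, ← e]
      simp only [mul_assoc]
    · have hσ : suAct σ (Pi.single 3 1) = (Pi.single 0 1 : Fin 4 → F) := by
        rw [suAct_mul, hW3, hR2]
      rw [suAct_mul, suAct_mul, hσ, suAct_emb_single_off hF b123 _ (by rw [mem_range_shift]; simp),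
        one_smul, suAct_inv_of hσ]

theorem left_mul_adj {A B : Γ ⧸ D.stab hF} (δ : Γ) (h : D.CAdj hF A B) :
    D.CAdj hF (δ • A) (δ • B) := by
  obtain ⟨γ, rfl, rfl⟩ := h
  exact ⟨δ * γ, rfl, by rw [mul_assoc]; rfl⟩

theorem left_mul_over {A : Γ ⧸ D.stab hF} {v : Fin (m + 5) → F} (δ : Γ) (h : D.COver hF A v) :
    D.COver hF (δ • A) (suAct (D.proj δ) v) := by
  obtain ⟨γ, rfl, rfl⟩ := h
  exact ⟨δ * γ, rfl, by rw [map_mul, suAct_mul]⟩

/-- Every coset is connected with the base. -/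
theorem connected (R : Set (Γ ⧸ D.stab hF)) (h1 : ((1 : Γ) : Γ ⧸ D.stab hF) ∈ R)
    (hcl : ∀ X Y, X ∈ R → D.CAdj hF X Y → Y ∈ R) (γ : Γ) : (γ : Γ ⧸ D.stab hF) ∈ R := by
  classical
  obtain ⟨β, ρ, hβ, hρ, -, hfix⟩ := D.exists_corner hF
  let M : Subgroup (Cfsg.SU 4 F q) :=
    { carrier := {h | ∀ x : Γ,
        ((x : Γ ⧸ D.stab hF) ∈ R ↔ ((x * D.right h : Γ) : Γ ⧸ D.stab hF) ∈ R)}
      one_mem' := fun x => by simp
      mul_mem' := fun {a b} ha hb x => by
        rw [map_mul, ← mul_assoc, ha x, hb (x * D.right a)]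
      inv_mem' := fun {a} ha x => by
        rw [ha (x * D.right a⁻¹), mul_assoc, ← map_mul, inv_mul_cancel, map_one, mul_one] }
  have hst : ∀ z : Γ, D.CAdj hF z ((z * β : Γ) : Γ ⧸ D.stab hF) := fun z =>
    ⟨z * D.right ρ, D.coset_eq hF rfl (c := 1) (by rw [one_smul, hρ]), by rw [hβ, mul_assoc]⟩
  have hM : ∀ h, h ∈ M := by
    have hle : gen3 4 F q ≤ M := by
      refine iSup₂_le fun i hi => ?_
      rintro _ ⟨g, rfl⟩ x
      rcases (show i = 0 ∨ i = 1 by omega) with rfl | rfl
      · rw [D.coset_eq hF (x := x) rfl (c := 1)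
          (by rw [one_smul, suAct_emb_single_off hF _ _ (by rw [mem_range_shift]; simp)])]
      · have hsame : ((x * D.right (emb b123 g) * β : Γ) : Γ ⧸ D.stab hF) =
            ((x * β : Γ) : Γ ⧸ D.stab hF) := by
          rw [mul_assoc]
          exact congrArg (fun Z : Γ ⧸ D.stab hF => x • Z) (hfix g)
        have h2 := hst (x * D.right (emb b123 g))
        rw [hsame] at h2
        constructor
        · exact fun hx => hcl _ _ (hcl _ _ hx (hst x)) (D.cadj_symm hF h2)
        · exact fun hx => hcl _ _ (hcl _ _ hx h2) (D.cadj_symm hF (hst x))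
    exact fun h => hle (by rw [gen3_top hF (by omega)]; trivial)
  have hγ : γ ∈ Subgroup.closure (Set.range D.left ∪ Set.range D.right) := by
    rw [D.generates]; trivial
  induction hγ using Subgroup.closure_induction_right with
  | one => exact h1
  | mul_right x _ y hy ih =>
    rcases hy with ⟨g, rfl⟩ | ⟨g, rfl⟩
    · rwa [QuotientGroup.mk_mul_of_mem x (D.left_mem hF g)]
    · exact (hM g x).1 ih
  | mul_inv_cancel x _ y hy ih =>
    rcases hy with ⟨g, rfl⟩ | ⟨g, rfl⟩
    · rwa [QuotientGroup.mk_mul_of_mem x (inv_mem (D.left_mem hF g))]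
    · rw [← map_inv]
      exact (hM g⁻¹ x).1 ih

theorem surjective : Function.Surjective D.proj := by
  rw [← MonoidHom.range_eq_top, eq_top_iff, ← gen3_top hF (by omega : 3 ≤ m + 5)]
  refine iSup₂_le fun i hi => ?_
  rintro _ ⟨g, rfl⟩
  by_cases hi' : i + 3 ≤ m + 4
  · refine ⟨D.left (emb (shift i 3 (m + 4) hi') g), ?_⟩
    rw [D.proj_left, emb_comp]
    congr 2
    exact Function.Embedding.ext fun j => Fin.ext (by simp [shift_val])
  · refine ⟨D.right (emb b123 g), ?_⟩
    rw [D.proj_right, emb_comp]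
    congr 2
    exact Function.Embedding.ext fun j => Fin.ext (by simp [shift_val]; omega)

variable (hq : q = 2)
include hq

theorem add_self_zero (a : F) : a + a = 0 := by
  have : CharP F 2 := by
    obtain ⟨p, k, hp, hc, hpk, hk⟩ := exists_prime_pow (F := F) hF
    have h : p ∣ 2 := by rw [← hq, hpk]; exact dvd_pow_self p (by omega)
    rwa [(Nat.prime_dvd_prime_iff_eq hp Nat.prime_two).1 h] at hc
  exact CharTwo.add_self_eq_zero a

theorem cube_one {a : F} (ha : a ≠ 0) : a ^ (q + 1) = 1 := by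
  have h := FiniteField.pow_card_sub_one_eq_one a ha
  rw [hF, hq] at h
  rw [hq]; exact h

/-- All lifts at a target reached from the base agree. -/
theorem well_base : ∃ X₀ : Γ ⧸ D.stab hF, ∀ (b : Fin (m + 5) → F) (X : Γ ⧸ D.stab hF),
    (D.cov hF).Path2 ((1 : Γ) : Γ ⧸ D.stab hF) b (ext (aR m) ![0, 1, 1, 1]) X → X = X₀ := by
  classical
  have h2 := add_self_zero hF hq
  have hu : Cfsg.hermForm 3 F q (![1, 1, 1] : Fin 3 → F) ![1, 1, 1] = 1 := by
    simp [Cfsg.hermForm, Fin.sum_univ_three]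
    linear_combination h2 1
  obtain ⟨h₀, hh₀⟩ := exists_su_unit hF (by omega) (single_unit hF (2 : Fin 3)) hu
  set g₀ := D.right (emb b123 h₀) with hg₀
  refine ⟨(g₀ : Γ ⧸ D.stab hF), fun b X hX => ?_⟩
  obtain ⟨β, ρ, hβ, hρ, hβv, hfix⟩ := D.exists_corner hF
  set v₀ := ext (aR m) (![0, 1, 1, 1] : Fin 4 → F) with hv₀
  have hbase : D.COver hF ((1 : Γ) : Γ ⧸ D.stab hF) eL := ⟨1, rfl, by rw [map_one, suAct_one]⟩
  have hg₀v : suAct (D.proj g₀) eL = v₀ := by
    rw [hg₀, last_eq_ext, D.proj_right_ext, hv₀,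
      show (Pi.single 3 1 : Fin 4 → F) = Pi.single (b123 2) 1 from rfl, suAct_emb_single, hh₀]
    congr 1
    funext i
    fin_cases i
    · exact ext_off _ _ (by rw [mem_range_shift]; simp)
    · exact ext_on b123 _ 0
    · exact ext_on b123 _ 1
    · exact ext_on b123 _ 2
  -- the lifts with the middle supported on the first coordinates
  have hyl : ∀ y : Fin (m + 2) → F, Cfsg.hermForm (m + 2) F q y y = 1 →
      (D.cov hF).Path2 ((1 : Γ) : Γ ⧸ D.stab hF) (ext (aL m) (ext (aS m) y)) v₀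
        (g₀ : Γ ⧸ D.stab hF) := by
    intro y hy
    obtain ⟨k, hk⟩ := exists_su_unit hF (by omega) (single_unit hF (Fin.last (m + 1))) hy
    set L := D.left (emb (aS m) k)
    have hadj : D.CAdj hF ((1 : Γ) : Γ ⧸ D.stab hF) ((L * β : Γ) : Γ ⧸ D.stab hF) := by
      refine ⟨L * D.right ρ, ?_, by rw [hβ, mul_assoc]⟩
      rw [D.coset_eq hF (x := L) rfl (c := 1) (by rw [one_smul, hρ]), QuotientGroup.eq, mul_one]
      exact inv_mem (D.left_mem hF _)
    refine ⟨_, hadj, ⟨L * β, rfl, ?_⟩, ?_, ⟨g₀, rfl, hg₀v⟩⟩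
    · rw [map_mul, suAct_mul, hβv, ext_single, aR_zero, ← ext_single, D.proj_left, suAct_emb_ext,
        show (⟨m + 1, _⟩ : Fin (m + 4)) = aS m (Fin.last (m + 1)) from
          Fin.ext (by simp [shift_val]), suAct_emb_single, hk]
    · have h := D.left_mul_adj hF g₀ hadj
      have e : g₀ • ((L * β : Γ) : Γ ⧸ D.stab hF) = ((L * β : Γ) : Γ ⧸ D.stab hF) := by
        show ((g₀ * (L * β) : Γ) : Γ ⧸ D.stab hF) = _
        rw [← mul_assoc, ← (D.commS k h₀).eq, mul_assoc]
        exact congrArg (fun Z : Γ ⧸ D.stab hF => L • Z) (hfix h₀)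
      rw [e, show g₀ • ((1 : Γ) : Γ ⧸ D.stab hF) = ((g₀ * 1 : Γ) : Γ ⧸ D.stab hF) from rfl,
        mul_one] at h
      exact D.cadj_symm hF h
  -- an arbitrary middle
  have H := hH (d := m + 5) hF
  have H4 := hH (d := 4) hF
  obtain ⟨hb, -, hbe, hbv⟩ := (D.cov hF).path2_orth hF hbase hX
  let e := (aS m).trans (aL m)
  set y := b ∘ e with hy
  set u := b ∘ aR m with hu'
  have hblast : b (Fin.last (m + 4)) = 0 := by rw [← hermForm_single hF b]; exact hbe
  have hu3 : u 3 = 0 := by rw [hu', Function.comp_apply, aR_three, hblast]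
  have hu12 : u 1 + u 2 = 0 := by
    rw [hv₀, hermForm_split (aR m), ext_comp, Finset.sum_eq_zero (fun i _ => by
      rw [ext_off _ _ i.2, zero_pow_q hF, mul_zero]), add_zero, ← hu'] at hbv
    simpa [Cfsg.hermForm, Fin.sum_univ_four, zero_pow_q hF, hu3] using hbv
  have he : e = shift 0 (m + 2) (m + 5) (by omega) := shift_trans _ _
  have hyy : Cfsg.hermForm (m + 2) F q y y = 1 := by
    rw [← hb, hermForm_split e b b, ← hy]
    rw [left_eq_add]
    let i1 : {k : Fin (m + 5) // k ∉ Set.range e} :=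
      ⟨aR m 1, by rw [he, mem_range_shift]; simp [shift_val]⟩
    let i2 : {k : Fin (m + 5) // k ∉ Set.range e} :=
      ⟨aR m 2, by rw [he, mem_range_shift]; simp [shift_val]⟩
    rw [Finset.sum_eq_add i1 i2]
    · show u 1 * u 1 ^ q + u 2 * u 2 ^ q = 0
      rw [show u 2 = -u 1 from eq_neg_of_add_eq_zero_right hu12, neg_pow_q hF, neg_mul_neg]
      exact h2 _
    · simp [i1, i2, Subtype.ext_iff, Fin.ext_iff]
    · rintro k - ⟨hk1, hk2⟩
      have : (k : Fin (m + 5)) = Fin.last (m + 4) := by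
        have : ¬(0 ≤ ((k : Fin (m + 5)) : ℕ) ∧ ((k : Fin (m + 5)) : ℕ) < 0 + (m + 2)) := fun h =>
          k.2 (he.symm.subst (motive := fun a : Fin (m + 2) ↪ Fin (m + 5) =>
            ((k : Fin (m + 5))) ∈ Set.range a) ((mem_range_shift _ _).2 h))
        simp only [Ne, Subtype.ext_iff, Fin.ext_iff, shift_val, i1, i2] at hk1 hk2
        refine Fin.ext ?_
        simp at hk1 hk2 ⊢
        omega
      rw [this, hblast, zero_mul]
    · simp
    · simp
  obtain ⟨z, hz, hzy⟩ := exists_unit_perp_one hF (by omega) hyy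
  have hzz : ext (aL m) (ext (aS m) z) = ext e z := by
    funext i
    by_cases hi : i ∈ Set.range e
    · obtain ⟨j, rfl⟩ := hi
      rw [ext_on, Function.Embedding.trans_apply, ext_on, ext_on]
    · rw [ext_off _ _ hi]
      by_cases hi' : i ∈ Set.range (aL m)
      · obtain ⟨j, rfl⟩ := hi'
        rw [ext_on, ext_off]
        exact fun ⟨l, hl⟩ => hi ⟨l, by rw [Function.Embedding.trans_apply, hl]⟩
      · rw [ext_off _ _ hi']
  have hpath := hyl z hz
  rw [hzz] at hpath
  obtain ⟨-, -, hza, hzx⟩ := (D.cov hF).path2_orth hF hbase hpath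
  have hzb : hV (ext e z) b = 0 := by
    rw [hermForm_split e, ext_comp, Finset.sum_eq_zero (fun i _ => by
      rw [ext_off _ _ i.2, zero_mul]), add_zero]
    exact hzy
  exact (D.cov hF).path2_uniq
    ((D.cov hF).cone hF hbase (by rw [herm_ext hF, hz]) hza hzb hzx hX) hpath

theorem well {A : Γ ⧸ D.stab hF} {a x : Fin (m + 5) → F}
    (hA : D.COver hF A a) (hx : hV x x = 1) : (D.cov hF).Well A a x := by
  classical
  have H := hH (d := m + 5) hF
  by_cases hax : hV a x = 0
  · intro b b' X X' _ _ _ _ h h'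
    obtain ⟨X₁, hX₁, hX₁x⟩ := (D.cov hF).lift x hA hx hax
    have key : ∀ {b : Fin (m + 5) → F} {X : Γ ⧸ D.stab hF},
        (D.cov hF).Path2 A b x X → X = X₁ := fun {b X} hp => by
      obtain ⟨B, hB, hBb, hX, hXx⟩ := hp
      exact (D.cov hF).lift_uniq hX
        ((D.cov hF).tri hB hX₁ hBb hX₁x ((D.cov hF).orth hX hBb hXx)) hXx hX₁x
    rw [key h, key h']
  by_cases hpar : ∃ c : F, x = c • a
  · obtain ⟨c, hc⟩ := hpar
    exact (D.cov hF).well_par hF hA hc hx
  obtain ⟨γ, rfl, rfl⟩ := hA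
  set x' := suAct (D.proj γ)⁻¹ x with hx'
  set α := x' (Fin.last (m + 4)) with hαdef
  have hα0 : α ≠ 0 := fun h0 => hax (by
    rw [← suAct_suAct_inv (D.proj γ) x, ← hx', suAct_herm, hm_symm hF x', hermForm_single hF, ← hαdef,
      h0, zero_pow_q hF])
  set y := x' ∘ aL m with hy
  have hxsplit : x' = ext (aL m) y + α • eL := by
    funext i
    by_cases hi : i ∈ Set.range (aL m)
    · obtain ⟨j, rfl⟩ := hi
      rw [Pi.add_apply, ext_on, Pi.smul_apply,
        Pi.single_eq_of_ne (fun e : aL m j = _ => last_notMem_aL ⟨j, e⟩), smul_zero, add_zero]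
      rfl
    · rw [Pi.add_apply, ext_off _ _ hi, zero_add]
      rw [mem_range_shift] at hi
      have : i = Fin.last (m + 4) := Fin.ext (by simp; omega)
      subst this
      simp [hαdef]
  have hy0 : y ≠ 0 := fun h0 => hpar ⟨α, by
    rw [← suAct_suAct_inv (D.proj γ) x, ← hx', hxsplit, h0, map_zero, zero_add, suAct_smul]⟩
  have hyy : Cfsg.hermForm (m + 4) F q y y = 0 := by
    have h1 : hV x' x' = 1 := by rw [hx', suAct_herm, hx]
    have h0 : ext (aL m) y (Fin.last (m + 4)) = 0 := ext_off _ _ last_notMem_aL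
    rw [hxsplit, H.add_left, H.add_right hF, H.add_right hF, herm_ext hF, H.smul_left,
      H.smul_left, H.smul_right, H.smul_right, hermForm_single hF, hm_symm hF (ext (aL m) y),
      hermForm_single hF, single_unit hF, h0, zero_pow_q hF] at h1
    have hc := cube_one hF hq hα0
    rw [pow_succ] at hc
    linear_combination h1 - hc
  let c3 : Fin 3 ↪ Fin (m + 4) := shift (m + 1) 3 (m + 4) (by omega)
  set u₀ := ext c3 (![0, 1, 1] : Fin 3 → F) with hu₀
  have h2 := add_self_zero hF hq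
  have hu₀0 : u₀ ≠ 0 := fun h => one_ne_zero (α := F) (by
    have := congrFun (ext_comp c3 (![0, 1, 1] : Fin 3 → F)) 1
    rw [← hu₀, h] at this
    simpa using this.symm)
  obtain ⟨g, hg⟩ := su_transitive_iso hF (by omega) hu₀0
    (by rw [hu₀, herm_ext hF]; simp [Cfsg.hermForm, Fin.sum_univ_three, zero_pow_q hF]; exact h2 1)
    (v' := α⁻¹ • y) (smul_ne_zero (inv_ne_zero hα0) hy0)
    (by rw [(hH hF).smul_left, (hH hF).smul_right, hyy, mul_zero, mul_zero])
  set δ := γ * D.left g with hδ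
  have hδP : (δ : Γ ⧸ D.stab hF) = γ := QuotientGroup.mk_mul_of_mem γ (D.left_mem hF g)
  set v₀ := ext (aR m) (![0, 1, 1, 1] : Fin 4 → F) with hv₀
  have hvsplit : v₀ = ext (aL m) u₀ + eL := by
    funext i
    by_cases hi : i ∈ Set.range (aR m)
    · obtain ⟨j, rfl⟩ := hi
      rw [hv₀, ext_on, Pi.add_apply]
      have e : ∀ l : Fin 3, aR m (b012 l) = aL m (c3 l) := fun l => Fin.ext (by simp [c3, shift_val])
      fin_cases j
      · show (0 : F) = ext (aL m) u₀ (aR m 0) + (Pi.single (Fin.last (m + 4)) 1 : Fin (m + 5) → F) (aR m 0)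
        rw [show (aR m 0 : Fin (m + 5)) = aL m (c3 0) from e 0, ext_on, hu₀, ext_on]
        simp [Fin.ext_iff, c3, shift_val]
      · show (1 : F) = ext (aL m) u₀ (aR m 1) + (Pi.single (Fin.last (m + 4)) 1 : Fin (m + 5) → F) (aR m 1)
        rw [show (aR m 1 : Fin (m + 5)) = aL m (c3 1) from e 1, ext_on, hu₀, ext_on]
        simp [Fin.ext_iff, c3, shift_val]
      · show (1 : F) = ext (aL m) u₀ (aR m 2) + (Pi.single (Fin.last (m + 4)) 1 : Fin (m + 5) → F) (aR m 2)
        rw [show (aR m 2 : Fin (m + 5)) = aL m (c3 2) from e 2, ext_on, hu₀, ext_on]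
        simp [Fin.ext_iff, c3, shift_val]
      · show (1 : F) = ext (aL m) u₀ (aR m 3) + (Pi.single (Fin.last (m + 4)) 1 : Fin (m + 5) → F) (aR m 3)
        rw [show (aR m 3 : Fin (m + 5)) = Fin.last (m + 4) from aR_three,
          ext_off _ _ last_notMem_aL]
        simp
    · rw [hv₀, ext_off _ _ hi, Pi.add_apply]
      rw [mem_range_shift] at hi
      obtain ⟨j, rfl⟩ : ∃ j, aL m j = i := (mem_range_shift _ i).2 (by omega)
      rw [ext_on, hu₀, ext_off, Pi.single_eq_of_ne, add_zero]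
      · intro h; simp [Fin.ext_iff, shift_val] at h; omega
      · rw [mem_range_shift]; simp [shift_val] at hi; omega
  have hxδ : α⁻¹ • x = suAct (D.proj δ) v₀ := by
    rw [hvsplit, hδ, map_mul, suAct_mul, suAct_add (D.proj (D.left g)), D.proj_left_last hF,
      D.proj_left, suAct_emb_ext, hg, map_smul, ← suAct_suAct_inv (D.proj γ) x, ← hx', hxsplit,
      ← suAct_smul, smul_add, inv_smul_smul₀ hα0]
  have hc : α⁻¹ ^ (q + 1) = 1 := by rw [inv_pow, cube_one hF hq hα0, inv_one]
  obtain ⟨X₀, hX₀⟩ := D.well_base hF hq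
  intro b b' X X' _ _ _ _ h h'
  have key : ∀ {b : Fin (m + 5) → F} {X : Γ ⧸ D.stab hF},
      (D.cov hF).Path2 (γ : Γ ⧸ D.stab hF) b x X → δ⁻¹ • X = X₀ := fun {b X} hp => by
    obtain ⟨B, hB, hBb, hX, hXx⟩ := hp
    refine hX₀ (suAct (D.proj δ⁻¹) b) _ ⟨δ⁻¹ • B, ?_, D.left_mul_over hF _ hBb,
      D.left_mul_adj hF _ hX, ?_⟩
    · have e := D.left_mul_adj hF δ⁻¹ hB
      rw [← hδP] at e
      rwa [show δ⁻¹ • (δ : Γ ⧸ D.stab hF) = ((δ⁻¹ * δ : Γ) : Γ ⧸ D.stab hF) from rfl,
        inv_mul_cancel] at e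
    · have e := D.left_mul_over hF δ⁻¹ (D.cover_smul hF α⁻¹ hXx hc)
      rwa [hxδ, map_inv, suAct_inv_suAct] at e
  exact (smul_left_cancel_iff δ⁻¹).1 ((key h).trans (key h').symm)

theorem bijective : Function.Bijective D.proj := by
  refine ⟨(injective_iff_map_eq_one _).2 fun x hx => ?_, D.surjective hF⟩
  have hxe : D.COver hF x eL := ⟨x, rfl, by rw [hx, suAct_one]⟩
  have h1e : D.COver hF (1 : Γ) eL := ⟨1, rfl, by rw [map_one, suAct_one]⟩
  have := (D.cov hF).eq_of_over hF (by omega) (fun A a y hA hy => D.well hF hq hA hy)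
    (fun R hR hcl => D.connected hF R hR hcl x) h1e hxe
  rw [QuotientGroup.eq, inv_one, one_mul] at this
  exact D.stab_injective hF this hx

end Two

end Amalgam2

/-- Agreeing homomorphisms of SU_{m+4} and SU_4 extend to SU_{m+5}, q = 2. -/
theorem exists_glue2 {G : Type*} [Group G] [Fintype F] (hF : Fintype.card F = q ^ 2) (hq : q = 2)
    (ψ : Cfsg.SU (m + 4) F q →* G) (χ : Cfsg.SU 4 F q →* G)
    (hagree : ∀ g, ψ (emb (aO m) g) = χ (emb b012 g))
    (hcommK : ∀ k h, Commute (ψ (emb (aK m) k)) (χ (emb d23 h)))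
    (hcommS : ∀ k h, Commute (ψ (emb (aS m) k)) (χ (emb b123 h))) :
    ∃ Ψ : Cfsg.SU (m + 5) F q →* G, Ψ.comp (emb (aL m)) = ψ ∧ Ψ.comp (emb (aR m)) = χ := by
  let gψ := (emb (aL m) : Cfsg.SU (m + 4) F q →* _).prod ψ
  let gχ := (emb (aR m) : Cfsg.SU 4 F q →* _).prod χ
  let Γ : Subgroup (Cfsg.SU (m + 5) F q × G) :=
    Subgroup.closure (Set.range gψ ∪ Set.range gχ)
  let l : Cfsg.SU (m + 4) F q →* Γ :=
    gψ.codRestrict Γ fun g => Subgroup.subset_closure (Or.inl ⟨g, rfl⟩)
  let r : Cfsg.SU 4 F q →* Γ :=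
    gχ.codRestrict Γ fun g => Subgroup.subset_closure (Or.inr ⟨g, rfl⟩)
  have hcross : ∀ {k l : ℕ} (e : Fin k ↪ Fin (m + 5)) (f : Fin l ↪ Fin (m + 5)),
      (∀ a b, (e a : ℕ) ≠ f b) → ∀ a b, e a ≠ f b := fun e f h a b h' => h a b (congrArg Fin.val h')
  let D : Amalgam2 F q m Γ :=
    { proj := (MonoidHom.fst _ _).comp Γ.subtype
      left := l
      right := r
      proj_left := fun g => rfl
      proj_right := fun g => rfl
      agree := fun g => Subtype.ext (Prod.ext
        (show emb (aL m) (emb (aO m) g) = emb (aR m) (emb b012 g) by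
          rw [emb_comp, emb_comp, shift_trans, shift_trans]
          congr 1
          congr 1
          exact Function.Embedding.ext fun i => Fin.ext (by simp [shift_val]))
        (hagree g))
      commK := fun k h => Subtype.ext (Prod.ext
        (show emb (aL m) _ * emb (aR m) _ = emb (aR m) _ * emb (aL m) _ by
          rw [emb_comp, emb_comp]
          refine emb_commute _ _ (hcross _ _ fun a b => ?_) k h
          simp only [Function.Embedding.trans_apply, shift_val]
          omega)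
        (hcommK k h).eq)
      commS := fun k h => Subtype.ext (Prod.ext
        (show emb (aL m) _ * emb (aR m) _ = emb (aR m) _ * emb (aL m) _ by
          rw [emb_comp, emb_comp]
          refine emb_commute _ _ (hcross _ _ fun a b => ?_) k h
          simp only [Function.Embedding.trans_apply, shift_val]
          omega)
        (hcommS k h).eq)
      generates := by
        refine Subgroup.map_injective Γ.subtype_injective ?_
        rw [MonoidHom.map_closure, ← MonoidHom.range_eq_map, Subgroup.range_subtype, Set.image_union,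
          ← Set.range_comp, ← Set.range_comp]
        rfl }
  let E := MulEquiv.ofBijective D.proj (D.bijective hF hq)
  refine ⟨((MonoidHom.snd _ _).comp Γ.subtype).comp E.symm.toMonoidHom,
    MonoidHom.ext fun g => ?_, MonoidHom.ext fun h => ?_⟩
  · have : E.symm (emb (aL m) g) = l g := E.injective (by rw [E.apply_symm_apply]; rfl)
    show (E.symm (emb (aL m) g) : Cfsg.SU (m + 5) F q × G).2 = _
    rw [this]; rfl
  · have : E.symm (emb (aR m) h) = r h := E.injective (by rw [E.apply_symm_apply]; rfl)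
    show (E.symm (emb (aR m) h) : Cfsg.SU (m + 5) F q × G).2 = _
    rw [this]; rfl

end Cfsg.Agent.Phan
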