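/-
Induction along a chain of standard pairs.

* `ChainState`: the first m+3 coordinates are parametrised.
* `chain_step`, `chain_base`, `chain_surjective`.
-/
import Cfsg.Agent.Lib.Phan.Align

set_option autoImplicit false

namespace Cfsg.Agent.Phan

open Cfsg.Agent.Unitary

variable {F : Type*} [Field F] {q : ℕ} {G : Type*} [Group G]

/-- A parametrisation of the first m+3 coordinates whose last triple is a good one. -/
structure ChainState (U V : ℕ → Subgroup G) (m : ℕ) (ψ : Cfsg.SU (m + 3) F q →* G) : Prop where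
  block : ∀ (i : ℕ) (h : i + 2 ≤ m + 3), (ψ.comp (emb (shift i 2 (m + 3) h))).range = U i
  last : IsGood (ψ.comp (emb (shift m 3 (m + 3) le_rfl))) (V m) (U m) (U (m + 1))
  pair : ∀ i, i ≤ m → V i ≤ ψ.range

theorem chain_base {U V : ℕ → Subgroup G} {φ : Cfsg.SU 3 F q →* G}
    (h : IsGood φ (V 0) (U 0) (U 1)) : ChainState U V 0 φ := by
  have e : φ.comp (emb (shift 0 3 (0 + 3) le_rfl)) = φ :=
    MonoidHom.ext fun g => by rw [MonoidHom.comp_apply, shift_self, emb_refl]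
  refine ⟨fun i hi => ?_, e.symm ▸ h, fun i hi => ?_⟩
  · rcases (show i = 0 ∨ i = 1 by omega) with rfl | rfl
    · exact h.left_eq
    · exact h.right_eq
  · obtain rfl : i = 0 := by omega
    exact h.range_eq.ge

variable [Fintype F] (hF : Fintype.card F = q ^ 2)
include hF

theorem chain_step (hq : 3 ≤ q) {U V : ℕ → Subgroup G} {m : ℕ} (h4 : m = 0 → 4 ≤ q)
    {ψ : Cfsg.SU (m + 3) F q →* G} (hψ : ChainState U V m ψ) {χ : Cfsg.SU 3 F q →* G}
    (hχ : IsGood χ (V (m + 1)) (U (m + 1)) (U (m + 2)))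
    (hagree : ∀ g, ψ (emb (shift m 3 (m + 3) le_rfl) (emb c12 g)) = χ (emb c01 g))
    (hcomm : ∀ i, i ≤ m → ∀ x ∈ U i, ∀ y ∈ U (m + 2), x * y = y * x) :
    ∃ Ψ : Cfsg.SU (m + 1 + 3) F q →* G, ChainState U V (m + 1) Ψ := by
  have hag : ∀ g, ψ (emb (cO m) g) = χ (emb c01 g) := fun g => by
    rw [← hagree g, emb_comp, shift_trans]
  obtain ⟨Ψ, hL, hR⟩ := exists_next hF hq h4 ψ hag (fun i hi x hx y hy => by
    rw [hψ.block i] at hx
    rw [hχ.right_eq] at hy
    exact hcomm i (by omega) x hx y hy)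
  have hR' : Ψ.comp (emb (shift (m + 1) 3 (m + 1 + 3) le_rfl)) = χ := hR
  refine ⟨Ψ, fun i hi => ?_, by rw [hR']; exact hχ, fun i hi => ?_⟩
  · by_cases h : i + 2 ≤ m + 3
    · rw [← hψ.block i h, ← hL, MonoidHom.comp_assoc, emb_comp_hom, shift_trans]
      congr 3
      exact Function.Embedding.ext fun j => Fin.ext (by simp [shift_val])
    · obtain rfl : i = m + 2 := by omega
      rw [← hχ.right_eq, ← hR, MonoidHom.comp_assoc, emb_comp_hom, shift_trans]
  · by_cases h : i ≤ m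
    · refine le_trans (hψ.pair i h) ?_
      rw [← hL]
      rintro _ ⟨g, rfl⟩
      exact ⟨_, rfl⟩
    · obtain rfl : i = m + 1 := by omega
      rw [← hχ.range_eq, ← hR]
      rintro _ ⟨g, rfl⟩
      exact ⟨_, rfl⟩

omit [Fintype F] hF in
theorem chain_surjective {U V : ℕ → Subgroup G} {m : ℕ} {ψ : Cfsg.SU (m + 3) F q →* G}
    (hψ : ChainState U V m ψ) {H : Subgroup G} (hH : H = ⊤)
    (hle : H ≤ (⨆ (i : ℕ) (_ : i ≤ m + 1), U i) ⊔ (⨆ (i : ℕ) (_ : i ≤ m), V i)) :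
    Function.Surjective ψ := by
  rw [← MonoidHom.range_eq_top, eq_top_iff, ← hH]
  refine hle.trans (sup_le (iSup₂_le fun i hi => ?_) (iSup₂_le hψ.pair))
  rw [← hψ.block i (by omega)]
  rintro _ ⟨g, rfl⟩
  exact ⟨_, rfl⟩

/-- A chain of standard pairs over q ≥ 4 gives a parametrisation of all coordinates. -/
theorem exists_chain (hq : 4 ≤ q) {U V : ℕ → Subgroup G} (m : ℕ)
    (hcomm : ∀ i j, i + 2 ≤ j → j ≤ m + 1 → ∀ x ∈ U i, ∀ y ∈ U j, x * y = y * x)
    (hpair : ∀ i, i ≤ m → ∃ φ : Cfsg.SU 3 F q →* G, IsGood φ (V i) (U i) (U (i + 1))) :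
    ∃ ψ : Cfsg.SU (m + 3) F q →* G, ChainState U V m ψ := by
  induction m with
  | zero =>
    obtain ⟨φ, hφ⟩ := hpair 0 le_rfl
    exact ⟨φ, chain_base hφ⟩
  | succ m ih =>
    obtain ⟨ψ, hψ⟩ := ih (fun i j h1 h2 => hcomm i j h1 (by omega)) (fun i hi => hpair i (by omega))
    obtain ⟨χ₀, hχ₀⟩ := hpair (m + 1) le_rfl
    obtain ⟨χ, hχ, hag⟩ := exists_align hF hψ.last hχ₀ (hcomm m (m + 2) (by omega) (by omega))
    exact chain_step hF (by omega) (fun _ => hq) hψ hχ hag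
      (fun i hi => hcomm i (m + 2) (by omega) (by omega))

end Cfsg.Agent.Phan
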