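/-
Generation of SU_d by consecutive three-dimensional blocks, any q.

* `exists_su_unit`: SU_d is transitive on unit vectors, d ≥ 2.
* `gen3`, `gen3_top`: the consecutive triples generate SU_d, d ≥ 3.
-/
import Cfsg.Agent.Lib.Phan.Amalgam
import Cfsg.Agent.Lib.Unitary.Simple

set_option autoImplicit false

namespace Cfsg.Agent.Phan

open Cfsg.Agent.Unitary

variable {F : Type*} [Field F] {q d m : ℕ}

/-- The subgroup generated by the consecutive three-dimensional blocks. -/
noncomputable def gen3 (d : ℕ) (F : Type*) [Field F] (q : ℕ) : Subgroup (Cfsg.SU d F q) :=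
  ⨆ (i : ℕ) (h : i + 3 ≤ d), (emb (shift i 3 d h) : Cfsg.SU 3 F q →* _).range

theorem triple_le_gen3 {i : ℕ} (h : i + 3 ≤ d) :
    (emb (shift i 3 d h) : Cfsg.SU 3 F q →* _).range ≤ gen3 d F q :=
  le_iSup₂_of_le i h le_rfl

theorem map_gen3_le {k : ℕ} (h : k + m ≤ d) :
    (gen3 m F q).map (emb (shift k m d h)) ≤ gen3 d F q := by
  simp only [gen3, Subgroup.map_iSup]
  refine iSup₂_le fun i hi => ?_
  rw [← MonoidHom.range_comp, emb_comp_hom, shift_trans]
  exact le_iSup₂_of_le (k + i) (by omega) le_rfl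

variable [Fintype F] (hF : Fintype.card F = q ^ 2)
include hF

/-- SU_d is transitive on unit vectors. -/
theorem exists_su_unit (hd : 2 ≤ d) {x y : Fin d → F} (hx : Cfsg.hermForm d F q x x = 1)
    (hy : Cfsg.hermForm d F q y y = 1) : ∃ g : Cfsg.SU d F q, suAct g x = y := by
  obtain ⟨e, he, hey⟩ := exists_unit_perp_one hF hd hy
  have hlin : ∀ v : Fin d → F, Cfsg.hermForm d F q v v = 1 →
      LinearIndependent F (fun _ : Fin 1 => v) := fun v hv => by
    refine linearIndependent_unique_iff.2 ?_
    intro h0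
    rw [show v = 0 from h0, (hH hF).zero_left] at hv
    exact zero_ne_one hv
  obtain ⟨g, hg⟩ := exists_su_witt hF (hlin x hx) (hlin y hy) (fun _ _ => by rw [hx, hy]) he
    (fun _ => hm_symm0 hF hey)
  exact ⟨g, hg 0⟩

/-- The consecutive triples are transitive on unit vectors. -/
theorem exists_gen3_move (hd : 3 ≤ d) {x : Fin d → F} (hx : Cfsg.hermForm d F q x x = 1) :
    ∃ h ∈ gen3 d F q, suAct h x = Pi.single ⟨d - 1, by omega⟩ 1 := by
  classical
  induction d, hd using Nat.le_induction with
  | base =>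
    obtain ⟨g, hg⟩ := exists_su_unit hF (by omega) hx (single_unit hF (⟨2, by omega⟩ : Fin 3))
    exact ⟨g, triple_le_gen3 (i := 0) le_rfl ⟨g, by rw [shift_self, emb_refl]⟩, hg⟩
  | succ d hd ih =>
    suffices key : ∃ h ∈ gen3 (d + 1) F q, suAct h x 0 = 0 by
      obtain ⟨h, hh, h0⟩ := key
      set y := suAct h x with hy
      have hyy : Cfsg.hermForm (d + 1) F q y y = 1 := by rw [hy, suAct_herm, hx]
      let e := shift 1 d (d + 1) (by omega)
      have hye : Cfsg.hermForm d F q (y ∘ e) (y ∘ e) = 1 := by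
        rw [← hyy, hermForm_split e y y, Finset.sum_eq_zero, add_zero]
        intro k _
        have : (k : Fin (d + 1)) = 0 := by
          have := k.2
          rw [mem_range_shift] at this
          refine Fin.ext ?_
          show ((k : Fin (d + 1)) : ℕ) = 0
          omega
        rw [this, h0, zero_mul]
      obtain ⟨g, hg, hgy⟩ := ih hye
      refine ⟨emb e g * h, mul_mem (map_gen3_le _ ⟨g, hg, rfl⟩) hh, ?_⟩
      rw [suAct_mul, ← hy]
      funext k
      by_cases hk : k ∈ Set.range e
      · obtain ⟨i, rfl⟩ := hk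
        rw [suAct_emb_on, hgy]
        simp only [Pi.single_apply, Fin.ext_iff, shift_val, e]
        exact if_congr (by omega) rfl rfl
      · rw [suAct_emb_off e _ _ hk]
        rw [mem_range_shift] at hk
        have hk0 : k = 0 := Fin.ext (show (k : ℕ) = 0 by omega)
        subst hk0
        rw [h0, Pi.single_eq_of_ne (fun e => by simp [Fin.ext_iff] at e; omega)]
    let e := shift 0 3 (d + 1) (by omega)
    have he0 : e 0 = 0 := Fin.ext (by simp [e, shift_val])
    set u := x ∘ e with hu
    suffices key : ∃ g : Cfsg.SU 3 F q, suAct g u 0 = 0 by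
      obtain ⟨g, hg⟩ := key
      refine ⟨emb e g, triple_le_gen3 _ ⟨g, rfl⟩, ?_⟩
      have h := suAct_emb_on e g x 0
      rw [← hu, hg, he0] at h
      exact h
    have H := hH (d := 3) hF
    by_cases hu0 : u = 0
    · exact ⟨1, by rw [suAct_one, hu0]; rfl⟩
    by_cases hn : Cfsg.hermForm 3 F q u u = 0
    · obtain ⟨ε, hε⟩ := exists_eps hF
      obtain ⟨g, hg⟩ := su_transitive_iso hF le_rfl hu0 hn
        (v' := (![0, 1, ε] : Fin 3 → F))
        (fun h => one_ne_zero (α := F) (congrFun h 1))
        (by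
          simp [Cfsg.hermForm, Fin.sum_univ_three, zero_pow_q hF]
          rw [← pow_succ', hε]; ring)
      exact ⟨g, by rw [hg]; rfl⟩
    · obtain ⟨c, hc0, -, hc1⟩ := exists_scale hF hn
      obtain ⟨g, hg⟩ := exists_su_unit hF (by omega) hc1 (single_unit hF (2 : Fin 3))
      refine ⟨g, ?_⟩
      rw [suAct_smul] at hg
      have h := congrFun hg 0
      rw [Pi.smul_apply, Pi.single_eq_of_ne (by decide), smul_eq_mul] at h
      exact (mul_eq_zero.1 h).resolve_left hc0

/-- Consecutive triples generate. -/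
theorem gen3_top (hd : 3 ≤ d) : gen3 d F q = ⊤ := by
  classical
  induction d, hd using Nat.le_induction with
  | base =>
    exact eq_top_iff.2 fun g _ => triple_le_gen3 (i := 0) le_rfl ⟨g, by rw [shift_self, emb_refl]⟩
  | succ d hd ih =>
    refine eq_top_iff.2 fun g _ => ?_
    set l : Fin (d + 1) := ⟨d + 1 - 1, by omega⟩ with hl
    have hgl : Cfsg.hermForm (d + 1) F q (suAct g (Pi.single l 1)) (suAct g (Pi.single l 1)) = 1 := by
      rw [suAct_herm, single_unit hF]
    obtain ⟨h, hh, hhg⟩ := exists_gen3_move hF (by omega) hgl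
    have hfix : h * g ∈ (emb (shift 0 d (d + 1) (by omega)) : Cfsg.SU d F q →* _).range := by
      rw [mem_range_emb_iff hF]
      intro k hk
      rw [mem_range_shift] at hk
      have hkl : k = l := Fin.ext (by rw [hl]; simp only; omega)
      rw [hkl, suAct_mul, hhg]
    obtain ⟨g', hg'⟩ := hfix
    have : h * g ∈ gen3 (d + 1) F q :=
      hg' ▸ map_gen3_le _ ⟨g', ih.symm ▸ Subgroup.mem_top g', rfl⟩
    exact (Subgroup.mul_mem_cancel_left _ hh).1 this

end Cfsg.Agent.Phan
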