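/-
Pairs of SU_2-subgroups of SU_3 with commuting tori of order q+1, q ≥ 4.

* `exists_fixed_unit`: a subgroup isomorphic to SU_2 fixes a unit vector.
* `fix_dim_one`: an element of order q+1 fixing a unit vector fixes only its line.
* `exists_standard`: such a generating pair is a standard pair.
-/
import Cfsg.Agent.Lib.Phan.Twist

set_option autoImplicit false

namespace Cfsg.Agent.Phan

open Cfsg.Agent.Unitary
open scoped Matrix

variable {F : Type*} [Field F] {q : ℕ}

local notation "hm" => Cfsg.hermForm 3 F q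
local notation "e₂" => (Pi.single 2 1 : Fin 3 → F)
local notation "e₀" => (Pi.single 0 1 : Fin 3 → F)

/-- The fixer of a vector. -/
def fixV (w : Fin 3 → F) : Subgroup (Cfsg.SU 3 F q) where
  carrier := {g | suAct g w = w}
  one_mem' := suAct_one w
  mul_mem' {g h} hg hh := by
    show suAct (g * h) w = w
    rw [suAct_mul, hh, hg]
  inv_mem' {g} hg := suAct_inv_of hg

theorem mem_fixV {w : Fin 3 → F} {g : Cfsg.SU 3 F q} : g ∈ fixV w ↔ suAct g w = w := Iff.rfl

variable [Fintype F] (hF : Fintype.card F = q ^ 2)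
include hF

theorem fixV_last : fixV e₂ = (emb c01 : Cfsg.SU 2 F q →* _).range := by
  ext g
  rw [mem_range_emb_iff hF, mem_fixV]
  refine ⟨fun h k hk => ?_, fun h => h 2 (by rw [mem_range_shift]; simp)⟩
  rw [mem_range_shift] at hk
  have : k = 2 := Fin.ext (by simp; omega)
  rw [this, h]

theorem fixV_first : fixV e₀ = (emb c12 : Cfsg.SU 2 F q →* _).range := by
  ext g
  rw [mem_range_emb_iff hF, mem_fixV]
  refine ⟨fun h k hk => ?_, fun h => h 0 (by rw [mem_range_shift]; simp)⟩
  rw [mem_range_shift] at hk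
  have : k = 0 := Fin.ext (by simp; omega)
  rw [this, h]

/-- A unit vector is the image of the last basis vector. -/
theorem exists_move_three (hq : 3 ≤ q) {w : Fin 3 → F} (hw : hm w w = 1) :
    ∃ g : Cfsg.SU 3 F q, suAct g e₂ = w := by
  obtain ⟨h, -, hh⟩ := exists_move hF hq (by omega : 2 ≤ 3) hw
  exact ⟨h⁻¹, suAct_inv_of hh⟩

theorem card_fixV (hq : 3 ≤ q) {w : Fin 3 → F} (hw : hm w w = 1) :
    Nat.card (fixV (q := q) w) = Nat.card (Cfsg.SU 2 F q) := by
  obtain ⟨g, hg⟩ := exists_move_three hF hq hw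
  rw [Nat.card_congr (MonoidHom.ofInjective (emb_injective (F := F) (q := q) c01)).toEquiv,
    ← fixV_last hF]
  refine Nat.card_congr
    ((MulAut.conj g⁻¹).toEquiv.subtypeEquiv fun x => ?_)
  show suAct x w = w ↔ suAct (g⁻¹ * x * g⁻¹⁻¹) e₂ = e₂
  rw [inv_inv, suAct_mul, suAct_mul, hg]
  constructor
  · intro h; rw [h]; exact suAct_inv_of hg
  · intro h
    have := congrArg (suAct g) h
    rwa [suAct_suAct_inv, hg] at this

theorem su_two_perfect (hq : 4 ≤ q) : commutator (Cfsg.SU 2 F q) = ⊤ := by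
  obtain ⟨P, f, -⟩ := exists_sl_model hF
  have h := sl_two_perfect (K := fixedField hF) (by rw [card_fixedField hF]; exact hq)
  rw [eq_top_iff, ← Subgroup.map_top_of_surjective f.toMonoidHom f.surjective, ← h, commutator_def,
    Subgroup.map_commutator]
  exact Subgroup.commutator_mono le_top le_top

/-- A perfect image stabilising the line of a unit vector fixes it. -/
theorem fix_of_line (hq : 4 ≤ q) (f : Cfsg.SU 2 F q →* Cfsg.SU 3 F q) {w : Fin 3 → F}
    (hline : ∀ x, ∃ c : F, suAct (f x) w = c • w) : ∀ x, suAct (f x) w = w := by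
  intro x
  have hle : commutator (Cfsg.SU 2 F q) ≤ (fixV w).comap f := by
    rw [commutator_def, Subgroup.commutator_le]
    intro a _ b _
    rw [Subgroup.mem_comap, mem_fixV, commutatorElement_def, map_mul, map_mul, map_mul]
    obtain ⟨ca, ha⟩ := hline a
    obtain ⟨cb, hb⟩ := hline b
    obtain ⟨ca', ha'⟩ := hline a⁻¹
    obtain ⟨cb', hb'⟩ := hline b⁻¹
    by_cases hw : w = 0
    · rw [hw, suAct_zero]
    have key : ∀ {y : Cfsg.SU 2 F q} {c c' : F}, suAct (f y) w = c • w →
        suAct (f y⁻¹) w = c' • w → c' * c = 1 := fun {y c c'} h h' => by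
      have h1 := suAct_inv_suAct (f y) w
      rw [← map_inv, h, suAct_smul, h', smul_smul] at h1
      rw [mul_comm]
      exact smul_left_injective F hw (h1.trans (one_smul F w).symm)
    simp only [suAct_mul, suAct_smul, hb', ha', hb, ha, smul_smul]
    convert one_smul F w using 2
    linear_combination (cb' * cb) * key ha ha' + key hb hb'
  exact mem_fixV.1 (Subgroup.mem_comap.1
    (hle (by rw [su_two_perfect hF hq]; exact Subgroup.mem_top x)))

/-- Orthogonal isotropic vectors of a three-dimensional space are dependent. -/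
theorem isotropic_dep {v v' : Fin 3 → F} (hv : hm v v = 0) (hv0 : v ≠ 0) (hv' : hm v' v' = 0)
    (h : hm v v' = 0) : v' ∈ Submodule.span F ({v} : Set (Fin 3 → F)) := by
  classical
  by_contra hout
  have hv'0 : v' ≠ 0 := fun e => hout (e ▸ zero_mem _)
  have hout' : v ∉ Submodule.span F ({v'} : Set (Fin 3 → F)) := fun hm' => by
    obtain ⟨c, hc⟩ := Submodule.mem_span_singleton.1 hm'
    have hc0 : c ≠ 0 := fun e => hv0 (by rw [← hc, e, zero_smul])
    exact hout (Submodule.mem_span_singleton.2 ⟨c⁻¹, by rw [← hc, inv_smul_smul₀ hc0]⟩)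
  obtain ⟨a, ha, haS⟩ := exists_dual hF hout
  obtain ⟨b, hb, hbS⟩ := exists_dual hF hout'
  have ha0 := haS v (Submodule.mem_span_singleton_self v)
  have hb0 := hbS v' (Submodule.mem_span_singleton_self v')
  let f := prodMap hF ![v, v']
  have hsurj : Function.Surjective f := fun y => by
    refine ⟨y 1 • a + y 0 • b, funext fun i => ?_⟩
    fin_cases i <;> simp [f, prodMap, (hH hF).add_left, (hH hF).smul_left, ha, hb, ha0, hb0]
  have h1 := LinearMap.finrank_range_add_finrank_ker f
  rw [LinearMap.range_eq_top.2 hsurj, finrank_top, Module.finrank_fin_fun, Module.finrank_fin_fun] at h1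
  have hle : Submodule.span F (Set.range ![v, v']) ≤ LinearMap.ker f := by
    rw [Submodule.span_le]
    rintro _ ⟨i, rfl⟩
    rw [SetLike.mem_coe, LinearMap.mem_ker]
    funext j
    fin_cases i <;> fin_cases j <;> simp [f, prodMap, hv, hv', h, hm_symm0 hF h]
  have h2 := Submodule.finrank_mono hle
  have hli : LinearIndependent F ![v, v'] := by
    rw [LinearIndependent.pair_iff]
    intro s t e
    by_cases ht : t = 0
    · subst ht
      rw [zero_smul, add_zero] at e
      exact ⟨(smul_eq_zero.1 e).resolve_right hv0, rfl⟩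
    · refine absurd (Submodule.mem_span_singleton.2 ⟨-(s / t), ?_⟩) hout
      rw [neg_smul, div_eq_inv_mul, mul_smul, eq_neg_of_add_eq_zero_left e, smul_neg, neg_neg,
        inv_smul_smul₀ ht]
  rw [finrank_span_eq_card hli, Fintype.card_fin] at h2
  omega

section Even

variable (h2 : ringChar F = 2)
include h2

theorem two_eq_zero : (2 : F) = 0 := by
  have := CharP.cast_eq_zero F (ringChar F)
  rwa [h2, Nat.cast_ofNat] at this

theorem self_add (v : Fin 3 → F) : v + v = 0 := by
  rw [← two_smul F, two_eq_zero hF h2, zero_smul]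

/-- An involution in even characteristic has a centre. -/
theorem exists_centre {g : Cfsg.SU 3 F q} (hg : g * g = 1) (hg1 : g ≠ 1) :
    ∃ v : Fin 3 → F, v ≠ 0 ∧ hm v v = 0 ∧
      (∀ x, ∃ c : F, suAct g x + x = c • v) ∧ ∀ y, (suAct g y = y ↔ hm v y = 0) := by
  have H := hH (d := 3) hF
  let N : (Fin 3 → F) → (Fin 3 → F) := fun x => suAct g x + x
  have hgN : ∀ x, suAct g x = N x + x := fun x => by
    simp only [N, add_assoc, self_add hF h2, add_zero]
  have hNN : ∀ x, N (N x) = 0 := fun x => by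
    show suAct g (suAct g x + x) + (suAct g x + x) = 0
    rw [suAct_add, ← suAct_mul, hg, suAct_one, add_comm x, self_add hF h2]
  have hNdef : ∀ x, suAct g x + x = N x := fun _ => rfl
  clear_value N
  have hid : ∀ x y, hm (N x) (N y) + hm (N x) y + hm x (N y) = 0 := fun x y => by
    have h := suAct_herm g x y
    rw [hgN x, hgN y, H.add_left, H.add_right hF, H.add_right hF] at h
    linear_combination h
  have hiso : ∀ x z, hm (N x) (N z) = 0 := fun x z => by
    have h := hid x (N z)
    rwa [hNN, H.zero_right hF, H.zero_right hF, zero_add, add_zero] at h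
  obtain ⟨x₀, hx₀⟩ : ∃ x, N x ≠ 0 := by
    by_contra hcon
    push Not at hcon
    exact hg1 (suAct_ext fun x => by rw [hgN, hcon, zero_add, suAct_one])
  refine ⟨N x₀, hx₀, hiso x₀ x₀, fun x => ?_, fun y => ?_⟩
  · obtain ⟨c, hc⟩ := Submodule.mem_span_singleton.1
      (isotropic_dep hF (hiso x₀ x₀) hx₀ (hiso x x) (hiso x₀ x))
    exact ⟨c, (hNdef x).trans hc.symm⟩
  · have hy : suAct g y = y ↔ N y = 0 := by
      rw [hgN]; exact add_eq_right
    rw [hy]
    constructor
    · intro h
      have := hid x₀ y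
      rwa [h, H.zero_right hF, H.zero_right hF, zero_add, add_zero] at this
    · intro h
      refine hermForm_nondeg hF 3 _ fun x => hm_symm0 hF ?_
      have h' := hid x y
      rw [hiso, zero_add] at h'
      obtain ⟨c, hc⟩ := Submodule.mem_span_singleton.1
        (isotropic_dep hF (hiso x₀ x₀) hx₀ (hiso x x) (hiso x₀ x))
      rwa [← hc, H.smul_left, h, mul_zero, zero_add] at h'

/-- Commuting involutions share the centre. -/
theorem exists_common_centre {ι : Type*} (g : ι → Cfsg.SU 3 F q) (hg : ∀ i, g i * g i = 1)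
    (hc : ∀ i j, g i * g j = g j * g i) {i₀ : ι} (h0 : g i₀ ≠ 1) :
    ∃ v : Fin 3 → F, v ≠ 0 ∧ hm v v = 0 ∧
      ∀ i, (∀ x, ∃ c : F, suAct (g i) x + x = c • v) ∧
        ∀ y, hm v y = 0 → suAct (g i) y = y := by
  have H := hH (d := 3) hF
  obtain ⟨v, hv0, hvv, hvN, hvfix⟩ := exists_centre hF h2 (hg i₀) h0
  refine ⟨v, hv0, hvv, fun i => ?_⟩
  by_cases hi : g i = 1
  · refine ⟨fun x => ⟨0, ?_⟩, fun y _ => ?_⟩
    · rw [hi, suAct_one, self_add hF h2, zero_smul]
    · rw [hi, suAct_one]
  obtain ⟨u, hu0, huu, huN, hufix⟩ := exists_centre hF h2 (hg i) hi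
  have huv : u ∈ Submodule.span F ({v} : Set (Fin 3 → F)) := by
    refine isotropic_dep hF hvv hv0 huu ?_
    by_contra hne
    -- the image of v under the difference is a nonzero multiple of both centres
    have hmove : suAct (g i) v ≠ v := fun e => hne (hm_symm0 hF ((hufix v).1 e))
    obtain ⟨c, hc'⟩ := huN v
    have hc0 : c ≠ 0 := fun e => hmove (by
      rw [e, zero_smul, add_eq_zero_iff_eq_neg] at hc'
      rw [hc', ← add_eq_zero_iff_neg_eq]
      exact self_add hF h2 v)
    obtain ⟨x, hx⟩ : ∃ x, suAct (g i₀) x + x = v := by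
      have hex : ∃ x, suAct (g i₀) x + x ≠ 0 := by
        by_contra hcon
        push Not at hcon
        exact h0 (suAct_ext fun x => by
          rw [suAct_one, add_eq_zero_iff_eq_neg.1 (hcon x), neg_eq_iff_add_eq_zero, self_add hF h2])
      obtain ⟨x, hx⟩ := hex
      obtain ⟨a, ha⟩ := hvN x
      have ha0 : a ≠ 0 := fun e => hx (by rw [ha, e, zero_smul])
      exact ⟨a⁻¹ • x, by rw [suAct_smul, ← smul_add, ha, inv_smul_smul₀ ha0]⟩
    have h3 : suAct (g i) v + v = suAct (g i₀) (suAct (g i) x + x) + (suAct (g i) x + x) := by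
      rw [← hx, suAct_add, suAct_add, ← suAct_mul, ← suAct_mul, hc i i₀]
      abel
    obtain ⟨a, ha⟩ := hvN (suAct (g i) x + x)
    rw [hc', ha] at h3
    refine hne ?_
    have hu' : u = (c⁻¹ * a) • v := by rw [mul_smul, ← h3, inv_smul_smul₀ hc0]
    rw [hu', H.smul_right, hvv, mul_zero]
  obtain ⟨c, hc'⟩ := Submodule.mem_span_singleton.1 huv
  refine ⟨fun x => ?_, fun y hy => (hufix y).2 (by rw [← hc', H.smul_left, hy, mul_zero])⟩
  obtain ⟨a, ha⟩ := huN x
  exact ⟨a * c, by rw [ha, mul_smul, hc']⟩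

theorem exists_fixed_even (hq : 4 ≤ q) (f : Cfsg.SU 2 F q →* Cfsg.SU 3 F q)
    (hf : Function.Injective f) :
    ∃ w : Fin 3 → F, hm w w = 1 ∧ ∀ x, suAct (f x) w = w := by
  classical
  have H := hH (d := 3) hF
  obtain ⟨P, e, -⟩ := exists_sl_model hF
  let φ := f.comp e.toMonoidHom
  have hφ : Function.Injective φ := hf.comp e.injective
  have hchar : ∀ c : fixedField hF, c + c = 0 := fun c => Subtype.ext (by
    show (c : F) + c = 0
    rw [← two_mul, two_eq_zero hF h2, zero_mul])
  have hcentre : ∀ (i j : Fin 2) (hij : i ≠ j), ∃ v : Fin 3 → F, v ≠ 0 ∧ hm v v = 0 ∧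
      ∀ c : fixedField hF,
        (∀ x, ∃ a : F, suAct (φ (Matrix.SpecialLinearGroup.transvection hij c)) x + x = a • v) ∧
          ∀ y, hm v y = 0 → suAct (φ (Matrix.SpecialLinearGroup.transvection hij c)) y = y := by
    intro i j hij
    have hmul : ∀ a b : fixedField hF, Matrix.SpecialLinearGroup.transvection hij a *
        Matrix.SpecialLinearGroup.transvection hij b =
          Matrix.SpecialLinearGroup.transvection hij (a + b) := fun a b =>
      Subtype.ext (Matrix.transvection_mul_transvection_same i j hij a b)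
    have hz : Matrix.SpecialLinearGroup.transvection hij (0 : fixedField hF) = 1 :=
      Subtype.ext (Matrix.transvection_zero i j)
    refine exists_common_centre hF h2
      (fun c => φ (Matrix.SpecialLinearGroup.transvection hij c)) (fun c => ?_) (fun a b => ?_)
      (i₀ := 1) ?_
    · rw [← map_mul, hmul, hchar, hz, map_one]
    · rw [← map_mul, ← map_mul, hmul, hmul, add_comm]
    · intro h
      have h1 := congrArg (fun g : Matrix.SpecialLinearGroup (Fin 2) (fixedField hF) =>
        (g : Matrix (Fin 2) (Fin 2) (fixedField hF)) i j) (hφ (h.trans (map_one φ).symm))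
      have h2 : (Matrix.transvection i j (1 : fixedField hF)) i j =
          (1 : Matrix (Fin 2) (Fin 2) (fixedField hF)) i j := h1
      simp [Matrix.transvection, hij] at h2
  obtain ⟨v, hv0, hvv, hv⟩ := hcentre 0 1 (by decide)
  obtain ⟨u, hu0, huu, hu⟩ := hcentre 1 0 (by decide)
  have hgen : ∀ M : Subgroup (Matrix.SpecialLinearGroup (Fin 2) (fixedField hF)),
      (∀ c, Matrix.SpecialLinearGroup.transvection (show (0 : Fin 2) ≠ 1 by decide) c ∈ M) →
      (∀ c, Matrix.SpecialLinearGroup.transvection (show (1 : Fin 2) ≠ 0 by decide) c ∈ M) →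
      ∀ x, x ∈ M := by
    intro M h01 h10 x
    have hle : Subgroup.closure (Linear.slTvSet (Fin 2) (fixedField hF)) ≤ M := by
      rw [Subgroup.closure_le]
      rintro _ ⟨i, j, hij, c, rfl⟩
      fin_cases i <;> fin_cases j
      · exact absurd rfl hij
      · exact h01 c
      · exact h10 c
      · exact absurd rfl hij
    exact hle (by rw [Linear.closure_slTvSet]; trivial)
  have hvu : hm v u ≠ 0 := by
    intro hvu
    obtain ⟨c, hc⟩ := Submodule.mem_span_singleton.1 (isotropic_dep hF hvv hv0 huu hvu)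
    have hc0 : c ≠ 0 := fun e => hu0 (by rw [← hc, e, zero_smul])
    -- everything has the same centre, so everything commutes
    let M : Subgroup (Matrix.SpecialLinearGroup (Fin 2) (fixedField hF)) :=
      { carrier := {x | (∀ z, ∃ a : F, suAct (φ x) z = z + a • v) ∧
          ∀ y, hm v y = 0 → suAct (φ x) y = y}
        one_mem' := ⟨fun z => ⟨0, by rw [map_one, suAct_one, zero_smul, add_zero]⟩,
          fun y _ => by rw [map_one, suAct_one]⟩
        mul_mem' := fun {x y} hx hy => by
          refine ⟨fun z => ?_, fun z hz => by rw [map_mul, suAct_mul, hy.2 z hz, hx.2 z hz]⟩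
          obtain ⟨a, ha⟩ := hy.1 z
          obtain ⟨b, hb⟩ := hx.1 z
          refine ⟨b + a, ?_⟩
          rw [map_mul, suAct_mul, ha, suAct_add, suAct_smul, hb, hx.2 v hvv]
          module
        inv_mem' := fun {x} hx => by
          refine ⟨fun z => ?_, fun z hz => by rw [map_inv]; exact suAct_inv_of (hx.2 z hz)⟩
          obtain ⟨a, ha⟩ := hx.1 z
          refine ⟨-a, ?_⟩
          rw [map_inv]
          refine suAct_inv_of ?_
          rw [suAct_add, suAct_smul, ha, hx.2 v hvv]
          module }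
    have flip : ∀ {g : Cfsg.SU 3 F q} {z : Fin 3 → F} {a : F},
        suAct g z + z = a • v → suAct g z = z + a • v := fun {g z a} h => by
      rw [← h, add_left_comm, self_add hF h2, add_zero]
    have hall := hgen M
      (fun t => ⟨fun z => ((hv t).1 z).imp fun a ha => flip ha, (hv t).2⟩)
      (fun t => ⟨fun z => by
        obtain ⟨a, ha⟩ := (hu t).1 z
        exact ⟨a * c, flip (by rw [ha, ← hc, smul_smul])⟩,
        fun y hy => (hu t).2 y (by rw [← hc, H.smul_left, hy, mul_zero])⟩)
    have hcomm : ∀ x y : Matrix.SpecialLinearGroup (Fin 2) (fixedField hF), x * y = y * x :=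
      fun x y => hφ (suAct_ext fun z => by
        obtain ⟨a, ha⟩ := (hall x).1 z
        obtain ⟨b, hb⟩ := (hall y).1 z
        rw [map_mul, map_mul, suAct_mul, suAct_mul, ha, hb, suAct_add, suAct_add, suAct_smul,
          suAct_smul, ha, hb, (hall x).2 v hvv, (hall y).2 v hvv]
        module)
    have hperf := sl_two_perfect (K := fixedField hF) (by rw [card_fixedField hF]; exact hq)
    have hbot : commutator (Matrix.SpecialLinearGroup (Fin 2) (fixedField hF)) = ⊥ := by
      rw [commutator_def, eq_bot_iff, Subgroup.commutator_le]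
      intro x _ y _
      rw [Subgroup.mem_bot, commutatorElement_eq_one_iff_mul_comm]
      exact hcomm x y
    rw [hperf] at hbot
    have h1 := Subgroup.mem_bot.1 (hbot ▸ Subgroup.mem_top
      (Matrix.SpecialLinearGroup.transvection (show (0 : Fin 2) ≠ 1 by decide) (1 : fixedField hF)))
    have h2 : (Matrix.transvection (0 : Fin 2) 1 (1 : fixedField hF)) 0 1 =
        (1 : Matrix (Fin 2) (Fin 2) (fixedField hF)) 0 1 :=
      congrArg (fun g : Matrix.SpecialLinearGroup (Fin 2) (fixedField hF) =>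
        (g : Matrix (Fin 2) (Fin 2) (fixedField hF)) 0 1) h1
    simp [Matrix.transvection] at h2
  obtain ⟨w, hw, hw0⟩ := exists_perp_notMem hF (d := 3) ![v, u] ⊥ (by rw [finrank_bot]; omega)
  have hwv : hm w v = 0 := hw 0
  have hwu : hm w u = 0 := hw 1
  have hww : hm w w ≠ 0 := fun hww => by
    obtain ⟨c, hc⟩ := Submodule.mem_span_singleton.1
      (isotropic_dep hF hvv hv0 hww (hm_symm0 hF hwv))
    rw [← hc, H.smul_left] at hwu
    have hc0 := (mul_eq_zero.1 hwu).resolve_right hvu
    exact hw0 (by rw [← hc, hc0, zero_smul]; exact zero_mem _)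
  obtain ⟨c, -, -, hc⟩ := exists_scale hF hww
  refine ⟨c • w, hc, fun x => ?_⟩
  obtain ⟨y, rfl⟩ := e.surjective x
  have := hgen ((fixV (c • w)).comap φ)
    (fun t => Subgroup.mem_comap.2 ((hv t).2 _
      (hm_symm0 hF (by rw [H.smul_left, hwv, mul_zero]))))
    (fun t => Subgroup.mem_comap.2 ((hu t).2 _
      (hm_symm0 hF (by rw [H.smul_left, hwu, mul_zero])))) y
  exact this

end Even

theorem exists_fixed_odd (hq : 4 ≤ q) (h2 : (2 : F) ≠ 0) (f : Cfsg.SU 2 F q →* Cfsg.SU 3 F q)
    (hf : Function.Injective f) :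
    ∃ w : Fin 3 → F, hm w w = 1 ∧ ∀ x, suAct (f x) w = w := by
  classical
  have H := hH (d := 3) hF
  -- the central involution
  obtain ⟨z₀, hz0, -⟩ := exists_su_two_unit hF (u := ![-1, 0])
    (by rw [herm_pair hF]; simp [pow_succ, neg_pow_q hF])
  have hz1 : z₀ ≠ 1 := fun e => by
    rw [e, suAct_one] at hz0
    have h1 := congrFun hz0 0
    simp at h1
    exact h2 (by linear_combination h1)
  have hzd : mat z₀ = (-1 : F) • (1 : Matrix (Fin 2) (Fin 2) F) := by
    have h00 : mat z₀ 0 0 = -1 := by rw [mat_eq_suAct, hz0]; rfl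
    have h10 : mat z₀ 1 0 = 0 := by rw [mat_eq_suAct, hz0]; rfl
    obtain ⟨h11, h01⟩ := su_two_entries hF z₀
    rw [h00, neg_pow_q hF, one_pow] at h11
    rw [h10, zero_pow_q hF, neg_zero] at h01
    ext i j
    fin_cases i <;> fin_cases j <;> simp [h00, h10, h11, h01]
  have hzc : ∀ x, z₀ * x = x * z₀ := fun x => mat_injective (by
    show mat z₀ * mat x = mat x * mat z₀
    rw [hzd, smul_mul_assoc, one_mul, mul_smul_comm, mul_one])
  have hzz : z₀ * z₀ = 1 := mat_injective (by
    show mat z₀ * mat z₀ = (1 : Matrix (Fin 2) (Fin 2) F)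
    rw [hzd, smul_mul_assoc, one_mul, smul_smul, neg_mul_neg, one_mul, one_smul])
  set M := Matrix.mulVecLin (mat (f z₀))
  have hM : ∀ x, M x = suAct (f z₀) x := fun x => rfl
  have hMM : ∀ x, M (M x) = x := fun x => by
    rw [hM, hM, ← suAct_mul, ← map_mul, hzz, map_one, suAct_one]
  let Wp := LinearMap.ker (M - LinearMap.id)
  let Wm := LinearMap.ker (M + LinearMap.id)
  have memp : ∀ x, x ∈ Wp ↔ M x = x := fun x => by simp [Wp, sub_eq_zero]
  have memm : ∀ x, x ∈ Wm ↔ M x = -x := fun x => by simp [Wm, add_eq_zero_iff_eq_neg]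
  have horth : ∀ x ∈ Wp, ∀ y ∈ Wm, hm x y = 0 := fun x hx y hy => by
    have h := suAct_herm (f z₀) x y
    rw [← hM, ← hM, (memp x).1 hx, (memm y).1 hy, H.neg_right hF] at h
    have : (2 : F) * hm x y = 0 := by linear_combination -h
    exact (mul_eq_zero.1 this).resolve_left h2
  have hsplit : ∀ x, ∃ a ∈ Wp, ∃ b ∈ Wm, a + b = x := fun x => by
    refine ⟨(2 : F)⁻¹ • (x + M x), (memp _).2 ?_, (2 : F)⁻¹ • (x - M x), (memm _).2 ?_, ?_⟩
    · rw [map_smul, map_add, hMM, add_comm]
    · rw [map_smul, map_sub, hMM, ← smul_neg, neg_sub]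
    · rw [← smul_add, show x + M x + (x - M x) = (2 : F) • x by module, inv_smul_smul₀ h2]
  have hcompl : IsCompl Wp Wm := by
    constructor
    · rw [disjoint_iff, eq_bot_iff]
      intro x hx
      have h1 := (memp x).1 hx.1
      rw [(memm x).1 hx.2, neg_eq_iff_add_eq_zero, ← two_smul F] at h1
      exact (smul_eq_zero.1 h1).resolve_left h2
    · rw [codisjoint_iff, eq_top_iff]
      intro x _
      obtain ⟨a, ha, b, hb, rfl⟩ := hsplit x
      exact Submodule.add_mem_sup ha hb
  have hdim := Submodule.finrank_add_eq_of_isCompl hcompl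
  rw [Module.finrank_fin_fun] at hdim
  have hpb : Wp ≠ ⊥ := fun e => by
    have hneg : ∀ x, M x = -x := fun x => by
      obtain ⟨a, ha, b, hb, rfl⟩ := hsplit x
      rw [e, Submodule.mem_bot] at ha
      rw [ha, zero_add, (memm b).1 hb]
    have hd : (mat (f z₀)).det = 1 := (f z₀ : Matrix.SpecialLinearGroup (Fin 3) F).2
    rw [show mat (f z₀) = -1 from Matrix.ext_iff_mulVec.2 fun x => by
      rw [show mat (f z₀) *ᵥ x = M x from rfl, hneg, Matrix.neg_mulVec, Matrix.one_mulVec],
      Matrix.det_neg, Matrix.det_one, Fintype.card_fin] at hd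
    exact h2 (by linear_combination -hd)
  have hmb : Wm ≠ ⊥ := fun e => by
    refine hz1 (hf ?_)
    rw [map_one]
    refine suAct_ext fun x => ?_
    obtain ⟨a, ha, b, hb, rfl⟩ := hsplit x
    rw [e, Submodule.mem_bot] at hb
    rw [hb, add_zero, ← hM, (memp a).1 ha, suAct_one]
  -- the line is invariant and not isotropic
  have line : ∀ (L L' : Submodule F (Fin 3 → F)), Module.finrank F L = 1 →
      (∀ x ∈ L, ∀ y ∈ L', hm x y = 0) → (∀ x, ∃ a ∈ L, ∃ b ∈ L', a + b = x) →
      (∀ g, ∀ x ∈ L, suAct (f g) x ∈ L) →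
      ∃ w : Fin 3 → F, hm w w = 1 ∧ ∀ x, suAct (f x) w = w := by
    intro L L' h1 ho hs hinv
    obtain ⟨⟨v, hvL⟩, hv0, hv⟩ := finrank_eq_one_iff'.1 h1
    have hv0' : v ≠ 0 := fun e => hv0 (Subtype.ext e)
    have hvv : hm v v ≠ 0 := fun e => hv0' (hermForm_nondeg hF 3 v fun y => by
      obtain ⟨a, ha, b, hb, rfl⟩ := hs y
      obtain ⟨c, hc⟩ := hv ⟨a, ha⟩
      have hc' : c • v = a := congrArg Subtype.val hc
      rw [H.add_right hF, ← hc', H.smul_right, e, ho v hvL b hb, mul_zero, add_zero])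
    obtain ⟨c, hc0, -, hcc⟩ := exists_scale hF hvv
    refine ⟨c • v, hcc, fix_of_line hF hq f fun g => ?_⟩
    obtain ⟨a, ha⟩ := hv ⟨suAct (f g) v, hinv g v hvL⟩
    refine ⟨a, ?_⟩
    have ha' : a • v = suAct (f g) v := congrArg Subtype.val ha
    rw [suAct_smul, ← ha', smul_comm]
  have hinvp : ∀ g, ∀ x ∈ Wp, suAct (f g) x ∈ Wp := fun g x hx => by
    rw [memp, hM, ← suAct_mul, ← map_mul, hzc, map_mul, suAct_mul, ← hM, (memp x).1 hx]
  have hinvm : ∀ g, ∀ x ∈ Wm, suAct (f g) x ∈ Wm := fun g x hx => by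
    rw [memm, hM, ← suAct_mul, ← map_mul, hzc, map_mul, suAct_mul, ← hM, (memm x).1 hx,
      ← neg_one_smul F, suAct_smul, neg_one_smul]
  have hp1 : 1 ≤ Module.finrank F Wp := Submodule.one_le_finrank_iff.2 hpb
  have hm1 : 1 ≤ Module.finrank F Wm := Submodule.one_le_finrank_iff.2 hmb
  rcases (show Module.finrank F Wp = 1 ∨ Module.finrank F Wm = 1 by omega) with h | h
  · exact line Wp Wm h horth hsplit hinvp
  · exact line Wm Wp h (fun x hx y hy => hm_symm0 hF (horth y hy x hx))
      (fun x => let ⟨a, ha, b, hb, e⟩ := hsplit x; ⟨b, hb, a, ha, by rw [add_comm, e]⟩) hinvm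

/-- A copy of SU_2 is the fixer of a unit vector. -/
theorem exists_fixed_unit (hq : 4 ≤ q) {A : Subgroup (Cfsg.SU 3 F q)}
    (e : Cfsg.SU 2 F q ≃* A) : ∃ w : Fin 3 → F, hm w w = 1 ∧ A = fixV w := by
  have hinj : Function.Injective (A.subtype.comp e.toMonoidHom) := A.subtype_injective.comp e.injective
  obtain ⟨w, hw, hfix⟩ : ∃ w : Fin 3 → F, hm w w = 1 ∧
      ∀ x, suAct ((A.subtype.comp e.toMonoidHom) x) w = w := by
    by_cases h2 : ringChar F = 2
    · exact exists_fixed_even hF h2 hq _ hinj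
    · refine exists_fixed_odd hF hq (fun e2 => h2 ?_) _ hinj
      exact CharP.ringChar_of_prime_eq_zero Nat.prime_two (by exact_mod_cast e2)
  refine ⟨w, hw, ?_⟩
  have hle : A ≤ fixV w := fun a ha => by
    obtain ⟨x, hx⟩ := e.surjective ⟨a, ha⟩
    have := hfix x
    rwa [MonoidHom.comp_apply, show e.toMonoidHom x = ⟨a, ha⟩ from hx] at this
  refine Subgroup.eq_of_le_of_card_ge hle ?_
  rw [card_fixV hF (by omega) hw, Nat.card_congr e.toEquiv]

theorem pow_char_eq_one {g : Cfsg.SU 2 F q} (p : ℕ) [Fact p.Prime] [CharP F p]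
    {y : Fin 2 → F} (hy : y ≠ 0) (hgy : suAct g y = y) : g ^ p = 1 := by
  obtain ⟨h11, h01⟩ := su_two_entries hF g
  have hn := su_two_norm hF g
  set a := mat g 0 0
  set b := mat g 1 0
  have hdet : (mat g - 1).det = 0 := by
    rw [← Matrix.exists_mulVec_eq_zero_iff]
    exact ⟨y, hy, by rw [Matrix.sub_mulVec, Matrix.one_mulVec]; exact sub_eq_zero.2 hgy⟩
  rw [Matrix.det_fin_two] at hdet
  simp only [Matrix.sub_apply, Matrix.one_apply, h11, h01, if_true, if_false, sub_zero,
    show (0 : Fin 2) ≠ 1 from by decide, show (1 : Fin 2) ≠ 0 from by decide] at hdet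
  rw [pow_succ, pow_succ] at hn
  have htr : a + a ^ q = 2 := by linear_combination -hdet + hn
  have hsq : (mat g - 1) ^ 2 = 0 := by
    ext i j
    fin_cases i <;> fin_cases j <;>
      simp [sq, Matrix.mul_apply, Fin.sum_univ_two, h11, h01] <;>
      first
        | linear_combination a * htr - hn
        | linear_combination (-(b ^ q)) * htr
        | linear_combination b * htr
        | linear_combination a ^ q * htr - hn
  have hp : p.Prime := Fact.out
  refine mat_injective ?_
  show ((g ^ p : Cfsg.SU 2 F q) : Matrix.SpecialLinearGroup (Fin 2) F).1 = (1 : Matrix (Fin 2) (Fin 2) F)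
  rw [Subgroup.coe_pow, Matrix.SpecialLinearGroup.coe_pow]
  show mat g ^ p = 1
  have hsub := sub_pow_char_of_commute (p := p) (Commute.one_right (mat g))
  have h0 : (mat g - 1) ^ p = 0 := by
    rw [← Nat.sub_add_cancel hp.two_le, pow_add, hsq, mul_zero]
  rw [h0, one_pow] at hsub
  exact sub_eq_zero.1 hsub.symm

/-- An element of order q+1 fixing a unit vector fixes only its multiples. -/
theorem fix_dim_one (hq : 3 ≤ q) {w : Fin 3 → F} (hw : hm w w = 1) {d : Cfsg.SU 3 F q}
    (hd : suAct d w = w) (hord : orderOf d = q + 1) {x : Fin 3 → F} (hx : suAct d x = x) :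
    ∃ c : F, x = c • w := by
  classical
  obtain ⟨g, hg⟩ := exists_move_three hF hq hw
  have hfix : g⁻¹ * d * g ∈ (emb c01 : Cfsg.SU 2 F q →* _).range := by
    rw [← fixV_last hF, mem_fixV, suAct_mul, suAct_mul, hg, hd]
    exact suAct_inv_of hg
  obtain ⟨k, hk⟩ := hfix
  have hko : orderOf k = q + 1 := by
    rw [← orderOf_injective (emb c01) (emb_injective c01) k, hk, ← hord,
      show g⁻¹ * d * g = MulAut.conj g⁻¹ d by simp [MulAut.conj_apply]]
    exact orderOf_injective (MulAut.conj g⁻¹).toMonoidHom (MulAut.conj g⁻¹).injective d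
  set y := suAct g⁻¹ x with hy
  have hy2 : suAct k (y ∘ c01) = y ∘ c01 := by
    rw [← suAct_emb_comp, hk, hy, suAct_mul, suAct_mul, suAct_suAct_inv, hx]
  by_cases hy0 : y ∘ c01 = 0
  · refine ⟨y 2, ?_⟩
    have hsplit : y = y 2 • e₂ := funext fun i => by
      fin_cases i
      · have := congrFun hy0 0
        simp only [Function.comp_apply, c01_zero, Pi.zero_apply] at this
        simpa using this
      · have := congrFun hy0 1
        simp only [Function.comp_apply, c01_one, Pi.zero_apply] at this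
        simpa using this
      · simp
    have h' := congrArg (suAct g) hsplit
    rwa [hy, suAct_suAct_inv, suAct_smul, hg] at h'
  exfalso
  obtain ⟨p, n, hp, hchar, hqp, hn⟩ := exists_prime_pow hF
  have : Fact p.Prime := ⟨hp⟩
  have hdvd := hko ▸ orderOf_dvd_of_pow_eq_one (pow_char_eq_one hF p hy0 hy2)
  rcases (Nat.dvd_prime hp).1 hdvd with h | h
  · omega
  · have : p ≤ q := hqp ▸ Nat.le_self_pow (by omega) p
    omega

/-- A generating pair of SU_2-subgroups of SU_3 with commuting tori is a standard pair. -/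
theorem exists_standard (hq : 4 ≤ q) {A B : Subgroup (Cfsg.SU 3 F q)}
    (eA : Cfsg.SU 2 F q ≃* A) (eB : Cfsg.SU 2 F q ≃* B) {a b : Cfsg.SU 3 F q}
    (ha : a ∈ A) (hao : orderOf a = q + 1) (hb : b ∈ B) (hbo : orderOf b = q + 1)
    (hab : a * b = b * a) (hne : A ≠ B) :
    ∃ φ : Cfsg.SU 3 F q ≃* Cfsg.SU 3 F q,
      (Cfsg.suBlock 3 F q {0, 1}).map φ.toMonoidHom = A ∧
        (Cfsg.suBlock 3 F q {1, 2}).map φ.toMonoidHom = B := by
  classical
  have H := hH (d := 3) hF
  obtain ⟨w, hw, hA⟩ := exists_fixed_unit hF hq eA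
  obtain ⟨u, hu, hB⟩ := exists_fixed_unit hF hq eB
  have haw : suAct a w = w := by rw [hA] at ha; exact ha
  have hbu : suAct b u = u := by rw [hB] at hb; exact hb
  -- b stabilises the line of w
  obtain ⟨μ, hμ⟩ := fix_dim_one hF (by omega) hw haw hao (x := suAct b w)
    (by rw [← suAct_mul, hab, suAct_mul, haw])
  have hwu : hm w u = 0 := by
    by_contra hne0
    have h := suAct_herm b w u
    rw [hμ, hbu, H.smul_left] at h
    have hμ1 : μ = 1 := mul_right_cancel₀ hne0 (h.trans (one_mul _).symm)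
    rw [hμ1, one_smul] at hμ
    obtain ⟨c, hc⟩ := fix_dim_one hF (by omega) hu hbu hbo hμ
    have hc0 : c ≠ 0 := fun e => hne0 (by rw [hc, e, zero_smul, H.zero_left])
    refine hne ?_
    rw [hA, hB, hc]
    ext g
    rw [mem_fixV, mem_fixV, suAct_smul]
    exact (smul_right_injective _ hc0).eq_iff
  have hpair : ∀ {s : Fin 2 → Fin 3 → F}, hm (s 0) (s 0) = 1 → hm (s 1) (s 1) = 1 →
      hm (s 0) (s 1) = 0 → Orthonormal hm s := fun {s} h0 h1 h01 =>
    ⟨fun i => by fin_cases i <;> assumption, fun i j hij => by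
      fin_cases i <;> fin_cases j <;> first | exact absurd rfl hij | exact h01 | exact hm_symm0 hF h01⟩
  have hsrc : Orthonormal hm ![e₂, e₀] := hpair (single_unit hF 2) (single_unit hF 0)
    (by simp [hermForm_single hF])
  have htgt : Orthonormal hm ![w, u] := hpair hw hu hwu
  obtain ⟨g, hg⟩ := exists_gu_witt hF (u := ![e₂, e₀]) (w := ![w, u])
    (hsrc.linearIndependent H) (htgt.linearIndependent H) (fun i j => by
      rw [htgt.apply, hsrc.apply])
  set P := ((g : Matrix.GeneralLinearGroup (Fin 3) F) : Matrix (Fin 3) (Fin 3) F)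
  have hPu : IsUnitary q P := g.2
  set Q := (((g : Matrix.GeneralLinearGroup (Fin 3) F)⁻¹ : GL (Fin 3) F) : Matrix (Fin 3) (Fin 3) F)
  have hQu : IsUnitary q Q := (inv_mem g.2 : _ ∈ Cfsg.GU 3 F q)
  have hQP : Q * P = 1 := Units.inv_mul _
  have hPQ : P * Q = 1 := Units.mul_inv _
  have conjdet : ∀ {X : Matrix (Fin 3) (Fin 3) F}, X.det = 1 → (P * X * Q).det = 1 ∧ (Q * X * P).det = 1 :=
    fun {X} hX => by
      have h := congrArg Matrix.det hPQ
      rw [Matrix.det_mul, Matrix.det_one] at h
      constructor <;> rw [Matrix.det_mul, Matrix.det_mul, hX, mul_one] <;> linear_combination h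
  let φ : Cfsg.SU 3 F q ≃* Cfsg.SU 3 F q :=
    { toFun := fun x => suOfUnitary (P * mat x * Q) ((hPu.mul x.2).mul hQu)
        (conjdet (x : Matrix.SpecialLinearGroup (Fin 3) F).2).1
      invFun := fun x => suOfUnitary (Q * mat x * P) ((hQu.mul x.2).mul hPu)
        (conjdet (x : Matrix.SpecialLinearGroup (Fin 3) F).2).2
      left_inv := fun x => mat_injective (by
        show Q * (P * mat x * Q) * P = mat x
        simp only [← mul_assoc, hQP, one_mul]
        rw [mul_assoc, hQP, mul_one])
      right_inv := fun x => mat_injective (by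
        show P * (Q * mat x * P) * Q = mat x
        simp only [← mul_assoc, hPQ, one_mul]
        rw [mul_assoc, hPQ, mul_one])
      map_mul' := fun x y => mat_injective (by
        show P * (mat x * mat y) * Q = (P * mat x * Q) * (P * mat y * Q)
        simp only [mul_assoc]
        rw [← mul_assoc Q P, hQP, one_mul]) }
  have key : ∀ (t s : Fin 3 → F), P *ᵥ t = s →
      (fixV t).map φ.toMonoidHom = fixV (q := q) s := by
    intro t s hts
    have hst : Q *ᵥ s = t := by rw [← hts, Matrix.mulVec_mulVec, hQP, Matrix.one_mulVec]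
    ext x
    constructor
    · rintro ⟨y, hy, rfl⟩
      show (P * mat y * Q) *ᵥ s = s
      rw [← Matrix.mulVec_mulVec, hst, ← Matrix.mulVec_mulVec,
        show mat y *ᵥ t = t from hy, hts]
    · intro hx
      refine ⟨φ.symm x, ?_, φ.apply_symm_apply x⟩
      show (Q * mat x * P) *ᵥ t = t
      rw [← Matrix.mulVec_mulVec, hts, ← Matrix.mulVec_mulVec,
        show mat x *ᵥ s = s from hx, hst]
  refine ⟨φ, ?_, ?_⟩
  · rw [suBlock_eq_range hF c01 (s := {0, 1}) (by ext i; rw [mem_range_shift]; fin_cases i <;> simp),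
      ← fixV_last hF, hA]
    exact key _ _ (hg 0)
  · rw [suBlock_eq_range hF c12 (s := {1, 2}) (by ext i; rw [mem_range_shift]; fin_cases i <;> simp),
      ← fixV_first hF, hB]
    exact key _ _ (hg 1)

end Cfsg.Agent.Phan
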