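/-
SU_2 and the lifts to SU_4 over nine elements.

* `three_centralizer`: in SU_2(3) the centraliser of an element of order three is abelian.
* `closure_three`, `exists_three_noncomm`: elements of order three generate SU_2(3).
* `exists_quaternion`: two elements of order four.
* `exists_lift_three`, `lift_three_comm`: lifts along a surjection from SU_4(3).
-/
import Cfsg.Agent.Lib.Phan.Frame
import Cfsg.Agent.Lib.Unitary.Simple

set_option autoImplicit false

namespace Cfsg.Agent.Phan

open Cfsg.Agent.Unitary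
open scoped Matrix

variable {F : Type*} [Field F] [Fintype F] (hF : Fintype.card F = 3 ^ 2)
include hF

theorem char_three : CharP F 3 := by
  obtain ⟨p, m, hp, hc, hpm, hm⟩ := exists_prime_pow (F := F) hF
  have h : p ∣ 3 := by rw [hpm]; exact dvd_pow_self p (by omega)
  rwa [(Nat.prime_dvd_prime_iff_eq hp Nat.prime_three).1 h] at hc

theorem two_ne_three : (2 : F) ≠ 0 := by
  have := char_three hF
  intro h
  have h' : ((2 : ℕ) : F) = 0 := by exact_mod_cast h
  rw [CharP.cast_eq_zero_iff F 3] at h'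
  omega

theorem cube_root (x : F) (hx : x ^ 3 = 1) : x = 1 := by
  have := char_three hF
  have : Fact (Nat.Prime 3) := ⟨Nat.prime_three⟩
  have h : (x - 1) ^ 3 = 0 := by rw [sub_pow_char, hx, one_pow, sub_self]
  exact sub_eq_zero.1 ((pow_eq_zero_iff (by norm_num)).1 h)

theorem two_perp_dep {v u : Fin 2 → F} (hv0 : v ≠ 0) (hv : Cfsg.hermForm 2 F 3 v v = 0)
    (h : Cfsg.hermForm 2 F 3 v u = 0) : ∃ c : F, u = c • v := by
  simp only [Cfsg.hermForm, Fin.sum_univ_two] at hv h
  have hv1 : v 1 ≠ 0 := fun e => hv0 (funext fun i => by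
    rw [e, zero_mul, add_zero] at hv
    have h0 : v 0 = 0 := by
      rcases mul_eq_zero.1 hv with h' | h'
      · exact h'
      · exact (pow_q_eq_zero hF).1 h'
    fin_cases i
    · exact h0
    · exact e)
  have hv0' : v 0 ≠ 0 := fun e => by
    rw [e, zero_mul, zero_add] at hv
    rcases mul_eq_zero.1 hv with h' | h'
    · exact hv1 h'
    · exact hv1 ((pow_q_eq_zero hF).1 h')
  have hcross : (u 0 * v 1 - v 0 * u 1) ^ 3 = 0 := by
    rw [sub_pow_q hF, mul_pow, mul_pow]
    refine (mul_eq_zero.1 (?_ : v 0 * ((u 0) ^ 3 * (v 1) ^ 3 - (v 0) ^ 3 * (u 1) ^ 3) = 0)).resolve_left hv0'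
    linear_combination (v 1 ^ 3) * h - (u 1 ^ 3) * hv
  refine ⟨u 1 / v 1, funext fun i => ?_⟩
  have hc := sub_eq_zero.1 ((pow_eq_zero_iff (by norm_num)).1 hcross)
  fin_cases i
  · show u 0 = u 1 / v 1 * v 0
    field_simp
    linear_combination hc
  · show u 1 = u 1 / v 1 * v 1
    field_simp

theorem fixed_iso {c : Cfsg.SU 2 F 3} (hc1 : c ≠ 1) {v : Fin 2 → F} (hcv : suAct c v = v) :
    Cfsg.hermForm 2 F 3 v v = 0 := by
  by_contra hne
  obtain ⟨a, ha, -, hz⟩ := exists_scale hF hne
  obtain ⟨g, hg⟩ := exists_su_two hF (u := (Pi.single 1 1 : Fin 2 → F)) (v := a • v)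
    (by rw [single_unit hF]; exact one_ne_zero) (by rw [single_unit hF, hz])
  have h1 : g⁻¹ * c * g = 1 := two_fix hF (by
    rw [suAct_mul, suAct_mul, hg, suAct_smul, hcv, suAct_inv_of hg])
  apply hc1
  have := congrArg (fun x => g * x * g⁻¹) h1
  simpa [mul_assoc] using this

theorem exists_fixed_three {c : Cfsg.SU 2 F 3} (hc : c ^ 3 = 1) :
    ∃ v : Fin 2 → F, v ≠ 0 ∧ suAct c v = v := by
  have := char_three hF
  have : Fact (Nat.Prime 3) := ⟨Nat.prime_three⟩
  have hm : mat c ^ 3 = 1 := by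
    have := congrArg mat hc
    rw [mat_one] at this
    rw [← this, pow_succ, pow_two, pow_succ, pow_two, mat_mul, mat_mul]
  have h0 : (mat c - 1) ^ 3 = 0 := by
    rw [sub_pow_char_of_commute (p := 3) (Commute.one_right (mat c)), hm, one_pow, sub_self]
  have hdet : (mat c - 1).det = 0 := by
    have := congrArg Matrix.det h0
    rw [Matrix.det_pow, Matrix.det_zero] at this
    exact (pow_eq_zero_iff (by norm_num)).1 this
  obtain ⟨v, hv, hcv⟩ := Matrix.exists_mulVec_eq_zero_iff.2 hdet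
  rw [Matrix.sub_mulVec, Matrix.one_mulVec, sub_eq_zero] at hcv
  exact ⟨v, hv, hcv⟩

/-- In SU_2(3) the centraliser of an element of order three is abelian. -/
theorem three_centralizer {a b c : Cfsg.SU 2 F 3} (ha : a ^ 3 = 1) (hb : b ^ 3 = 1) (hc : c ^ 3 = 1)
    (hac : a * c = c * a) (hbc : b * c = c * b) (hne : a * b ≠ b * a) : c = 1 := by
  by_contra hc1
  have H := hH (d := 2) hF
  obtain ⟨v, hv0, hcv⟩ := exists_fixed_three hF hc
  have hvv := fixed_iso hF hc1 hcv
  have hline : ∀ {u : Fin 2 → F}, suAct c u = u → ∃ l : F, u = l • v := fun {u} hu => by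
    refine two_perp_dep hF hv0 hvv ?_
    have hsum : ∀ x : F, Cfsg.hermForm 2 F 3 (v + x • u) (v + x • u) = 0 := fun x =>
      fixed_iso hF hc1 (by rw [suAct_add, suAct_smul, hcv, hu])
    have huu := fixed_iso hF hc1 hu
    by_contra hne'
    obtain ⟨x, hx⟩ := exists_trace_eq hF (c := (1 : F)) (one_pow 3)
    have h := hsum ((x / Cfsg.hermForm 2 F 3 v u) ^ 3)
    rw [H.add_left, H.add_right hF, H.add_right hF, H.smul_left, H.smul_left, H.smul_right,
      H.smul_right, hvv, huu, pow_q_pow_q hF, hm_symm hF v u, ← mul_pow,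
      div_mul_cancel₀ _ hne'] at h
    exact one_ne_zero (α := F) (by linear_combination h - hx)
  have hfix : ∀ {y : Cfsg.SU 2 F 3}, y ^ 3 = 1 → y * c = c * y → suAct y v = v := fun {y} hy hyc => by
    obtain ⟨l, hl⟩ := hline (u := suAct y v) (by rw [← suAct_mul, ← hyc, suAct_mul, hcv])
    have h3 : suAct (y ^ 3) v = (l ^ 3) • v := by
      rw [pow_succ, pow_two, suAct_mul, suAct_mul, hl, suAct_smul, hl, suAct_smul, suAct_smul, hl,
        smul_smul, smul_smul]
      congr 1
      ring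
    rw [hy, suAct_one] at h3
    have : l = 1 := cube_root hF l (smul_left_injective F hv0 (h3.symm.trans (one_smul F v).symm))
    rw [hl, this, one_smul]
  have hav := hfix ha hac
  have hbv := hfix hb hbc
  have hshift : ∀ {y : Cfsg.SU 2 F 3}, suAct y v = v → ∀ x, ∃ l : F, suAct y x = x + l • v :=
    fun {y} hy x => by
      obtain ⟨l, hl⟩ := two_perp_dep hF hv0 hvv (u := suAct y x - x) (by
        rw [H.sub_right hF]
        conv_lhs => arg 1; rw [← hy]
        rw [suAct_herm, sub_self])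
      exact ⟨l, by rw [← hl]; abel⟩
  refine hne (suAct_ext fun x => ?_)
  obtain ⟨α, hα⟩ := hshift hav x
  obtain ⟨β, hβ⟩ := hshift hbv x
  rw [suAct_mul, suAct_mul, hα, hβ, suAct_add, suAct_add, suAct_smul, suAct_smul, hα, hβ, hav, hbv]
  module

/-- Elements of order three generate SU_2(3). -/
theorem closure_three : Subgroup.closure {x : Cfsg.SU 2 F 3 | x ^ 3 = 1} = ⊤ := by
  classical
  have := char_three hF
  obtain ⟨P, f, -⟩ := exists_sl_model hF
  rw [eq_top_iff, ← Subgroup.map_top_of_surjective f.toMonoidHom f.surjective,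
    ← Linear.closure_slTvSet, MonoidHom.map_closure]
  refine Subgroup.closure_mono ?_
  rintro _ ⟨_, ⟨i, j, hij, c, rfl⟩, rfl⟩
  show f.toMonoidHom _ ^ 3 = 1
  rw [← map_pow]
  have h : Matrix.SpecialLinearGroup.transvection hij c ^ 3 = 1 := by
    refine Subtype.ext ?_
    have hc : c + c + c = 0 := Subtype.ext (by
      show (c : F) + c + c = 0
      have h3 : ((3 : ℕ) : F) = 0 := CharP.cast_eq_zero F 3
      push_cast at h3
      linear_combination (c : F) * h3)
    rw [pow_succ, pow_two]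
    show Matrix.transvection i j c * Matrix.transvection i j c * Matrix.transvection i j c = 1
    rw [Matrix.transvection_mul_transvection_same i j hij,
      Matrix.transvection_mul_transvection_same i j hij, hc, Matrix.transvection_zero]
  rw [h, map_one]

/-- Two elements of order four generating a quaternion group. -/
theorem exists_quaternion :
    ∃ t W : Cfsg.SU 2 F 3, t ∈ tor ∧ suAct W (Pi.single 1 1) = Pi.single 0 1 ∧
      suAct W (Pi.single 0 1) = (-1 : F) • Pi.single 1 1 ∧
      t * t = negTwo hF ∧ W * W = negTwo hF ∧ W * t⁻¹ * W⁻¹ = t := by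
  obtain ⟨c, hc, hord⟩ := exists_norm_one_gen hF
  obtain ⟨t, ht, htc⟩ := exists_tor hF hc
  obtain ⟨a, hta⟩ := two_line hF htc
  obtain ⟨W, hW1, hW0⟩ := exists_swap_two hF
  have hc2 : c ^ 2 = -1 := by
    have hne : c ^ 2 ≠ 1 := fun e => by
      have := Nat.le_of_dvd two_pos (hord ▸ orderOf_dvd_of_pow_eq_one e); omega
    have h4 : (c ^ 2) ^ 2 = 1 := by rw [← pow_mul]; exact hc
    exact (sq_eq_one_iff.1 h4).resolve_left hne
  have hac : a * c = 1 := by
    have h := (t : Matrix.SpecialLinearGroup (Fin 2) F).2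
    rw [show (t : Matrix.SpecialLinearGroup (Fin 2) F).1 = mat t from rfl, Matrix.det_fin_two,
      mat_eq_suAct, mat_eq_suAct, mat_eq_suAct, mat_eq_suAct, hta, htc] at h
    simpa using h
  have ha2 : a * a = -1 := by linear_combination (a * a) * hc2 - (a * c + 1) * hac
  have ha0 : a ≠ 0 := fun e => by rw [e, zero_mul] at hac; exact zero_ne_one hac
  refine ⟨t, W, ht, hW1, hW0, su_two_ext hF ?_, su_two_ext hF ?_, ?_⟩
  · rw [suAct_mul, hta, suAct_smul, hta, smul_smul, ha2, suAct_negTwo, neg_one_smul]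
  · rw [suAct_mul, hW0, suAct_smul, hW1, suAct_negTwo, neg_one_smul]
  · refine su_two_ext hF ?_
    rw [suAct_mul, suAct_mul, suAct_inv_of hW1]
    have h1 := suAct_inv_of htc
    rw [suAct_smul] at h1
    have hc0 : c ≠ 0 := fun e => by rw [e, mul_zero] at hac; exact zero_ne_one hac
    rw [(eq_inv_smul_iff₀ hc0).2 h1, suAct_smul, hW1, hta, ← eq_inv_of_mul_eq_one_left hac]

/-- There are two elements of order three that do not commute. -/
theorem exists_three_noncomm :
    ∃ x y : Cfsg.SU 2 F 3, x ^ 3 = 1 ∧ y ^ 3 = 1 ∧ x * y ≠ y * x := by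
  by_contra hcon
  push Not at hcon
  have h1 : Subgroup.closure {x : Cfsg.SU 2 F 3 | x ^ 3 = 1} ≤
      Subgroup.centralizer {x : Cfsg.SU 2 F 3 | x ^ 3 = 1} := by
    rw [Subgroup.closure_le]
    intro x hx y hy
    exact (hcon x y hx hy).symm
  rw [closure_three hF] at h1
  obtain ⟨t, W, -, -, -, ht, -, hWt⟩ := exists_quaternion hF
  have h2 : {x : Cfsg.SU 2 F 3 | x ^ 3 = 1} ⊆ Subgroup.centralizer {W} := fun x hx => by
    rintro y rfl
    exact (h1 (Subgroup.mem_top y) x hx).symm
  have h3 := (Subgroup.closure_le _).2 h2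
  rw [closure_three hF] at h3
  have h4 : W * t⁻¹ = t⁻¹ * W := h3 (Subgroup.mem_top t⁻¹) W rfl
  rw [h4, mul_inv_cancel_right] at hWt
  apply negTwo_ne hF (two_ne_three hF)
  rw [← ht]
  nth_rewrite 1 [← hWt]
  exact inv_mul_cancel t

theorem center_pow_four {z : Cfsg.SU 4 F 3} (hz : z ∈ Subgroup.center (Cfsg.SU 4 F 3)) : z ^ 4 = 1 := by
  obtain ⟨r, hr, -, hr'⟩ := center_SU_scalar hF (by omega) hz
  refine Subtype.ext (Subtype.ext ?_)
  rw [Subgroup.coe_pow, Matrix.SpecialLinearGroup.coe_pow, hr', ← map_pow, hr, map_one]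
  rfl

theorem center_cube {z : Cfsg.SU 4 F 3} (hz : z ∈ Subgroup.center (Cfsg.SU 4 F 3)) (h : z ^ 3 = 1) :
    z = 1 := by
  have h4 := center_pow_four hF hz
  rwa [pow_succ, h, one_mul] at h4

variable {G : Type*} [Group G] (g : Cfsg.SU 4 F 3 →* G) (hg : g ≠ 1)
include hg

theorem ker_le_center : g.ker ≤ Subgroup.center (Cfsg.SU 4 F 3) := by
  have := isSimpleGroup_PSU (n := 4) hF (Or.inl le_rfl)
  set Z := Subgroup.center (Cfsg.SU 4 F 3)
  have hn : (g.ker.map (QuotientGroup.mk' Z)).Normal :=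
    Subgroup.Normal.map inferInstance _ (QuotientGroup.mk'_surjective _)
  rcases hn.eq_bot_or_eq_top with h | h
  · rwa [Subgroup.map_eq_bot_iff, QuotientGroup.ker_mk'] at h
  · exfalso
    have hsup : g.ker ⊔ Z = ⊤ := by
      have := congrArg (Subgroup.comap (QuotientGroup.mk' Z)) h
      rwa [Subgroup.comap_map_eq, QuotientGroup.ker_mk', Subgroup.comap_top] at this
    have hle : commutator (Cfsg.SU 4 F 3) ≤ g.ker := by
      rw [commutator_def, Subgroup.commutator_le]
      intro x hx y hy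
      rw [← hsup, Subgroup.mem_sup_of_normal_right] at hx hy
      obtain ⟨a, ha, u, hu, rfl⟩ := hx
      obtain ⟨b, hb, v, hv, rfl⟩ := hy
      rw [MonoidHom.mem_ker] at ha hb ⊢
      rw [map_commutatorElement, map_mul, map_mul, ha, hb, one_mul, one_mul,
        commutatorElement_eq_one_iff_mul_comm, ← map_mul, ← map_mul,
        Subgroup.mem_center_iff.1 hu v]
    rw [commutator_SU_eq_top hF (Or.inl le_rfl), top_le_iff] at hle
    exact hg (MonoidHom.ker_eq_top_iff.1 hle)

theorem exists_lift_three {u : G} (hu : u ∈ g.range) (h3 : u ^ 3 = 1) :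
    ∃ v : Cfsg.SU 4 F 3, v ^ 3 = 1 ∧ g v = u := by
  obtain ⟨v, rfl⟩ := hu
  have hk : v ^ 3 ∈ g.ker := by rw [MonoidHom.mem_ker, map_pow, h3]
  have hc := ker_le_center hF g hg hk
  refine ⟨v * v ^ 3, ?_, by rw [map_mul, MonoidHom.mem_ker.1 hk, mul_one]⟩
  rw [(Commute.self_pow v 3).mul_pow, ← pow_succ', center_pow_four hF hc]

/-- An element of order three commutes exactly if its image does. -/
theorem lift_comm {x y : Cfsg.SU 4 F 3} (hx : x ^ 3 = 1) (h : g x * g y = g y * g x) :
    x * y = y * x := by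
  set ζ := y⁻¹ * x * y * x⁻¹ with hζ
  have hk : ζ ∈ g.ker := by
    rw [MonoidHom.mem_ker, hζ, map_mul, map_mul, map_mul, map_inv, map_inv, mul_assoc _ (g x) (g y),
      h, inv_mul_cancel_left, mul_inv_cancel]
  have hc := ker_le_center hF g hg hk
  have h1 : (ζ * x) ^ 3 = ζ ^ 3 * x ^ 3 :=
    (show Commute ζ x from (Subgroup.mem_center_iff.1 hc x).symm).mul_pow 3
  have h2 : (ζ * x) ^ 3 = 1 := by
    rw [hζ, inv_mul_cancel_right]
    rw [show y⁻¹ * x * y = MulAut.conj y⁻¹ x by simp [MulAut.conj_apply], ← map_pow, hx, map_one]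
  rw [h2, hx, mul_one] at h1
  have hone := center_cube hF hc h1.symm
  rw [hζ, mul_inv_eq_one, mul_assoc, inv_mul_eq_iff_eq_mul] at hone
  exact hone

end Cfsg.Agent.Phan
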