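/-
The base of a weak Phan system over nine elements.

* `range_eq_sup`: the image of SU_3 is generated by the images of its two blocks.
* `exists_base_three`: a surjection from SU_4(3) can be chosen respecting the Phan system.
-/
import Cfsg.Agent.Lib.Phan.ThreeAux
import Cfsg.Agent.Lib.Phan.Chain

set_option autoImplicit false

namespace Cfsg.Agent.Phan

open Cfsg.Agent.Unitary
open scoped Matrix

variable {F : Type*} [Field F] [Fintype F] {G : Type*} [Group G]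

theorem range_eq_sup {q : ℕ} (hF : Fintype.card F = q ^ 2) (hq : 3 ≤ q)
    (f : Cfsg.SU 3 F q →* G) : f.range = (f.comp (emb c01)).range ⊔ (f.comp (emb c12)).range := by
  refine le_antisymm ?_ (sup_le ?_ ?_)
  · rw [MonoidHom.range_eq_map, ← gen_top hF hq (by omega : 2 ≤ 3), gen]
    simp only [Subgroup.map_iSup]
    refine iSup₂_le fun i hi => ?_
    rw [← MonoidHom.range_comp]
    rcases (show i = 0 ∨ i = 1 by omega) with rfl | rfl
    · exact le_sup_left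
    · exact le_sup_right
  · rintro _ ⟨g, rfl⟩; exact ⟨_, rfl⟩
  · rintro _ ⟨g, rfl⟩; exact ⟨_, rfl⟩

variable (hF : Fintype.card F = 3 ^ 2)
include hF

theorem le_block {A : Subgroup G} (g : Cfsg.SU 4 F 3 →* G) (hg : g ≠ 1)
    (a : Cfsg.SU 2 F 3 →* G) (ha : a.range = A) (hr : A ≤ g.range) (B : Subgroup (Cfsg.SU 4 F 3))
    (hB : ∀ v : Cfsg.SU 4 F 3, v ^ 3 = 1 → g v ∈ A → v ∈ B) : A ≤ B.map g := by
  rw [← ha, MonoidHom.range_eq_map, ← closure_three hF, MonoidHom.map_closure, Subgroup.closure_le]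
  rintro _ ⟨x, hx, rfl⟩
  have hx3 : a x ^ 3 = 1 := by rw [← map_pow, hx, map_one]
  have hxA : a x ∈ A := ha ▸ ⟨x, rfl⟩
  obtain ⟨v, hv, hgv⟩ := exists_lift_three hF g hg (hr hxA) hx3
  exact ⟨v, hB v hv (hgv.symm ▸ hxA), hgv⟩

theorem block_eq {A : Subgroup G} (g : Cfsg.SU 4 F 3 →* G) {e : Fin 2 ↪ Fin 4}
    (hA : Nat.card A = Nat.card (Cfsg.SU 2 F 3))
    (hle : A ≤ (emb e : Cfsg.SU 2 F 3 →* _).range.map g) :
    (g.comp (emb e)).range = A ∧ Function.Injective (g.comp (emb e)) := by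
  rw [← MonoidHom.range_comp] at hle
  set f := g.comp (emb e : Cfsg.SU 2 F 3 →* _)
  have : Finite f.range := Finite.of_surjective _ f.rangeRestrict_surjective
  have hle' : Nat.card f.range ≤ Nat.card (Cfsg.SU 2 F 3) :=
    Nat.card_le_card_of_surjective _ f.rangeRestrict_surjective
  have heq : A = f.range := Subgroup.eq_of_le_of_card_ge hle (by omega)
  refine ⟨heq.symm, ?_⟩
  have hbij : Function.Bijective f.rangeRestrict :=
    (Nat.bijective_iff_surjective_and_card f.rangeRestrict).2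
      ⟨f.rangeRestrict_surjective, by rw [← heq, hA]⟩
  intro x y h
  exact hbij.1 (Subtype.ext h)

theorem suAct_neg' {n : ℕ} (x : Cfsg.SU n F 3) (v : Fin n → F) : suAct x (-v) = -suAct x v := by
  rw [← neg_one_smul F v, suAct_smul, neg_one_smul]

theorem pattern_elements {t W : Cfsg.SU 2 F 3} (hW1 : suAct W (Pi.single 1 1) = Pi.single 0 1)
    (hW0 : suAct W (Pi.single 0 1) = (-1 : F) • Pi.single 1 1) (ht : t ∈ tor) :
    (emb c01 W * emb c12 W * emb c01 (negTwo hF) * (emb c01 W * emb c12 W)⁻¹ =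
        emb c12 (negTwo hF)) ∧
      emb c01 t * emb c12 (negTwo hF) = emb c12 (negTwo hF) * emb c01 t ∧
      emb c01 (negTwo hF) * emb c12 W = emb c12 (negTwo hF * W) * emb c01 (negTwo hF) ∧
      emb c12 (negTwo hF) * emb c01 W = emb c01 (negTwo hF * W) * emb c12 (negTwo hF) := by
  obtain ⟨c, htc⟩ := ht
  obtain ⟨a, hta⟩ := two_line hF htc
  have off : ∀ {i : Fin 3} (e : Fin 2 ↪ Fin 3) (x : Cfsg.SU 2 F 3), i ∉ Set.range e →
      suAct (emb e x) (Pi.single i 1) = Pi.single i 1 := fun e x h => suAct_emb_single_off hF e x h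
  have n01_0 : ∀ x : Cfsg.SU 2 F 3, suAct (emb c01 x) (Pi.single 2 1) = Pi.single 2 1 :=
    fun x => off c01 x (by rw [mem_range_shift]; simp)
  have n12_0 : ∀ x : Cfsg.SU 2 F 3, suAct (emb c12 x) (Pi.single 0 1) = Pi.single 0 1 :=
    fun x => off c12 x (by rw [mem_range_shift]; simp)
  have m0 : suAct (negTwo hF) (Pi.single 0 1) = (-1 : F) • Pi.single 0 1 := by
    rw [suAct_negTwo, neg_one_smul]
  have m1 : suAct (negTwo hF) (Pi.single 1 1) = (-1 : F) • Pi.single 1 1 := by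
    rw [suAct_negTwo, neg_one_smul]
  have a0 : ∀ {x : Cfsg.SU 2 F 3} {r : F} {j : Fin 2}, suAct x (Pi.single 0 1) = r • Pi.single j 1 →
      suAct (emb c01 x) (Pi.single 0 1) = r • Pi.single (c01 j) 1 ∧
        suAct (emb c12 x) (Pi.single 1 1) = r • Pi.single (c12 j) 1 := fun {x r j} h =>
    ⟨by rw [← c01_zero, suAct_emb_single, h, map_smul, ext_single],
      by rw [← c12_zero, suAct_emb_single, h, map_smul, ext_single]⟩
  have a1 : ∀ {x : Cfsg.SU 2 F 3} {r : F} {j : Fin 2}, suAct x (Pi.single 1 1) = r • Pi.single j 1 →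
      suAct (emb c01 x) (Pi.single 1 1) = r • Pi.single (c01 j) 1 ∧
        suAct (emb c12 x) (Pi.single 2 1) = r • Pi.single (c12 j) 1 := fun {x r j} h =>
    ⟨by rw [← c01_one, suAct_emb_single, h, map_smul, ext_single],
      by rw [← c12_one, suAct_emb_single, h, map_smul, ext_single]⟩
  have hW1' : suAct W (Pi.single 1 1) = (1 : F) • Pi.single 0 1 := by rw [hW1, one_smul]
  have hmW0 : suAct (negTwo hF * W) (Pi.single 0 1) = (1 : F) • Pi.single 1 1 := by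
    rw [suAct_mul, hW0, suAct_smul, m1, smul_smul]; norm_num
  have hmW1 : suAct (negTwo hF * W) (Pi.single 1 1) = (-1 : F) • Pi.single 0 1 := by
    rw [suAct_mul, hW1, m0]
  simp only [c01_zero, c01_one, c12_zero, c12_one] at *
  refine ⟨?_, ?_, ?_, ?_⟩
  · rw [mul_inv_eq_iff_eq_mul]
    refine su_ext_single fun j => ?_
    fin_cases j <;>
      simp [suAct_mul, suAct_smul, suAct_neg' hF, n01_0, n12_0, (a0 m0).1, (a0 m0).2, (a1 m1).1, (a1 m1).2,
        (a0 hW0).1, (a0 hW0).2, (a1 hW1').1, (a1 hW1').2, c01_zero, c01_one, c12_zero, c12_one]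
  · refine su_ext_single fun j => ?_
    fin_cases j <;>
      simp [suAct_mul, suAct_smul, suAct_neg' hF, n01_0, n12_0, (a0 m0).1, (a0 m0).2, (a1 m1).1, (a1 m1).2,
        (a0 hta).1, (a0 hta).2, (a1 htc).1, (a1 htc).2, c01_zero, c01_one, c12_zero, c12_one]
  · refine su_ext_single fun j => ?_
    fin_cases j <;>
      simp [suAct_mul, suAct_smul, suAct_neg' hF, n01_0, n12_0, (a0 m0).1, (a0 m0).2, (a1 m1).1, (a1 m1).2,
        (a0 hW0).1, (a0 hW0).2, (a1 hW1').1, (a1 hW1').2, (a0 hmW0).1, (a0 hmW0).2, (a1 hmW1).1,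
        (a1 hmW1).2, c01_zero, c01_one, c12_zero, c12_one]
  · refine su_ext_single fun j => ?_
    fin_cases j <;>
      simp [suAct_mul, suAct_smul, suAct_neg' hF, n01_0, n12_0, (a0 m0).1, (a0 m0).2, (a1 m1).1, (a1 m1).2,
        (a0 hW0).1, (a0 hW0).2, (a1 hW1').1, (a1 hW1').2, (a0 hmW0).1, (a0 hmW0).2, (a1 hmW1).1,
        (a1 hmW1).2, c01_zero, c01_one, c12_zero, c12_one]

omit hF in
/-- The rotation of the four coordinates by two. -/
def rot : Fin 4 ↪ Fin 4 := ⟨fun i => i + 2, fun i j h => by simpa using h⟩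

theorem rot_involutive (x : Cfsg.SU 4 F 3) : emb rot (emb rot x) = x := by
  rw [emb_comp, show rot.trans rot = Function.Embedding.refl (Fin 4) from
    Function.Embedding.ext fun i => by fin_cases i <;> rfl, emb_refl]

theorem rot_emb {e e' : Fin 2 ↪ Fin 4} (h : ∀ i, rot (e i) = e' i) (A : Cfsg.SU 2 F 3) :
    emb rot (emb e A) = emb e' A := by
  rw [emb_comp, show e.trans rot = e' from Function.Embedding.ext h]

theorem rot_D01 : ∃ z : Cfsg.SU 4 F 3, z ∈ Subgroup.center (Cfsg.SU 4 F 3) ∧ z * z = 1 ∧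
    emb rot (D01 hF) = z * D01 hF ∧ emb rot (D12 hF) = z * D12 hF := by
  have hneg : IsUnitary 3 (-1 : Matrix (Fin 4) (Fin 4) F) := fun u v => by
    rw [Matrix.neg_mulVec, Matrix.one_mulVec, Matrix.neg_mulVec, Matrix.one_mulVec,
      (hH hF).neg_left, (hH hF).neg_right hF, neg_neg]
  set z : Cfsg.SU 4 F 3 := suOfUnitary (-1) hneg (by
    rw [Matrix.det_neg, Matrix.det_one, Fintype.card_fin]; norm_num)
  have hzs : ∀ x, suAct z x = -x := fun x => by
    show (-1 : Matrix (Fin 4) (Fin 4) F) *ᵥ x = -x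
    rw [Matrix.neg_mulVec, Matrix.one_mulVec]
  refine ⟨z, (mem_center_SU_iff hF (by omega) z).2 ⟨-1, ?_⟩, suAct_ext fun x => ?_,
    suAct_ext fun x => funext fun i => ?_, suAct_ext fun x => funext fun i => ?_⟩
  · show (-1 : Matrix (Fin 4) (Fin 4) F) = _
    rw [map_neg, map_one]
  · rw [suAct_mul, hzs, hzs, neg_neg, suAct_one]
  · rw [suAct_mul, hzs, D01, rot_emb hF (e' := d23) (by intro i; fin_cases i <;> rfl), Pi.neg_apply]
    by_cases hi : i ∈ Set.range d23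
    · rw [(suAct_emb_negTwo hF d23 x i).1 hi, (suAct_emb_negTwo hF d01 x i).2]
      rw [mem_range_shift] at hi ⊢
      omega
    · rw [(suAct_emb_negTwo hF d23 x i).2 hi, (suAct_emb_negTwo hF d01 x i).1, neg_neg]
      rw [mem_range_shift] at hi ⊢
      omega
  · let e30 : Fin 2 ↪ Fin 4 := d12.trans rot
    rw [suAct_mul, hzs, D12, emb_comp, Pi.neg_apply]
    by_cases hi : i ∈ Set.range e30
    · rw [(suAct_emb_negTwo hF e30 x i).1 hi, (suAct_emb_negTwo hF d12 x i).2]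
      obtain ⟨j, rfl⟩ := hi
      rw [mem_range_shift]
      fin_cases j <;> decide
    · rw [(suAct_emb_negTwo hF e30 x i).2 hi, (suAct_emb_negTwo hF d12 x i).1, neg_neg]
      rw [mem_range_shift]
      fin_cases i <;> first | decide | exact absurd ⟨0, rfl⟩ hi | exact absurd ⟨1, rfl⟩ hi

set_option maxHeartbeats 1000000 in
/-- A surjection from SU_4(3) onto the span of two standard pairs can be made compatible. -/
theorem exists_base_three {U V : ℕ → Subgroup G} {φ φ' : Cfsg.SU 3 F 3 →* G}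
    (hφ : IsGood φ (V 0) (U 0) (U 1)) (hφ' : IsGood φ' (V 1) (U 1) (U 2))
    (hcomm : ∀ x ∈ U 0, ∀ y ∈ U 2, x * y = y * x) (g : Cfsg.SU 4 F 3 →* G)
    (hr : g.range = V 0 ⊔ V 1) :
    ∃ ψ : Cfsg.SU (1 + 3) F 3 →* G, ChainState U V 1 ψ := by
  classical
  have h2 := two_ne_three hF
  have hV0 : V 0 ≤ g.range := hr.symm ▸ le_sup_left
  have hU0V : U 0 ≤ V 0 := by rw [← hφ.left_eq, ← hφ.range_eq]; rintro _ ⟨x, rfl⟩; exact ⟨_, rfl⟩
  have hU1V : U 1 ≤ V 0 := by rw [← hφ.right_eq, ← hφ.range_eq]; rintro _ ⟨x, rfl⟩; exact ⟨_, rfl⟩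
  have hU2V : U 2 ≤ g.range := by
    rw [hr, ← hφ'.right_eq]
    refine le_trans ?_ (le_sup_right (a := V 0))
    rw [← hφ'.range_eq]
    rintro _ ⟨x, rfl⟩
    exact ⟨_, rfl⟩
  obtain ⟨t, W, ht, hW1, hW0, htt, hWW, hWt⟩ := exists_quaternion hF
  obtain ⟨hX, hT, hC1, hC2⟩ := pattern_elements hF hW1 hW0 ht
  set X := emb c01 W * emb c12 W with hXdef
  set z₀ := φ (emb c01 (negTwo hF)) with hz0
  set z₁ := φ (emb c12 (negTwo hF)) with hz1
  have hg1 : g ≠ 1 := by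
    intro h
    apply negTwo_ne hF h2
    have hmem : z₀ ∈ g.range := hV0 (hφ.range_eq ▸ ⟨_, rfl⟩)
    rw [h] at hmem
    obtain ⟨a, ha⟩ := hmem
    exact hφ.left_inj (ha.symm.trans (map_one _).symm)
  have hker : ∀ {a b : Cfsg.SU 4 F 3}, g a = g b → a⁻¹ * b ∈ Subgroup.center (Cfsg.SU 4 F 3) :=
    fun h => ker_le_center hF g hg1 (by rw [MonoidHom.mem_ker, map_mul, map_inv, h, inv_mul_cancel])
  have hzc : ∀ {z : Cfsg.SU 4 F 3}, z ∈ Subgroup.center (Cfsg.SU 4 F 3) → ∀ y ∈ g.range,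
      g z * y = y * g z := fun hz y hy => by
    obtain ⟨y, rfl⟩ := hy
    rw [← map_mul, ← map_mul, Subgroup.mem_center_iff.1 hz y]
  -- lifts of the two involutions
  obtain ⟨P, hP⟩ : φ (emb c01 t) ∈ g.range := hV0 (hφ.range_eq ▸ ⟨_, rfl⟩)
  obtain ⟨Q, hQ⟩ : φ (emb c01 W) ∈ g.range := hV0 (hφ.range_eq ▸ ⟨_, rfl⟩)
  obtain ⟨xh, hxh⟩ : φ X ∈ g.range := hV0 (hφ.range_eq ▸ ⟨_, rfl⟩)
  set a₀ := P * Q * P⁻¹ * Q⁻¹ with ha₀
  have hga₀ : g a₀ = z₀ := by
    rw [ha₀, map_mul, map_mul, map_mul, map_inv, map_inv, hP, hQ, hz0, ← map_inv φ, ← map_inv φ,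
      ← map_mul, ← map_mul, ← map_mul, ← map_inv, ← map_inv, ← map_mul, ← map_mul, ← map_mul]
    congr 2
    rw [mul_assoc, mul_assoc, ← mul_assoc W, hWt, htt]
  have hsq : ∀ {R : Cfsg.SU 4 F 3}, g R * g R = z₀ → R * a₀ = a₀ * R := fun {R} hR => by
    have hc := hker (a := a₀) (b := R * R) (by rw [hga₀, map_mul, hR])
    set ζ := a₀⁻¹ * (R * R)
    have e : a₀ = R * R * ζ⁻¹ := by simp only [ζ]; group
    rw [e]
    calc R * (R * R * ζ⁻¹) = R * R * (R * ζ⁻¹) := by group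
      _ = R * R * (ζ⁻¹ * R) := by rw [Subgroup.mem_center_iff.1 (inv_mem hc) R]
      _ = R * R * ζ⁻¹ * R := by group
  have hPa : P * a₀ = a₀ * P := hsq (by rw [hP, ← map_mul, ← map_mul, htt])
  have hQa : Q * a₀ = a₀ * Q := hsq (by rw [hQ, ← map_mul, ← map_mul, hWW])
  have haa : a₀ * a₀ = 1 := by
    have hc := hker (a := a₀) (b := P * P) (by rw [hga₀, map_mul, hP, ← map_mul, ← map_mul, htt])
    set ζ := a₀⁻¹ * (P * P) with hζ
    have hζQ : Q * ζ = ζ * Q := Subgroup.mem_center_iff.1 hc Q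
    have hQP : Q * P * Q⁻¹ = a₀⁻¹ * P := by rw [ha₀]; group
    have h1 : Q * (P * P) * Q⁻¹ = a₀⁻¹ * a₀⁻¹ * (P * P) := by
      have hPa' : P * a₀⁻¹ = a₀⁻¹ * P := (show Commute P a₀ from hPa).inv_right.eq
      calc Q * (P * P) * Q⁻¹ = (Q * P * Q⁻¹) * (Q * P * Q⁻¹) := by group
        _ = a₀⁻¹ * (P * a₀⁻¹) * P := by rw [hQP]; group
        _ = _ := by rw [hPa']; group
    have h2' : Q * (P * P) * Q⁻¹ = P * P := by
      have e : P * P = a₀ * ζ := by rw [hζ]; group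
      rw [e]
      calc Q * (a₀ * ζ) * Q⁻¹ = (Q * a₀) * ζ * Q⁻¹ := by group
        _ = a₀ * (Q * ζ) * Q⁻¹ := by rw [hQa]; group
        _ = a₀ * ζ := by rw [hζQ]; group
    have h3 := h1.symm.trans h2'
    have h4 : a₀⁻¹ * a₀⁻¹ = 1 := mul_right_cancel (h3.trans (one_mul _).symm)
    rw [← inv_inj, mul_inv_rev, inv_one]
    exact h4
  set a₁ := xh * a₀ * xh⁻¹ with ha₁
  have hga₁ : g a₁ = z₁ := by
    rw [ha₁, map_mul, map_mul, map_inv, hga₀, hxh, hz0, hz1, ← map_inv, ← map_mul, ← map_mul, hX]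
  have haa₁ : a₁ * a₁ = 1 := by
    rw [ha₁]
    calc xh * a₀ * xh⁻¹ * (xh * a₀ * xh⁻¹) = xh * (a₀ * a₀) * xh⁻¹ := by group
      _ = 1 := by rw [haa]; group
  have hab : a₀ * a₁ = a₁ * a₀ := by
    have hc0 := hker (a := a₁ * P) (b := P * a₁) (by
      rw [map_mul g a₁ P, map_mul g P a₁, hga₁, hP, hz1, ← map_mul, ← map_mul, hT])
    set ξ := (a₁ * P)⁻¹ * (P * a₁)
    have hξ : P * a₁ = a₁ * P * ξ := by simp only [ξ]; group
    have hξc : ∀ y, y * ξ = ξ * y := Subgroup.mem_center_iff.1 hc0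
    have e1 : P * a₁ * P⁻¹ = a₁ * ξ := by
      rw [hξ]
      calc a₁ * P * ξ * P⁻¹ = a₁ * (P * ξ) * P⁻¹ := by group
        _ = a₁ * ξ := by rw [hξc]; group
    have hξ2 : ξ * ξ = 1 := by
      have : a₁ * ξ * (a₁ * ξ) = 1 := by
        rw [← e1]
        calc P * a₁ * P⁻¹ * (P * a₁ * P⁻¹) = P * (a₁ * a₁) * P⁻¹ := by group
          _ = 1 := by rw [haa₁]; group
      calc ξ * ξ = (a₁ * a₁) * (ξ * ξ) := by rw [haa₁, one_mul]
        _ = a₁ * (a₁ * ξ) * ξ := by group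
        _ = a₁ * (ξ * a₁) * ξ := by rw [hξc a₁]
        _ = a₁ * ξ * (a₁ * ξ) := by group
        _ = 1 := this
    have e2 : P * P * a₁ = a₁ * (P * P) := by
      calc P * P * a₁ = P * (P * a₁ * P⁻¹) * P := by group
        _ = P * (a₁ * ξ) * P := by rw [e1]
        _ = (P * a₁ * P⁻¹) * (P * ξ * P) := by group
        _ = a₁ * ξ * (P * ξ * P) := by rw [e1]
        _ = a₁ * ξ * (ξ * P * P) := by rw [hξc P]
        _ = a₁ * (ξ * ξ) * (P * P) := by group
        _ = a₁ * (P * P) := by rw [hξ2, mul_one]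
    have hc := hker (a := a₀) (b := P * P) (by rw [hga₀, map_mul, hP, ← map_mul, ← map_mul, htt])
    set ζ := a₀⁻¹ * (P * P) with hζ
    have e : a₀ = P * P * ζ⁻¹ := by rw [hζ]; group
    have hζ' : ∀ y, y * ζ⁻¹ = ζ⁻¹ * y := Subgroup.mem_center_iff.1 (inv_mem hc)
    rw [e]
    calc P * P * ζ⁻¹ * a₁ = P * P * (ζ⁻¹ * a₁) := by group
      _ = P * P * a₁ * ζ⁻¹ := by rw [← hζ' a₁]; group
      _ = a₁ * (P * P * ζ⁻¹) := by rw [e2]; group
  have hnc0 : a₀ ∉ Subgroup.center (Cfsg.SU 4 F 3) := fun hc => by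
    have h := hzc hc (φ (emb c12 W)) (hV0 (hφ.range_eq ▸ ⟨_, rfl⟩))
    rw [hga₀, hz0, ← map_mul, hC1, map_mul] at h
    have h' := hφ.right_inj (mul_right_cancel h)
    exact negTwo_ne hF h2 (mul_eq_right.1 h')
  have hnc1 : a₁ ∉ Subgroup.center (Cfsg.SU 4 F 3) := fun hc => by
    have h := hzc hc (φ (emb c01 W)) (hV0 (hφ.range_eq ▸ ⟨_, rfl⟩))
    rw [hga₁, hz1, ← map_mul, hC2, map_mul] at h
    have h' := hφ.left_inj (mul_right_cancel h)
    exact negTwo_ne hF h2 (mul_eq_right.1 h')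
  have hnc01 : a₀ * a₁ ∉ Subgroup.center (Cfsg.SU 4 F 3) := fun hc => by
    have h := hzc hc (φ (emb c01 W)) (hV0 (hφ.range_eq ▸ ⟨_, rfl⟩))
    rw [map_mul, hga₀, hga₁] at h
    have e : z₀ * z₁ * φ (emb c01 W) =
        φ (emb c01 (negTwo hF * (negTwo hF * W))) * z₁ := by
      rw [mul_assoc, hz1, ← map_mul φ (emb c12 _), hC2, map_mul φ, hz0, ← mul_assoc, ← map_mul φ,
        ← map_mul (emb c01)]
    have e' : φ (emb c01 W) * (z₀ * z₁) = φ (emb c01 (W * negTwo hF)) * z₁ := by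
      rw [hz0, ← mul_assoc, ← map_mul φ, ← map_mul (emb c01)]
    have h' := hφ.left_inj (e.symm.trans (h.trans e') |> mul_right_cancel)
    refine negTwo_ne hF h2 ?_
    rw [← negTwo_comm hF W] at h'
    exact mul_eq_right.1 (mul_left_cancel h')
  obtain ⟨Φ, hΦ0, hΦ1⟩ := exists_frame hF h2 haa haa₁ hab hnc0 hnc1 hnc01
  set g₁ := g.comp Φ.toMonoidHom with hg₁
  have hr1 : g₁.range = g.range := by
    rw [hg₁, MonoidHom.range_comp, MonoidHom.range_eq_top.2 Φ.surjective, ← MonoidHom.range_eq_map]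
  have hg₁1 : g₁ ≠ 1 := fun h => hg1 (MonoidHom.ext fun x => by
    have := DFunLike.congr_fun h (Φ.symm x)
    rwa [hg₁, MonoidHom.comp_apply, MulEquiv.coe_toMonoidHom, Φ.apply_symm_apply] at this)
  have hg₁D : g₁ (D01 hF) = z₀ := by
    show g (Φ (D01 hF)) = z₀
    rw [hΦ0, hga₀]
  -- z₀ commutes with both subgroups
  have hz0U0 : ∀ y ∈ U 0, z₀ * y = y * z₀ := fun y hy => by
    rw [← hφ.left_eq] at hy
    obtain ⟨x, rfl⟩ := hy
    rw [hz0, MonoidHom.comp_apply, ← map_mul, ← map_mul, ← map_mul, ← map_mul, negTwo_comm hF]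
  have hz0U2 : ∀ y ∈ U 2, z₀ * y = y * z₀ := hcomm z₀ (hφ.left_eq ▸ ⟨_, rfl⟩)
  have hsplit : ∀ v : Cfsg.SU 4 F 3, v ^ 3 = 1 → g₁ v ∈ U 0 ∨ g₁ v ∈ U 2 →
      ∃ A B : Cfsg.SU 2 F 3, v = emb d01 A * emb d23 B ∧ A ^ 3 = 1 ∧ B ^ 3 = 1 := fun v hv hU => by
    refine exists_pair_of_comm hF h2 (cube_root hF) hv (lift_comm hF g₁ hg₁1 hv ?_)
    rw [hg₁D]
    rcases hU with h | h
    · exact (hz0U0 _ h).symm
    · exact (hz0U2 _ h).symm
  have hcomp : ∀ {v w : Cfsg.SU 4 F 3} {A B C E' : Cfsg.SU 2 F 3}, v = emb d01 A * emb d23 B →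
      w = emb d01 C * emb d23 E' → v * w = w * v → A * C = C * A ∧ B * E' = E' * B := by
    intro v w A B C E' hv hw h
    have hdis : ∀ a b : Cfsg.SU 2 F 3, emb d23 a * emb d01 b = (emb d01 b * emb d23 a : Cfsg.SU 4 F 3) :=
      fun a b => emb_commute d23 d01 (fun i j e => by
        have := congrArg Fin.val e
        simp only [shift_val] at this
        omega) a b
    have hprod : ∀ a b a' b' : Cfsg.SU 2 F 3,
        (emb d01 a * emb d23 b) * (emb d01 a' * emb d23 b') =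
          (emb d01 (a * a') * emb d23 (b * b') : Cfsg.SU 4 F 3) := fun a b a' b' => by
      rw [map_mul, map_mul, mul_assoc, ← mul_assoc (emb d23 b), hdis, mul_assoc, mul_assoc]
    rw [hv, hw, hprod, hprod] at h
    exact emb_pair_injective h
  have hU0r : U 0 ≤ g₁.range := hr1 ▸ hU0V.trans hV0
  have hU2r : U 2 ≤ g₁.range := hr1 ▸ hU2V
  obtain ⟨x, y, hx3, hy3, hxy⟩ := exists_three_noncomm hF
  have lift : ∀ (a : Cfsg.SU 2 F 3 →* G) (z : Cfsg.SU 2 F 3), a.range ≤ g₁.range → z ^ 3 = 1 →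
      ∃ v : Cfsg.SU 4 F 3, v ^ 3 = 1 ∧ g₁ v = a z := fun a z hle hz =>
    exists_lift_three hF g₁ hg₁1 (hle ⟨z, rfl⟩) (by rw [← map_pow, hz, map_one])
  have hcUU : ∀ v w : Cfsg.SU 4 F 3, v ^ 3 = 1 → g₁ v ∈ U 0 → g₁ w ∈ U 2 → v * w = w * v :=
    fun v w hv hv0 hw2 => lift_comm hF g₁ hg₁1 hv (hcomm _ hv0 _ hw2)
  -- which side is which
  obtain ⟨Φ', hB0, hB2, hx'⟩ : ∃ Φ' : Cfsg.SU 4 F 3 ≃* Cfsg.SU 4 F 3,
      U 0 ≤ (emb d01 : Cfsg.SU 2 F 3 →* _).range.map (g₁.comp Φ'.toMonoidHom) ∧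
        U 2 ≤ (emb d23 : Cfsg.SU 2 F 3 →* _).range.map (g₁.comp Φ'.toMonoidHom) ∧
        Φ.symm xh * Φ' (D01 hF) * (Φ.symm xh)⁻¹ = Φ' (D12 hF) := by
    obtain ⟨vx, hvx, hgx⟩ := lift (φ.comp (emb c01)) x (hφ.left_eq.symm ▸ hU0r) hx3
    obtain ⟨vy, hvy, hgy⟩ := lift (φ.comp (emb c01)) y (hφ.left_eq.symm ▸ hU0r) hy3
    obtain ⟨wx, hwx, hgwx⟩ := lift (φ'.comp (emb c12)) x (hφ'.right_eq.symm ▸ hU2r) hx3
    obtain ⟨wy, hwy, hgwy⟩ := lift (φ'.comp (emb c12)) y (hφ'.right_eq.symm ▸ hU2r) hy3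
    have hx0 : g₁ vx ∈ U 0 := hgx ▸ hφ.left_eq ▸ ⟨x, rfl⟩
    have hy0 : g₁ vy ∈ U 0 := hgy ▸ hφ.left_eq ▸ ⟨y, rfl⟩
    have hwx2 : g₁ wx ∈ U 2 := hgwx ▸ hφ'.right_eq ▸ ⟨x, rfl⟩
    have hwy2 : g₁ wy ∈ U 2 := hgwy ▸ hφ'.right_eq ▸ ⟨y, rfl⟩
    obtain ⟨A₁, B₁, hv1, hA1, hB1⟩ := hsplit vx hvx (Or.inl hx0)
    obtain ⟨A₂, B₂, hv2, hA2, hB2⟩ := hsplit vy hvy (Or.inl hy0)
    obtain ⟨C₁, E₁, hw1, hC1', hE1⟩ := hsplit wx hwx (Or.inr hwx2)
    obtain ⟨C₂, E₂, hw2, hC2', hE2⟩ := hsplit wy hwy (Or.inr hwy2)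
    have hpair : ∀ {a b : Cfsg.SU 2 F 3}, (emb d23 a : Cfsg.SU 4 F 3) * emb d01 b =
        emb d01 b * emb d23 a := fun {a b} => emb_commute d23 d01 (fun i j e => by
        have := congrArg Fin.val e
        simp only [shift_val] at this
        omega) a b
    have hnv : ¬(A₁ * A₂ = A₂ * A₁ ∧ B₁ * B₂ = B₂ * B₁) := fun h => hxy (hφ.left_inj (by
      rw [map_mul, map_mul, ← hgx, ← hgy, ← map_mul, ← map_mul]
      congr 1
      rw [hv1, hv2, mul_assoc, ← mul_assoc (emb d23 B₁), hpair, mul_assoc (emb d01 A₂),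
        ← mul_assoc, ← map_mul, ← map_mul, h.1, h.2, map_mul, map_mul,
        mul_assoc (emb d01 A₂) (emb d01 A₁), ← mul_assoc (emb d01 A₁), ← hpair, mul_assoc,
        mul_assoc]))
    have hnw : ¬(C₁ * C₂ = C₂ * C₁ ∧ E₁ * E₂ = E₂ * E₁) := fun h => hxy (hφ'.right_inj (by
      rw [map_mul, map_mul, ← hgwx, ← hgwy, ← map_mul, ← map_mul]
      congr 1
      rw [hw1, hw2, mul_assoc, ← mul_assoc (emb d23 E₁), hpair, mul_assoc (emb d01 C₂),
        ← mul_assoc, ← map_mul, ← map_mul, h.1, h.2, map_mul, map_mul,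
        mul_assoc (emb d01 C₂) (emb d01 C₁), ← mul_assoc (emb d01 C₁), ← hpair, mul_assoc,
        mul_assoc]))
    by_cases hA : A₁ * A₂ = A₂ * A₁
    · -- the second side
      have hB : B₁ * B₂ ≠ B₂ * B₁ := fun h => hnv ⟨hA, h⟩
      have hE : ∀ {w : Cfsg.SU 4 F 3} {C E' : Cfsg.SU 2 F 3}, w ^ 3 = 1 → g₁ w ∈ U 2 →
          w = emb d01 C * emb d23 E' → E' ^ 3 = 1 → E' = 1 := fun {w C E'} hw hwU hwe hE' =>
        three_centralizer hF hB1 hB2 hE' (hcomp hv1 hwe (hcUU _ _ hvx hx0 hwU)).2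
          (hcomp hv2 hwe (hcUU _ _ hvy hy0 hwU)).2 hB
      have hCne : C₁ * C₂ ≠ C₂ * C₁ := fun h => hnw ⟨h, by
        rw [hE hwx hwx2 hw1 hE1, hE hwy hwy2 hw2 hE2]⟩
      refine ⟨{ toFun := emb rot, invFun := emb rot, left_inv := rot_involutive hF,
                right_inv := rot_involutive hF, map_mul' := map_mul _ }, ?_, ?_, ?_⟩
      · refine le_block hF _ ?_ _ hφ.left_eq ?_ _ ?_
        · intro h
          apply hg₁1
          ext v
          have := DFunLike.congr_fun h (emb rot v)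
          simpa [rot_involutive hF] using this
        · intro u hu
          obtain ⟨v, rfl⟩ := hU0r hu
          exact ⟨emb rot v, congrArg g₁ (rot_involutive hF v)⟩
        · intro v hv hgv
          have hv' : (emb rot v) ^ 3 = 1 := by rw [← map_pow, hv, map_one]
          obtain ⟨A, B, hAB, hA3, -⟩ := hsplit _ hv' (Or.inl hgv)
          have hA1' : A = 1 := three_centralizer hF hC1' hC2' hA3
            (hcomp hAB hw1 (hcUU _ _ hv' hgv hwx2)).1.symm
            (hcomp hAB hw2 (hcUU _ _ hv' hgv hwy2)).1.symm hCne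
          rw [hA1', map_one, one_mul] at hAB
          refine ⟨B, ?_⟩
          rw [← rot_involutive hF v, hAB, rot_emb hF (e' := d01) (by intro i; fin_cases i <;> rfl)]
      · refine le_block hF _ ?_ _ hφ'.right_eq ?_ _ ?_
        · intro h
          apply hg₁1
          ext v
          have := DFunLike.congr_fun h (emb rot v)
          simpa [rot_involutive hF] using this
        · intro u hu
          obtain ⟨v, rfl⟩ := hU2r hu
          exact ⟨emb rot v, congrArg g₁ (rot_involutive hF v)⟩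
        · intro v hv hgv
          have hv' : (emb rot v) ^ 3 = 1 := by rw [← map_pow, hv, map_one]
          obtain ⟨C, E', hCE, -, hE'3⟩ := hsplit _ hv' (Or.inr hgv)
          rw [hE hv' hgv hCE hE'3, map_one, mul_one] at hCE
          refine ⟨C, ?_⟩
          rw [← rot_involutive hF v, hCE, rot_emb hF (e' := d23) (by intro i; fin_cases i <;> rfl)]
      · obtain ⟨z, hz, hzz, hr0, hr1'⟩ := rot_D01 hF
        show Φ.symm xh * emb rot (D01 hF) * (Φ.symm xh)⁻¹ = emb rot (D12 hF)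
        rw [hr0, hr1']
        have hx0' : Φ.symm xh * D01 hF * (Φ.symm xh)⁻¹ = D12 hF := by
          apply Φ.injective
          rw [map_mul, map_mul, map_inv, Φ.apply_symm_apply, hΦ0, hΦ1, ha₁]
        calc Φ.symm xh * (z * D01 hF) * (Φ.symm xh)⁻¹
            = (Φ.symm xh * z) * D01 hF * (Φ.symm xh)⁻¹ := by group
          _ = z * (Φ.symm xh * D01 hF * (Φ.symm xh)⁻¹) := by
              rw [Subgroup.mem_center_iff.1 hz (Φ.symm xh)]; group
          _ = z * D12 hF := by rw [hx0']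
    · -- the first side
      have hC : ∀ {w : Cfsg.SU 4 F 3} {C E' : Cfsg.SU 2 F 3}, w ^ 3 = 1 → g₁ w ∈ U 2 →
          w = emb d01 C * emb d23 E' → C ^ 3 = 1 → C = 1 := fun {w C E'} hw hwU hwe hC' =>
        three_centralizer hF hA1 hA2 hC' (hcomp hv1 hwe (hcUU _ _ hvx hx0 hwU)).1
          (hcomp hv2 hwe (hcUU _ _ hvy hy0 hwU)).1 hA
      have hEne : E₁ * E₂ ≠ E₂ * E₁ := fun h => hnw ⟨by
        rw [hC hwx hwx2 hw1 hC1', hC hwy hwy2 hw2 hC2'], h⟩
      refine ⟨MulEquiv.refl _, le_block hF _ ?_ _ hφ.left_eq ?_ _ ?_,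
        le_block hF _ ?_ _ hφ'.right_eq ?_ _ ?_, ?_⟩
      · exact hg₁1
      · exact hU0r
      · intro v hv hgv
        obtain ⟨A, B, hAB, -, hB3⟩ := hsplit v hv (Or.inl hgv)
        have hB1' : B = 1 := three_centralizer hF hE1 hE2 hB3
          (hcomp hAB hw1 (hcUU _ _ hv hgv hwx2)).2.symm
          (hcomp hAB hw2 (hcUU _ _ hv hgv hwy2)).2.symm hEne
        rw [hB1', map_one, mul_one] at hAB
        exact ⟨A, hAB.symm⟩
      · exact hg₁1
      · exact hU2r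
      · intro v hv hgv
        obtain ⟨C, E', hCE, hC'3, -⟩ := hsplit v hv (Or.inr hgv)
        rw [hC hv hgv hCE hC'3, map_one, one_mul] at hCE
        exact ⟨E', hCE.symm⟩
      · show Φ.symm xh * D01 hF * (Φ.symm xh)⁻¹ = D12 hF
        apply Φ.injective
        rw [map_mul, map_mul, map_inv, Φ.apply_symm_apply, hΦ0, hΦ1, ha₁]
  set g₂ := g₁.comp Φ'.toMonoidHom with hg₂
  have hr2 : g₂.range = g.range := by
    rw [hg₂, MonoidHom.range_comp, MonoidHom.range_eq_top.2 Φ'.surjective, ← MonoidHom.range_eq_map,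
      hr1]
  have hcard0 : Nat.card (U 0) = Nat.card (Cfsg.SU 2 F 3) := by
    rw [← hφ.left_eq]; exact (Nat.card_congr (MonoidHom.ofInjective hφ.left_inj).toEquiv).symm
  have hcard1 : Nat.card (U 1) = Nat.card (Cfsg.SU 2 F 3) := by
    rw [← hφ.right_eq]; exact (Nat.card_congr (MonoidHom.ofInjective hφ.right_inj).toEquiv).symm
  have hcard2 : Nat.card (U 2) = Nat.card (Cfsg.SU 2 F 3) := by
    rw [← hφ'.right_eq]; exact (Nat.card_congr (MonoidHom.ofInjective hφ'.right_inj).toEquiv).symm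
  obtain ⟨h0e, h0i⟩ := block_eq hF g₂ hcard0 hB0
  obtain ⟨h2e, h2i⟩ := block_eq hF g₂ hcard2 hB2
  set xh₂ := Φ'.symm (Φ.symm xh)
  have hxh₂ : g₂ xh₂ = φ X := by
    show g (Φ (Φ' (Φ'.symm (Φ.symm xh)))) = φ X
    rw [Φ'.apply_symm_apply, Φ.apply_symm_apply, hxh]
  have hxD : xh₂ * D01 hF * xh₂⁻¹ = D12 hF := by
    apply Φ'.injective
    rw [map_mul, map_mul, map_inv, Φ'.apply_symm_apply, hx']
  have hU1 : U 1 ≤ (emb d12 : Cfsg.SU 2 F 3 →* _).range.map g₂ := by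
    have hsur : U 1 ≤ (U 0).map (MulAut.conj (φ X)).toMonoidHom := by
      rw [← hφ.right_eq, ← hφ.left_eq]
      rintro _ ⟨y', rfl⟩
      obtain ⟨k, hk⟩ : X⁻¹ * emb c12 y' * X ∈ (emb c01 : Cfsg.SU 2 F 3 →* _).range := by
        rw [mem_range_emb_iff hF]
        intro i hi
        rw [mem_range_shift] at hi
        have h2i : i = 2 := Fin.ext (by simp; omega)
        subst h2i
        have hX2 : suAct X (Pi.single 2 1) = Pi.single 0 1 := by
          rw [hXdef, suAct_mul, ← c12_one, suAct_emb_single, hW1, ext_single, c12_zero, ← c01_one,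
            suAct_emb_single, hW1, ext_single, c01_zero]
        rw [suAct_mul, suAct_mul, hX2, suAct_emb_single_off hF _ _ (by rw [mem_range_shift]; simp),
          suAct_inv_of hX2]
      refine ⟨φ (emb c01 k), ⟨k, rfl⟩, ?_⟩
      show φ X * φ (emb c01 k) * (φ X)⁻¹ = φ (emb c12 y')
      rw [← map_inv, ← map_mul, ← map_mul, hk]
      congr 1
      group
    refine hsur.trans ?_
    rintro _ ⟨u, hu, rfl⟩
    obtain ⟨_, ⟨k, rfl⟩, rfl⟩ := hB0 hu
    refine ⟨xh₂ * emb d01 k * xh₂⁻¹, ?_, ?_⟩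
    · rw [SetLike.mem_coe, mem_range_emb_iff hF]
      intro j hj
      set v := suAct xh₂⁻¹ (Pi.single j 1)
      have hv : suAct (D01 hF) v = v := by
        have e : D01 hF * xh₂⁻¹ = xh₂⁻¹ * D12 hF := by rw [← hxD]; group
        show suAct (D01 hF) (suAct xh₂⁻¹ _) = _
        rw [← suAct_mul, e, suAct_mul]
        congr 1
        funext i
        by_cases hi : i ∈ Set.range d12
        · rw [D12, (suAct_emb_negTwo hF d12 _ i).1 hi,
            Pi.single_eq_of_ne (fun (e : i = j) => hj (e ▸ hi)), neg_zero]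
        · exact (suAct_emb_negTwo hF d12 _ i).2 hi
      have hv0 : ∀ i, i ∈ Set.range d01 → v i = 0 := fun i hi => by
        have h := congrFun hv i
        rw [D01, (suAct_emb_negTwo hF d01 v i).1 hi] at h
        exact (mul_eq_zero.1 (show (2 : F) * v i = 0 by linear_combination -h)).resolve_left h2
      have hkv : suAct (emb d01 k) v = v := by
        funext i
        by_cases hi : i ∈ Set.range d01
        · obtain ⟨l, rfl⟩ := hi
          rw [suAct_emb_on, show v ∘ d01 = 0 from funext fun l => hv0 _ ⟨l, rfl⟩, suAct_zero,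
            hv0 _ ⟨l, rfl⟩]
          rfl
        · exact suAct_emb_off d01 k v hi
      rw [suAct_mul, suAct_mul, hkv]
      exact suAct_suAct_inv _ _
    · show g₂ _ = φ X * g₁.comp Φ'.toMonoidHom (emb d01 k) * (φ X)⁻¹
      rw [map_mul, map_mul, map_inv, hxh₂]
  obtain ⟨h1e, h1i⟩ := block_eq hF g₂ hcard1 hU1
  refine ⟨g₂, fun i hi => ?_, ?_, fun i hi => ?_⟩
  · rcases (show i = 0 ∨ i = 1 ∨ i = 2 by omega) with rfl | rfl | rfl
    · exact h0e
    · exact h1e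
    · exact h2e
  · have e01 : (g₂.comp (emb (shift 1 3 4 le_rfl))).comp (emb c01) = g₂.comp (emb d12) := by
      rw [MonoidHom.comp_assoc, emb_comp_hom, shift_trans]
    have e12 : (g₂.comp (emb (shift 1 3 4 le_rfl))).comp (emb c12) = g₂.comp (emb d23) := by
      rw [MonoidHom.comp_assoc, emb_comp_hom, shift_trans]
    refine ⟨?_, by rw [e01, h1e], by rw [e12, h2e], by rw [e01]; exact h1i, by rw [e12]; exact h2i⟩
    rw [range_eq_sup hF le_rfl, e01, e12, h1e, h2e, ← hφ'.range_eq, range_eq_sup hF le_rfl,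
      hφ'.left_eq, hφ'.right_eq]
  · rw [hr2, hr]
    rcases (show i = 0 ∨ i = 1 by omega) with rfl | rfl
    · exact le_sup_left
    · exact le_sup_right

end Cfsg.Agent.Phan
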