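/-
SU_2 and SU_3 over four elements.

* `two_cases`, `two_tor_cases`: the six elements of SU_2(2).
* `shift_mem`, `pow_four_mem`, `conj_shift_mem`: the subgroup generated by the two blocks of SU_3(2).
* `eq_id_of_blocks`: an endomorphism fixing both blocks is trivial.
* `exists_twist_of_blocks`: an injective endomorphism preserving both blocks is a twist.
* `injective_or_kills`: a parametrisation injective on the blocks is injective unless it kills the
  scalar.
-/
import Cfsg.Agent.Lib.Phan.Align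
import Cfsg.Agent.Lib.Phan.Frame
import Cfsg.Agent.Lib.Unitary.Small32

set_option autoImplicit false

namespace Cfsg.Agent.Phan

open Cfsg.Agent.Unitary
open scoped Matrix

variable {F : Type*} [Field F] [Fintype F] (hF : Fintype.card F = 2 ^ 2)
include hF

theorem char_two : CharP F 2 := by
  obtain ⟨p, m, hp, hc, hpm, hm⟩ := exists_prime_pow (F := F) hF
  have h : p ∣ 2 := by rw [hpm]; exact dvd_pow_self p (by omega)
  rwa [(Nat.prime_dvd_prime_iff_eq hp Nat.prime_two).1 h] at hc

theorem add_self_two (a : F) : a + a = 0 := by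
  have := char_two hF
  exact CharTwo.add_self_eq_zero a

theorem neg_two (a : F) : -a = a := neg_eq_of_add_eq_zero_left (add_self_two hF a)

theorem cube_two {a : F} (ha : a ≠ 0) : a ^ 3 = 1 := by
  have h := FiniteField.pow_card_sub_one_eq_one a ha
  rw [hF] at h
  exact h

theorem norm_two {a : F} (ha : a ≠ 0) : a ^ (2 + 1) = 1 := cube_two hF ha

theorem sq_one_two {a : F} (h : a * a = 1) : a = 1 := by
  rcases mul_self_eq_one_iff.1 h with h' | h'
  · exact h'
  · rw [h', neg_two hF]

theorem sum_norm_two {a b : F} (h : a ^ 3 + b ^ 3 = 1) : a = 0 ∨ b = 0 := by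
  by_contra hcon
  rw [not_or] at hcon
  rw [cube_two hF hcon.1, cube_two hF hcon.2, add_self_two hF] at h
  exact zero_ne_one h

theorem exists_omega : ∃ ω : F, ω ^ 3 = 1 ∧ ω ≠ 1 ∧ ω ≠ 0 ∧ ω ^ 2 + ω + 1 = 0 ∧
    ∀ a : F, a ≠ 0 → a = 1 ∨ a = ω ∨ a = ω * ω := by
  classical
  obtain ⟨ω, hω, hord⟩ := exists_norm_one_gen hF
  have h1 : ω ≠ 1 := fun e => by rw [e, orderOf_one] at hord; omega
  have h0 : ω ≠ 0 := fun e => by simp [e] at hω
  have h2 : ω ^ 2 + ω + 1 = 0 := by
    have : (ω - 1) * (ω ^ 2 + ω + 1) = 0 := by linear_combination hω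
    exact (mul_eq_zero.1 this).resolve_left (sub_ne_zero.2 h1)
  refine ⟨ω, hω, h1, h0, h2, fun a ha => ?_⟩
  have h : (a - 1) * ((a - ω) * (a - ω * ω)) = 0 := by
    linear_combination cube_two hF ha + (a - a ^ 2) * h2 + (a - 1) * hω
  rcases mul_eq_zero.1 h with h' | h'
  · exact Or.inl (sub_eq_zero.1 h')
  rcases mul_eq_zero.1 h' with h'' | h''
  · exact Or.inr (Or.inl (sub_eq_zero.1 h''))
  · exact Or.inr (Or.inr (sub_eq_zero.1 h''))

/-- Elements of SU_2(2) are diagonal or antidiagonal. -/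
theorem two_cases (x : Cfsg.SU 2 F 2) : x ∈ tor ∨ mat x 0 0 = 0 := by
  rcases sum_norm_two hF (su_two_norm hF x) with h | h
  · exact Or.inr h
  · left
    rw [tor_iff hF, (su_two_entries hF x).2, h]
    simp

theorem anti_sq {x : Cfsg.SU 2 F 2} (hx : mat x 0 0 = 0) : x * x = 1 := by
  obtain ⟨h11, h01⟩ := su_two_entries hF x
  have hn := su_two_norm hF x
  rw [hx, zero_pow (by norm_num), zero_add] at hn
  refine su_two_ext hF (funext fun i => ?_)
  rw [← mat_eq_suAct, ← mat_eq_suAct, mat_mul, mat_one, Matrix.mul_apply, Fin.sum_univ_two]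
  fin_cases i
  · have e : mat x 0 1 = mat x 1 0 ^ 2 := by rw [h01, neg_two hF]
    simp [hx, e, Matrix.one_apply]
    linear_combination hn
  · simp [h11, hx]

omit [Fintype F] hF in
theorem anti_ne_one {x : Cfsg.SU 2 F 2} (hx : mat x 0 0 = 0) : x ≠ 1 := fun e => by
  rw [e, mat_one] at hx
  simp at hx

theorem mem_tor_of_cube {x : Cfsg.SU 2 F 2} (hx : x ^ 3 = 1) : x ∈ tor := by
  rcases two_cases hF x with h | h
  · exact h
  · rw [pow_succ, pow_two, anti_sq hF h, one_mul] at hx
    exact absurd hx (anti_ne_one h)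

theorem anti_inverts {x t : Cfsg.SU 2 F 2} (hx : mat x 0 0 = 0) (ht : t ∈ tor) :
    x * t * x = t⁻¹ := by
  have htd := (tor_iff hF t).1 ht
  have ht10 : mat t 1 0 = 0 := by
    have := (su_two_entries hF t).2
    rw [htd, eq_comm, neg_eq_zero, pow_q_eq_zero hF] at this
    exact this
  have h : mat (x * t) 0 0 = 0 := by
    rw [mat_mul, Matrix.mul_apply, Fin.sum_univ_two, hx, ht10]; ring
  have h2 := anti_sq hF h
  rw [eq_inv_iff_mul_eq_one]
  rw [show x * t * x * t = (x * t) * (x * t) by group, h2]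

theorem tor_cube {t : Cfsg.SU 2 F 2} (ht : t ∈ tor) : t ^ 3 = 1 := by
  have hd := tor_diag hF ht
  refine mat_injective ?_
  have hn := su_two_norm hF t
  have h10 : mat t 1 0 = 0 := by rw [hd]; simp
  rw [h10, zero_pow (by norm_num), add_zero] at hn
  have h11 := (su_two_entries hF t).1
  show mat (t ^ 3) = 1
  rw [pow_succ, pow_two, mat_mul, mat_mul, hd, Matrix.diagonal_mul_diagonal,
    Matrix.diagonal_mul_diagonal, ← Matrix.diagonal_one]
  congr 1
  funext i
  fin_cases i
  · show mat t 0 0 * mat t 0 0 * mat t 0 0 = 1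
    linear_combination hn
  · show mat t 1 1 * mat t 1 1 * mat t 1 1 = 1
    rw [h11]
    linear_combination (mat t 0 0 ^ (2 + 1) + 1) * hn

/-- An element with a given diagonal. -/
theorem exists_diag {n : ℕ} (u : Fin n → F) (hu : ∀ i, u i ≠ 0) (hd : ∏ i, u i = 1) :
    ∃ g : Cfsg.SU n F 2, mat g = Matrix.diagonal u :=
  ⟨suOfUnitary (Matrix.diagonal u) (isUnitary_diag hF fun i => norm_two hF (hu i))
    (by rw [Matrix.det_diagonal, hd]), rfl⟩

/-- The two generators of SU_2(2). -/
theorem exists_gens : ∃ (ω : F) (T S : Cfsg.SU 2 F 2), ω ^ 3 = 1 ∧ ω ≠ 1 ∧ ω ≠ 0 ∧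
    mat T = Matrix.diagonal ![ω, ω * ω] ∧ T ∈ tor ∧ T ≠ 1 ∧ mat S 0 0 = 0 ∧
    suAct S (Pi.single 1 1) = Pi.single 0 1 ∧ suAct S (Pi.single 0 1) = Pi.single 1 1 ∧
    ∀ t : Cfsg.SU 2 F 2, t ∈ tor → t = 1 ∨ t = T ∨ t = T * T := by
  obtain ⟨ω, h3, h1, h0, -, hall⟩ := exists_omega hF
  obtain ⟨T, hT⟩ := exists_diag hF ![ω, ω * ω] (by intro i; fin_cases i <;> simp [h0])
    (by rw [Fin.prod_univ_two]; simp only [Matrix.cons_val_zero, Matrix.cons_val_one];
        linear_combination h3)
  obtain ⟨S, hS1, hS0⟩ := exists_swap_two hF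
  rw [neg_two hF, one_smul] at hS0
  refine ⟨ω, T, S, h3, h1, h0, hT, (tor_iff hF T).2 (by rw [hT]; simp), fun e => h1 ?_,
    by simp [mat_eq_suAct, hS0], hS1, hS0, fun t ht => ?_⟩
  · rw [e, mat_one] at hT
    simpa using (congrFun (congrFun hT 0) 0).symm
  · have hd := tor_diag hF ht
    have h10 : mat t 1 0 = 0 := by rw [hd]; simp
    have hn : mat t 0 0 ≠ 0 := fun e => by
      have := su_two_norm hF t
      simp [e, h10] at this
    have key : ∀ u : Cfsg.SU 2 F 2, mat u 1 0 = 0 → mat t 0 0 = mat u 0 0 → t = u := fun u h h' =>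
      su_two_ext hF (funext fun i => by
        rw [← mat_eq_suAct, ← mat_eq_suAct]
        fin_cases i
        · exact h'
        · exact h10.trans h.symm)
    have hTT : mat (T * T) = Matrix.diagonal ![ω * ω, ω] := by
      rw [mat_mul, hT, Matrix.diagonal_mul_diagonal]
      congr 1
      funext i
      fin_cases i
      · simp
      · simp; linear_combination ω * h3
    rcases hall _ hn with h | h | h
    · exact Or.inl (key 1 (by rw [mat_one]; simp) (by rw [h, mat_one]; simp))
    · exact Or.inr (Or.inl (key T (by rw [hT]; simp) (by rw [h, hT]; simp)))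
    · exact Or.inr (Or.inr (key (T * T) (by rw [hTT]; simp) (by rw [h, hTT]; simp)))

omit hF in
/-- A monomial pattern of a cyclic permutation. -/
def IsShift {F : Type*} [Field F] (g : Cfsg.SU 3 F 2) : Prop :=
  ∃ s : Fin 3, ∀ i j, j ≠ i + s → mat g i j = 0

omit [Fintype F] hF in
theorem isShift_gf4 {g : Cfsg.SU 3 GF4 2} : IsShift g ↔ g ∈ PSU32.H := by
  constructor
  · rintro ⟨s, hs⟩
    have hkey : ∀ (s : Fin 3) (a b c : GF4), a * b * c = 1 → ∃ x, PSU32.hMat x =
        Matrix.of fun i j => if j = i + s then (![a, b, c] : Fin 3 → GF4) i else 0 := by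
      decide +kernel
    have hM : mat g = Matrix.of fun i j =>
        if j = i + s then (![mat g 0 (0 + s), mat g 1 (1 + s), mat g 2 (2 + s)] : Fin 3 → GF4) i
        else 0 := by
      ext i j
      rw [Matrix.of_apply]
      by_cases h : j = i + s
      · subst h
        rw [if_pos rfl]
        fin_cases i <;> rfl
      · rw [if_neg h, hs i j h]
    have hdet : (mat g).det = 1 := (g : Matrix.SpecialLinearGroup (Fin 3) GF4).2
    obtain ⟨x, hx⟩ := hkey s (mat g 0 (0 + s)) (mat g 1 (1 + s)) (mat g 2 (2 + s)) (by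
      rw [hM, Matrix.det_fin_three] at hdet
      fin_cases s <;> simp at hdet ⊢ <;> linear_combination hdet)
    exact ⟨x, mat_injective (hx.trans hM.symm)⟩
  · rintro ⟨x, rfl⟩
    exact ⟨x.1, fun i j h => by show PSU32.hMat x i j = 0; simp [PSU32.hMat, h]⟩

/-- The monomial pattern in the table model. -/
theorem exists_shift_iff : ∃ E : Cfsg.SU 3 F 2 ≃* Cfsg.SU 3 GF4 2,
    ∀ g, IsShift g ↔ E g ∈ PSU32.H := by
  let e := FiniteField.ringEquivOfCardEq (hF.trans GF4.card.symm)
  refine ⟨suMapEquiv e 3 2, fun g => ?_⟩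
  rw [← isShift_gf4]
  exact exists_congr fun s => forall_congr' fun i => forall_congr' fun j => imp_congr_right
    fun _ => (map_eq_zero_iff e.toRingHom e.injective).symm

theorem shift_four (v : Cfsg.SU 3 F 2) :
    IsShift (v ^ 4) ∧ ∀ h, IsShift h → IsShift (v * h * v⁻¹) := by
  obtain ⟨E, hE⟩ := exists_shift_iff hF
  have hn := PSU32.H_normal
  refine ⟨(hE _).2 ?_, fun h hh => (hE _).2 ?_⟩
  · obtain ⟨x, hx⟩ := (PSU32.quatHom_bijective hn).2 (E v : Cfsg.SU 3 GF4 2 ⧸ PSU32.H)
    have hq : ∀ x : QuaternionGroup 2, x ^ 4 = 1 := by decide +kernel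
    rw [map_pow, ← QuotientGroup.eq_one_iff, QuotientGroup.mk_pow, ← hx, ← map_pow, hq, map_one]
  · rw [map_mul, map_mul, map_inv]
    exact hn.conj_mem _ ((hE h).1 hh) _

omit hF in
/-- The subgroup generated by the two blocks. -/
noncomputable def blocks (F : Type*) [Field F] : Subgroup (Cfsg.SU 3 F 2) :=
  (emb c01 : Cfsg.SU 2 F 2 →* _).range ⊔ (emb c12 : Cfsg.SU 2 F 2 →* _).range

omit [Fintype F] hF in
theorem blocks_left (x : Cfsg.SU 2 F 2) : emb c01 x ∈ blocks F :=
  Subgroup.mem_sup_left ⟨x, rfl⟩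

omit [Fintype F] hF in
theorem blocks_right (x : Cfsg.SU 2 F 2) : emb c12 x ∈ blocks F :=
  Subgroup.mem_sup_right ⟨x, rfl⟩

theorem cycle_act {S : Cfsg.SU 2 F 2} (hS1 : suAct S (Pi.single 1 1) = Pi.single 0 1)
    (hS0 : suAct S (Pi.single 0 1) = Pi.single 1 1) (j : Fin 3) :
    suAct (emb c01 S * emb c12 S) (Pi.single j 1) = Pi.single (j + 1) 1 := by
  have a1 : suAct (emb c01 S) (Pi.single 1 1) = (Pi.single 0 1 : Fin 3 → F) := by
    rw [← c01_one, suAct_emb_single, hS1, ext_single, c01_zero]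
  have a0 : suAct (emb c01 S) (Pi.single 0 1) = (Pi.single 1 1 : Fin 3 → F) := by
    rw [← c01_zero, suAct_emb_single, hS0, ext_single, c01_one]
  have a2 : suAct (emb c01 S) (Pi.single 2 1) = (Pi.single 2 1 : Fin 3 → F) :=
    suAct_emb_single_off hF _ _ (by rw [mem_range_shift]; simp)
  have b2 : suAct (emb c12 S) (Pi.single 2 1) = (Pi.single 1 1 : Fin 3 → F) := by
    rw [← c12_one, suAct_emb_single, hS1, ext_single, c12_zero]
  have b1 : suAct (emb c12 S) (Pi.single 1 1) = (Pi.single 2 1 : Fin 3 → F) := by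
    rw [← c12_zero, suAct_emb_single, hS0, ext_single, c12_one]
  have b0 : suAct (emb c12 S) (Pi.single 0 1) = (Pi.single 0 1 : Fin 3 → F) :=
    suAct_emb_single_off hF _ _ (by rw [mem_range_shift]; simp)
  rw [suAct_mul]
  fin_cases j
  · show suAct _ (suAct _ (Pi.single 0 1)) = _
    rw [b0, a0]; rfl
  · show suAct _ (suAct _ (Pi.single 1 1)) = _
    rw [b1, a2]; rfl
  · show suAct _ (suAct _ (Pi.single 2 1)) = _
    rw [b2, a1]; rfl

/-- A diagonal element lies in the product of the two tori. -/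
theorem diag_split {g : Cfsg.SU 3 F 2} {u : Fin 3 → F} (hg : mat g = Matrix.diagonal u) :
    ∃ x y : Cfsg.SU 2 F 2, x ∈ tor ∧ y ∈ tor ∧ g = emb c01 x * emb c12 y := by
  have hdet : (mat g).det = 1 := (g : Matrix.SpecialLinearGroup (Fin 3) F).2
  rw [hg, Matrix.det_diagonal, Fin.prod_univ_three] at hdet
  have h0 : u 0 ≠ 0 := fun e => by simp [e] at hdet
  have h2 : u 2 ≠ 0 := fun e => by simp [e] at hdet
  obtain ⟨x, hx⟩ := exists_diag hF ![u 0, (u 0)⁻¹] (by intro i; fin_cases i <;> simp [h0])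
    (by rw [Fin.prod_univ_two]; simp [h0])
  obtain ⟨y, hy⟩ := exists_diag hF ![(u 2)⁻¹, u 2] (by intro i; fin_cases i <;> simp [h2])
    (by rw [Fin.prod_univ_two]; simp [h2])
  refine ⟨x, y, (tor_iff hF x).2 (by rw [hx]; simp), (tor_iff hF y).2 (by rw [hy]; simp),
    mat_injective ?_⟩
  rw [mat_mul, emb_diag hF (w := ![u 0, (u 0)⁻¹, 1]) hx (fun i => by fin_cases i <;> rfl)
      (fun k hk => by rw [mem_range_shift] at hk; fin_cases k <;> simp at hk ⊢),
    emb_diag hF (w := ![1, (u 2)⁻¹, u 2]) hy (fun i => by fin_cases i <;> rfl)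
      (fun k hk => by rw [mem_range_shift] at hk; fin_cases k <;> simp at hk ⊢),
    Matrix.diagonal_mul_diagonal, hg]
  congr 1
  funext i
  fin_cases i
  · simp
  · show u 1 = (u 0)⁻¹ * (u 2)⁻¹
    field_simp
    linear_combination hdet
  · simp

theorem shift_mem {g : Cfsg.SU 3 F 2} (hg : IsShift g) : g ∈ blocks F := by
  obtain ⟨s, hs⟩ := hg
  obtain ⟨ω, T, S, -, -, -, -, -, -, -, hS1, hS0, -⟩ := exists_gens hF
  set P := emb c01 S * emb c12 S
  have hP : P ∈ blocks F := mul_mem (blocks_left S) (blocks_right S)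
  obtain ⟨R, hR, hRs⟩ : ∃ R ∈ blocks F,
      ∀ j, suAct R (Pi.single j (1 : F)) = Pi.single (j + s) 1 := by
    have h1 := cycle_act hF hS1 hS0
    fin_cases s
    · exact ⟨1, one_mem _, fun j => by rw [suAct_one]; congr 1; exact (add_zero j).symm⟩
    · exact ⟨P, hP, h1⟩
    · exact ⟨P * P, mul_mem hP hP, fun j => by rw [suAct_mul, h1, h1, add_assoc]; rfl⟩
  have hcol : ∀ j, suAct g (Pi.single j 1) = mat g (j - s) j • Pi.single (j - s) 1 := fun j =>
    funext fun i => by
      rw [← mat_eq_suAct]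
      by_cases hi : i = j - s
      · subst hi; simp
      · rw [hs i j (fun e => hi (by rw [e, add_sub_cancel_right]))]
        simp [hi]
  have hd : mat (R * g) = Matrix.diagonal fun j => mat g (j - s) j := by
    ext i j
    rw [mat_eq_suAct, suAct_mul, hcol, suAct_smul, hRs, sub_add_cancel]
    by_cases h : i = j
    · subst h; simp
    · simp [h]
  obtain ⟨x, y, -, -, hxy⟩ := diag_split hF hd
  have : R * g ∈ blocks F := by
    rw [hxy]; exact mul_mem (blocks_left x) (blocks_right y)
  exact (Subgroup.mul_mem_cancel_left _ hR).1 this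

omit [Fintype F] hF in
theorem isShift_diag {g : Cfsg.SU 3 F 2} {u : Fin 3 → F} (hg : mat g = Matrix.diagonal u) :
    IsShift g :=
  ⟨0, fun i j h => by rw [hg, Matrix.diagonal_apply_ne]; rw [add_zero] at h; exact Ne.symm h⟩

omit [Fintype F] hF in
theorem isShift_cycle {g : Cfsg.SU 3 F 2}
    (hg : ∀ j, suAct g (Pi.single j 1) = Pi.single (j + 1) 1) : IsShift g :=
  ⟨2, fun i j h => by
    rw [mat_eq_suAct, hg, Pi.single_eq_of_ne]
    intro e; apply h; rw [e, add_assoc, show (1 : Fin 3) + 2 = 0 from rfl, add_zero]⟩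

theorem pow_four_mem (v : Cfsg.SU 3 F 2) : v ^ 4 ∈ blocks F := shift_mem hF (shift_four hF v).1

theorem diag_tor {t : Cfsg.SU 2 F 2} (ht : t ∈ tor) :
    mat (emb c01 t) = Matrix.diagonal ![mat t 0 0, mat t 1 1, 1] ∧
      mat (emb c12 t) = Matrix.diagonal ![1, mat t 0 0, mat t 1 1] :=
  ⟨emb_diag hF (tor_diag hF ht) (fun i => by fin_cases i <;> rfl)
    (fun k hk => by rw [mem_range_shift] at hk; fin_cases k <;> simp at hk ⊢),
   emb_diag hF (tor_diag hF ht) (fun i => by fin_cases i <;> rfl)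
    (fun k hk => by rw [mem_range_shift] at hk; fin_cases k <;> simp at hk ⊢)⟩

/-- An element commuting with the diagonal and the cycle is scalar. -/
theorem scalar_of_comm {ω : F} (h1 : ω ≠ 1) {T S : Cfsg.SU 2 F 2}
    (hT : mat T = Matrix.diagonal ![ω, ω * ω]) (h0 : ω ≠ 0)
    (hS1 : suAct S (Pi.single 1 1) = Pi.single 0 1) (hS0 : suAct S (Pi.single 0 1) = Pi.single 1 1)
    {u : Cfsg.SU 3 F 2} (hA : Commute u (emb c01 T))
    (hP : Commute u (emb c01 S * emb c12 S)) :
    mat u = Matrix.diagonal fun _ => mat u 0 0 := by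
  have htT : T ∈ tor := (tor_iff hF T).2 (by rw [hT]; simp)
  have hA' := (diag_tor hF htT).1
  rw [hT] at hA'
  simp at hA'
  have hw2 : ω * ω ≠ 1 := fun e => h1 (sq_one_two hF e)
  have hw : ω ≠ ω * ω := fun e => h1 (mul_left_cancel₀ h0 (e.symm.trans (mul_one ω).symm))
  have hinj : ∀ i j : Fin 3, i ≠ j → (![ω, ω * ω, 1] : Fin 3 → F) j - ![ω, ω * ω, 1] i ≠ 0 := by
    intro i j hij
    rw [sub_ne_zero]
    fin_cases i <;> fin_cases j <;>
      first
        | exact absurd rfl hij
        | exact hw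
        | exact hw.symm
        | exact hw2
        | exact hw2.symm
        | exact h1
        | exact h1.symm
  have hoff : ∀ i j, i ≠ j → mat u i j = 0 := by
    intro i j hij
    have eA := congrFun (congrFun (congrArg mat hA.eq) i) j
    rw [mat_mul, mat_mul, hA', Matrix.mul_diagonal, Matrix.diagonal_mul] at eA
    exact (mul_eq_zero.1 (show mat u i j * ((![ω, ω * ω, 1] : Fin 3 → F) j - ![ω, ω * ω, 1] i) = 0 by
      linear_combination eA)).resolve_right (hinj i j hij)
  have hcol : ∀ j, suAct u (Pi.single j 1) = mat u j j • Pi.single j 1 := fun j => funext fun i => by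
    rw [← mat_eq_suAct]
    by_cases h : i = j
    · subst h; simp
    · simp [hoff i j h, h]
  have hstep : ∀ j, mat u (j + 1) (j + 1) = mat u j j := fun j => by
    have h := congrArg (fun g => suAct g (Pi.single j 1) (j + 1)) hP.eq
    beta_reduce at h
    rw [suAct_mul, cycle_act hF hS1 hS0, suAct_mul (emb c01 S * emb c12 S) u, hcol, hcol,
      suAct_smul, cycle_act hF hS1 hS0] at h
    simpa using h
  ext i j
  by_cases h : i = j
  · subst h
    rw [Matrix.diagonal_apply_eq]
    have e1 := hstep 0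
    have e2 := hstep 1
    fin_cases i
    · rfl
    · exact e1
    · exact e2.trans e1
  · rw [hoff i j h, Matrix.diagonal_apply_ne _ h]

/-- An endomorphism fixing both blocks is the identity. -/
theorem eq_id_of_blocks {γ : Cfsg.SU 3 F 2 →* Cfsg.SU 3 F 2}
    (hA : ∀ x, γ (emb c01 x) = emb c01 x) (hB : ∀ x, γ (emb c12 x) = emb c12 x) (v : Cfsg.SU 3 F 2) :
    γ v = v := by
  obtain ⟨ω, T, S, h3, h1, h0, hT, hTt, -, -, hS1, hS0, -⟩ := exists_gens hF
  have hfix : ∀ g ∈ blocks F, γ g = g := by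
    intro g hg
    have : blocks F ≤ MonoidHom.eqLocus γ (MonoidHom.id _) := sup_le
      (by rintro _ ⟨x, rfl⟩; exact hA x) (by rintro _ ⟨x, rfl⟩; exact hB x)
    exact this hg
  have hcen : ∀ v, ∃ z : F, z ≠ 0 ∧ mat (v⁻¹ * γ v) = Matrix.diagonal fun _ => z := by
    intro v
    have hc : ∀ h, IsShift h → Commute (v⁻¹ * γ v) h := fun h hh => by
      have e := hfix _ (shift_mem hF ((shift_four hF v).2 h hh))
      rw [map_mul, map_mul, map_inv, hfix h (shift_mem hF hh)] at e
      show v⁻¹ * γ v * h = h * (v⁻¹ * γ v)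
      calc v⁻¹ * γ v * h = v⁻¹ * (γ v * h * (γ v)⁻¹) * γ v := by group
        _ = v⁻¹ * (v * h * v⁻¹) * γ v := by rw [e]
        _ = h * (v⁻¹ * γ v) := by group
    obtain ⟨hA', hB'⟩ := diag_tor hF hTt
    have := scalar_of_comm hF h1 hT h0 hS1 hS0 (hc _ (isShift_diag hA'))
      (hc _ (isShift_cycle (cycle_act hF hS1 hS0)))
    refine ⟨_, fun e => ?_, this⟩
    have hd : (mat (v⁻¹ * γ v)).det = 1 :=
      ((v⁻¹ * γ v : Cfsg.SU 3 F 2) : Matrix.SpecialLinearGroup (Fin 3) F).2
    rw [this, e, Matrix.det_diagonal] at hd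
    simp at hd
  have hcent : ∀ v x, Commute (v⁻¹ * γ v) x := fun v x => by
    obtain ⟨z, -, hz⟩ := hcen v
    refine mat_injective ?_
    rw [mat_mul _ x, mat_mul x _, hz, ← Matrix.smul_one_eq_diagonal, Matrix.smul_mul, Matrix.mul_smul,
      Matrix.one_mul, Matrix.mul_one]
  let c : Cfsg.SU 3 F 2 →* Cfsg.SU 3 F 2 := MonoidHom.mk' (fun v => v⁻¹ * γ v) fun a b => by
    rw [map_mul, mul_inv_rev]
    calc b⁻¹ * a⁻¹ * (γ a * γ b) = b⁻¹ * (a⁻¹ * γ a) * γ b := by group
      _ = (a⁻¹ * γ a) * b⁻¹ * γ b := by rw [(hcent a b⁻¹).eq]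
      _ = _ := by group
  have h4 : (v⁻¹ * γ v) ^ 4 = 1 := by
    show c v ^ 4 = 1
    rw [← map_pow]
    show (v ^ 4)⁻¹ * γ (v ^ 4) = 1
    rw [hfix _ (pow_four_mem hF v), inv_mul_cancel]
  have h3' : (v⁻¹ * γ v) ^ 3 = 1 := by
    obtain ⟨z, hz0, hz⟩ := hcen v
    refine mat_injective ?_
    rw [pow_succ, pow_two, mat_mul, mat_mul, hz, mat_one, Matrix.diagonal_mul_diagonal,
      Matrix.diagonal_mul_diagonal, ← Matrix.diagonal_one]
    congr 1
    funext i
    linear_combination cube_two hF hz0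
  rw [pow_succ, h3', one_mul] at h4
  exact (inv_mul_eq_one.1 h4).symm

omit [Fintype F] hF in
theorem ringEquiv_two {ω : F} (hall : ∀ a : F, a ≠ 0 → a = 1 ∨ a = ω ∨ a = ω * ω)
    {s t : F ≃+* F} (h : s ω = t ω) : s = t := by
  refine RingEquiv.ext fun a => ?_
  by_cases ha : a = 0
  · simp [ha]
  · rcases hall a ha with rfl | rfl | rfl <;> simp [h]

/-- An injective endomorphism preserving both blocks is a twist. -/
theorem exists_twist_of_blocks {β : Cfsg.SU 3 F 2 →* Cfsg.SU 3 F 2} (hβ : Function.Injective β)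
    (hA : ∀ x, β (emb c01 x) ∈ (emb c01 : Cfsg.SU 2 F 2 →* _).range)
    (hB : ∀ x, β (emb c12 x) ∈ (emb c12 : Cfsg.SU 2 F 2 →* _).range) :
    ∃ (s : F ≃+* F) (w : Fin 3 → F) (hw : ∀ i, w i ^ (2 + 1) = 1),
      ∀ x, β x = twist hF s w hw x := by
  have mk : ∀ (e : Fin 2 ↪ Fin 3), (∀ x, β (emb e x) ∈ (emb e : Cfsg.SU 2 F 2 →* _).range) →
      ∃ (s : F ≃+* F) (ν : F) (hν : ν ^ (2 + 1) = 1), ∀ x,
        β (emb e x) = emb e (twist hF s ![1, ν] (by intro i; fin_cases i <;> simp [hν]) x) := by
    intro e he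
    choose f hf using he
    let f' : Cfsg.SU 2 F 2 →* Cfsg.SU 2 F 2 := MonoidHom.mk' f fun a b =>
      emb_injective e (by rw [map_mul, hf, hf, hf, ← map_mul, ← map_mul])
    have hinj : Function.Injective f' := fun a b h => emb_injective e (hβ (by
      rw [← hf, ← hf]; exact congrArg (emb e) h))
    let θ : MulAut (Cfsg.SU 2 F 2) :=
      MulEquiv.ofBijective f' (Finite.injective_iff_bijective.1 hinj)
    obtain ⟨s, ν, hν, hs⟩ := exists_twist_of_tor hF θ (fun t ht => mem_tor_of_cube hF (by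
      rw [← map_pow, tor_cube hF ht, map_one]))
    exact ⟨s, ν, hν, fun x => by rw [← hf, ← hs]; rfl⟩
  obtain ⟨s, ν, hν, hs⟩ := mk c01 hA
  obtain ⟨s', ν', hν', hs'⟩ := mk c12 hB
  obtain ⟨ω, -, h1, h0, -, hall⟩ := exists_omega hF
  obtain ⟨t, ht⟩ := exists_diag hF ![ω, ω * ω] (by intro i; fin_cases i <;> simp [h0])
    (by rw [Fin.prod_univ_two]; simp only [Matrix.cons_val_zero, Matrix.cons_val_one];
        linear_combination cube_two hF h0)
  have htt : t ∈ tor := (tor_iff hF t).2 (by rw [ht]; simp)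
  obtain ⟨S, hS1, hS0⟩ := exists_swap_two hF
  rw [neg_two hF, one_smul] at hS0
  obtain ⟨dA, dB⟩ := diag_tor hF htt
  rw [ht] at dA dB
  simp at dA dB
  have hmS : mat S 0 0 = 0 ∧ mat S 1 1 = 0 ∧ mat S 0 1 = 1 ∧ mat S 1 0 = 1 := by
    simp [mat_eq_suAct, hS1, hS0]
  -- the two field automorphisms agree
  have hrel : emb c12 S * emb c01 t = emb c01 t * emb c12 t * emb c12 S := by
    refine su_ext_single fun j => ?_
    have cA : ∀ l, suAct (emb c01 t) (Pi.single l 1) =
        (![ω, ω * ω, 1] : Fin 3 → F) l • Pi.single l 1 := fun l => funext fun i => by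
      rw [← mat_eq_suAct, dA]
      by_cases h : i = l
      · subst h; simp
      · simp [h]
    have cB : ∀ l, suAct (emb c12 t) (Pi.single l 1) =
        (![1, ω, ω * ω] : Fin 3 → F) l • Pi.single l 1 := fun l => funext fun i => by
      rw [← mat_eq_suAct, dB]
      by_cases h : i = l
      · subst h; simp
      · simp [h]
    have b2 : suAct (emb c12 S) (Pi.single 2 1) = (Pi.single 1 1 : Fin 3 → F) := by
      rw [← c12_one, suAct_emb_single, hS1, ext_single, c12_zero]
    have b1 : suAct (emb c12 S) (Pi.single 1 1) = (Pi.single 2 1 : Fin 3 → F) := by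
      rw [← c12_zero, suAct_emb_single, hS0, ext_single, c12_one]
    have b0 : suAct (emb c12 S) (Pi.single 0 1) = (Pi.single 0 1 : Fin 3 → F) :=
      suAct_emb_single_off hF _ _ (by rw [mem_range_shift]; simp)
    rw [suAct_mul, suAct_mul, suAct_mul]
    rcases (show j = 0 ∨ j = 1 ∨ j = 2 by revert j; decide) with rfl | rfl | rfl
    · simp [cA, cB, b0, suAct_smul]
    · simp [cA, cB, b1, suAct_smul]
    · simp [cA, cB, b2, suAct_smul, smul_smul]
      have e : ω * (ω * ω) = 1 := by linear_combination cube_two hF h0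
      rw [e, one_smul]
  have hss : s = s' := by
    refine ringEquiv_two hall ?_
    have hν'0 : ν' ≠ 0 := fun e => by simp [e] at hν'
    have hν0 : ν ≠ 0 := fun e => by simp [e] at hν
    have dt : ∀ (σ : F ≃+* F) (c : F) (hc : ∀ i, (![1, c] : Fin 2 → F) i ^ (2 + 1) = 1),
        mat (twist hF σ ![1, c] hc t) = Matrix.diagonal ![σ ω, σ (ω * ω)] := fun σ c hc => by
      refine Matrix.ext fun i j => ?_
      rw [twist_apply, ht]
      have hc0 : c ≠ 0 := twist_ne hc 1
      fin_cases i <;> fin_cases j <;> simp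
      all_goals field_simp
    have e01 : suAct (β (emb c01 t)) (Pi.single 1 1) = s (ω * ω) • (Pi.single 1 1 : Fin 3 → F) ∧
        suAct (β (emb c01 t)) (Pi.single 2 1) = (Pi.single 2 1 : Fin 3 → F) := by
      rw [hs, ← c01_one, suAct_emb_single,
        suAct_emb_single_off hF c01 _ (by rw [mem_range_shift]; simp)]
      refine ⟨?_, rfl⟩
      rw [show suAct (twist hF s ![1, ν] _ t) (Pi.single 1 1) = s (ω * ω) • Pi.single 1 1 from
        funext fun i => by rw [← mat_eq_suAct, dt]; fin_cases i <;> simp, map_smul, ext_single]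
    have e12 : suAct (β (emb c12 t)) (Pi.single 1 1) = s' ω • (Pi.single 1 1 : Fin 3 → F) := by
      rw [hs', ← c12_zero, suAct_emb_single,
        show suAct (twist hF s' ![1, ν'] _ t) (Pi.single 0 1) = s' ω • Pi.single 0 1 from
          funext fun i => by rw [← mat_eq_suAct, dt]; fin_cases i <;> simp, map_smul, ext_single]
    have eS : suAct (β (emb c12 S)) (Pi.single 2 1) = ν'⁻¹ • (Pi.single 1 1 : Fin 3 → F) := by
      rw [hs', ← c12_one, suAct_emb_single,
        show suAct (twist hF s' ![1, ν'] _ S) (Pi.single 1 1) = ν'⁻¹ • Pi.single 0 1 from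
          funext fun i => by
            rw [← mat_eq_suAct, twist_apply]
            fin_cases i <;> simp [hmS.2.1, hmS.2.2.1], map_smul, ext_single,
        c12_zero]
    have h := congrArg (fun g => suAct (β g) (Pi.single 2 1) 1) hrel
    simp only [map_mul, suAct_mul, e01.2, eS, suAct_smul, e12, e01.1] at h
    simp [hν'0] at h
    have hw : (s ω) * (s ω) * (s ω) = 1 := by
      rw [← map_mul, ← map_mul, ← pow_three', cube_two hF h0, map_one]
    linear_combination -(s ω) * h + (s' ω) * hw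
  subst hss
  have hw : ∀ i, (![1, ν, ν * ν'] : Fin 3 → F) i ^ (2 + 1) = 1 := by
    intro i; fin_cases i <;> simp [hν, hν', mul_pow]
  have h12 : ∀ x, twist hF s ![1, ν, ν * ν'] hw (emb c12 x) = β (emb c12 x) := fun x => by
    rw [twist_emb, hs']
    congr 1
    refine mat_injective (Matrix.ext fun i j => ?_)
    rw [twist_apply, twist_apply]
    have hν0 : ν ≠ 0 := fun e => by simp [e] at hν
    have q : ∀ k, ((![1, ν, ν * ν'] : Fin 3 → F) ∘ c12) k = ν * (![1, ν'] : Fin 2 → F) k := by
      intro k; fin_cases k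
      · exact (mul_one ν).symm
      · rfl
    rw [q, q]
    have := twist_ne (q := 2) (w := (![1, ν'] : Fin 2 → F))
      (by intro i; fin_cases i <;> simp [hν']) j
    field_simp
  have h01 : ∀ x, twist hF s ![1, ν, ν * ν'] hw (emb c01 x) = β (emb c01 x) := fun x => by
    rw [twist_emb, hs]
    congr 1
    refine mat_injective (Matrix.ext fun i j => ?_)
    rw [twist_apply, twist_apply]
    fin_cases i <;> fin_cases j <;> simp [shift]
  refine ⟨s, _, hw, fun x => ?_⟩
  let T := MulEquiv.ofBijective _ (twist_bijective hF s _ hw)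
  have h := eq_id_of_blocks hF (γ := T.symm.toMonoidHom.comp β)
    (fun y => T.injective (by
      show T (T.symm _) = T _
      rw [T.apply_symm_apply]; exact (h01 y).symm))
    (fun y => T.injective (by
      show T (T.symm _) = T _
      rw [T.apply_symm_apply]; exact (h12 y).symm)) x
  exact (T.symm_apply_eq).1 h

/-- A parametrisation injective on the blocks is injective unless it kills the scalar. -/
theorem injective_or_kills {G : Type*} [Group G] (φ : Cfsg.SU 3 F 2 →* G)
    (hl : Function.Injective (φ.comp (emb c01))) (hr : Function.Injective (φ.comp (emb c12))) :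
    Function.Injective φ ∨
      ∃ t : Cfsg.SU 2 F 2, t ∈ tor ∧ t ≠ 1 ∧ φ (emb c01 t) = φ (emb c12 t) := by
  obtain ⟨ω, T, S, h3, h1, h0, hT, hTt, hT1, -, hS1, hS0, hall⟩ := exists_gens hF
  refine or_iff_not_imp_right.2 fun hkill => (injective_iff_map_eq_one φ).2 fun v hv => ?_
  have hkill' : ∀ t, t ∈ tor → φ (emb c01 t) = φ (emb c12 t) → t = 1 := fun t ht e => by
    by_contra h
    exact hkill ⟨t, ht, h, e⟩
  -- the kernel contains no diagonal element
  have hdiag : ∀ g u, φ g = 1 → mat g = Matrix.diagonal u → g = 1 := by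
    intro g u hg hu
    have hdet : (mat g).det = 1 := (g : Matrix.SpecialLinearGroup (Fin 3) F).2
    rw [hu, Matrix.det_diagonal, Fin.prod_univ_three] at hdet
    have hu0 : ∀ i, u i ≠ 0 := fun i e => by fin_cases i <;> simp at e <;> simp [e] at hdet
    obtain ⟨x, y, hx, hy, rfl⟩ := diag_split hF hu
    obtain ⟨x0, y0⟩ := And.intro (diag_tor hF hx).1 (diag_tor hF hy).2
    have hswap : ∀ (e : Fin 2 ↪ Fin 3), Function.Injective (φ.comp (emb e)) → ∀ k : Fin 3,
        k ∉ Set.range e → u (e 0) = u (e 1) := by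
      intro e he k hk
      set g := emb c01 x * emb c12 y
      have hfix : g⁻¹ * emb e S * g * (emb e S)⁻¹ ∈ (emb e : Cfsg.SU 2 F 2 →* _).range := by
        rw [mem_range_emb_iff hF]
        intro l hl
        have hgl : suAct g (Pi.single l 1) = u l • Pi.single l 1 := funext fun i => by
          rw [← mat_eq_suAct, hu]
          by_cases h : i = l
          · subst h; simp
          · simp [h]
        have hgi := suAct_inv_of hgl
        rw [suAct_smul] at hgi
        have hs1 := suAct_emb_single_off hF e S hl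
        rw [suAct_mul, suAct_inv_of hs1, suAct_mul, hgl, suAct_smul, suAct_mul, hs1, hgi]
      obtain ⟨z, hz⟩ := hfix
      have hz1 : z = 1 := he (by
        rw [MonoidHom.comp_apply, MonoidHom.comp_apply, hz, map_one, map_one, map_mul, map_mul,
          map_mul, map_inv, map_inv, hg, inv_one, one_mul, mul_one, mul_inv_cancel])
      rw [hz1, map_one, eq_comm, mul_inv_eq_one, mul_assoc, inv_mul_eq_iff_eq_mul] at hz
      have h := congrArg (fun a => suAct a (Pi.single (e 0) 1) (e 1)) hz
      have hgcol : ∀ l, suAct g (Pi.single l 1) = u l • Pi.single l 1 := fun l => funext fun i => by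
        rw [← mat_eq_suAct, hu]
        by_cases h : i = l
        · subst h; simp
        · simp [h]
      simp only [suAct_mul, hgcol, suAct_smul, suAct_emb_single, hS0, ext_single] at h
      simp at h
      exact h
    have e01 := hswap c01 hl 2 (by rw [mem_range_shift]; simp)
    have e12 := hswap c12 hr 0 (by rw [mem_range_shift]; simp)
    have hxy : mat (emb c01 x * emb c12 y) = _ := hu
    rw [mat_mul, x0, y0, Matrix.diagonal_mul_diagonal] at hxy
    have q0 : mat x 0 0 = u 0 := by simpa using congrFun (congrFun hxy 0) 0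
    have q2 : mat y 1 1 = u 2 := by simpa using congrFun (congrFun hxy 2) 2
    have hy11 := (su_two_entries hF y).1
    have hxy' : y = x * x := by
      refine su_two_ext hF (funext fun i => ?_)
      rw [← mat_eq_suAct, ← mat_eq_suAct, mat_mul, tor_diag hF hx, tor_diag hF hy,
        Matrix.diagonal_mul_diagonal]
      fin_cases i
      · simp
        rw [q0]
        have hy0 : mat y 0 0 ≠ 0 := fun e => by
          rw [e, zero_pow (by norm_num), q2] at hy11
          exact hu0 2 hy11
        have h4 : mat y 0 0 ^ 4 = mat y 0 0 := by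
          rw [pow_succ, cube_two hF hy0, one_mul]
        have : u 2 = u 0 := e12.symm.trans e01.symm
        rw [← this, ← q2, hy11]
        linear_combination -h4
      · simp
    have hxx : φ (emb c01 x) = φ (emb c12 x) := by
      have hx3 := tor_cube hF hx
      rw [map_mul, hxy', map_mul (emb c12), map_mul φ (emb c12 x)] at hg
      have : φ (emb c12 x) * φ (emb c12 x) * φ (emb c12 x) = 1 := by
        rw [← map_mul, ← map_mul, ← map_mul, ← map_mul, ← pow_three', hx3, map_one, map_one]
      rw [← mul_assoc] at hg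
      calc φ (emb c01 x) = φ (emb c01 x) * φ (emb c12 x) * φ (emb c12 x) * φ (emb c12 x) := by
            rw [mul_assoc (φ (emb c01 x)), mul_assoc (φ (emb c01 x)), this, mul_one]
        _ = φ (emb c12 x) := by rw [hg, one_mul]
    rw [hxy', hkill' x hx hxx]
    simp
  have hcomm : ∀ g, φ g = 1 → ∀ a, φ (g * a * g⁻¹ * a⁻¹) = 1 := fun g hg a => by
    rw [map_mul, map_mul, map_mul, map_inv, map_inv, hg, one_mul, inv_one, mul_one, mul_inv_cancel]
  obtain ⟨hA', hB'⟩ := diag_tor hF hTt
  -- no cyclic element either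
  have hshift : ∀ g, IsShift g → φ g = 1 → g = 1 := by
    rintro g ⟨s, hs⟩ hg
    have hP : ∀ (t : Cfsg.SU 3 F 2) (u : Fin 3 → F), mat t = Matrix.diagonal u →
        Commute g t := fun t u ht => by
      have e : mat (g * t * g⁻¹) = Matrix.diagonal fun i => u (i + s) := by
        have : mat (g * t) = Matrix.diagonal (fun i => u (i + s)) * mat g := by
          ext i j
          rw [mat_mul, ht, Matrix.mul_diagonal, Matrix.diagonal_mul]
          by_cases h : j = i + s
          · rw [h]; ring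
          · simp [hs i j h]
        rw [mat_mul, this, Matrix.mul_assoc, ← mat_mul, mul_inv_cancel, mat_one, Matrix.mul_one]
      obtain ⟨t', ht'⟩ : ∃ v : Cfsg.SU 3 F 2, v = t⁻¹ := ⟨_, rfl⟩
      have ht'' : mat t' = Matrix.diagonal fun i => (u i)⁻¹ := by
        have hu : ∀ i, u i ≠ 0 := fun i h => by
          have hd : (mat t).det = 1 := (t : Matrix.SpecialLinearGroup (Fin 3) F).2
          rw [ht, Matrix.det_diagonal] at hd
          exact zero_ne_one ((Finset.prod_eq_zero (Finset.mem_univ i) h).symm.trans hd)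
        have h1 : mat t * mat t' = 1 := by rw [← mat_mul, ht', mul_inv_cancel, mat_one]
        have h2 : Matrix.diagonal (fun i => (u i)⁻¹) * mat t = 1 := by
          rw [ht, Matrix.diagonal_mul_diagonal, ← Matrix.diagonal_one]
          congr 1
          exact funext fun i => inv_mul_cancel₀ (hu i)
        exact (left_inv_eq_right_inv h2 h1).symm
      have h := hdiag (g * t * g⁻¹ * t⁻¹) _ (hcomm g hg t)
        (by rw [mat_mul, e, ← ht', ht'', Matrix.diagonal_mul_diagonal])
      rw [mul_inv_eq_one, mul_inv_eq_iff_eq_mul] at h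
      exact h
    by_cases hs0 : s = 0
    · subst hs0
      refine hdiag g (fun i => mat g i i) hg (Matrix.ext fun i j => ?_)
      by_cases h : i = j
      · subst h; simp
      · rw [Matrix.diagonal_apply_ne _ h, hs i j (by rw [add_zero]; exact Ne.symm h)]
    exfalso
    have hne : ∀ i, mat g i (i + s) ≠ 0 := fun i h0' => by
      have hd : (mat g).det = 1 := (g : Matrix.SpecialLinearGroup (Fin 3) F).2
      rw [Matrix.det_eq_zero_of_row_eq_zero i fun j => ?_] at hd
      · exact zero_ne_one hd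
      · by_cases h : j = i + s
        · rw [h, h0']
        · exact hs i j h
    have h := congrFun (congrFun (congrArg mat (hP _ _ hA').eq) 2) (2 + s)
    rw [mat_mul, mat_mul, hA', Matrix.mul_diagonal, Matrix.diagonal_mul, hT] at h
    have hs12 : ∀ s : Fin 3, s ≠ 0 → s = 1 ∨ s = 2 := by decide
    have hn2 := hne 2
    rcases hs12 s hs0 with rfl | rfl <;> simp at h
    · exact h1 (mul_left_cancel₀ hn2 (h.trans (mul_one _).symm))
    · exact h1 (sq_one_two hF (mul_left_cancel₀ hn2 (h.trans (mul_one _).symm)))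
  have hsc := scalar_of_comm hF h1 hT h0 hS1 hS0 (u := v)
  have hall' : ∀ h, IsShift h → Commute v h := fun h hh => by
    have h4 : IsShift (v * h * v⁻¹ * h⁻¹) := by
      obtain ⟨E, hE⟩ := exists_shift_iff hF
      rw [hE, map_mul, map_inv]
      exact mul_mem ((hE _).1 ((shift_four hF v).2 h hh)) (inv_mem ((hE h).1 hh))
    have := hshift _ h4 (hcomm v hv h)
    rw [mul_inv_eq_one, mul_inv_eq_iff_eq_mul] at this
    exact this
  exact hdiag v _ hv (hsc (hall' _ (isShift_diag hA'))
    (hall' _ (isShift_cycle (cycle_act hF hS1 hS0))))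

end Cfsg.Agent.Phan
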