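/-
Windows of four coordinates over four elements.

* `exists_cube_joint`: commuting elements of order three have an orthonormal common eigenbasis.
* `exists_std`: an injective SU_3 in SU_4 is standard in a suitable frame.
* `exists_extend_two`: it is the restriction of an automorphism of SU_4.
* `injective_pair`: consecutive parametrisations are injective.
* `exists_window`: a surjection from SU_4 gives a parametrisation of a window extending a given one.
-/
import Cfsg.Agent.Lib.Phan.TwoBlock
import Cfsg.Agent.Lib.Phan.Amalgam2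

set_option autoImplicit false

namespace Cfsg.Agent.Phan

open Cfsg.Agent.Unitary
open scoped Matrix

variable {F : Type*} [Field F] [Fintype F] (hF : Fintype.card F = 2 ^ 2)
include hF

theorem pow_omega_inj {ω : F} (h3 : ω ^ 3 = 1) (h1 : ω ≠ 1) {i j : Fin 3}
    (h : ω ^ (i : ℕ) = ω ^ (j : ℕ)) : i = j := by
  have h0 : ω ≠ 0 := fun e => by simp [e] at h3
  have hw2 : ω * ω ≠ 1 := fun e => h1 (sq_one_two hF e)
  have hw : ω ≠ ω * ω := fun e => h1 (mul_left_cancel₀ h0 (e.symm.trans (mul_one ω).symm))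
  fin_cases i <;> fin_cases j <;> simp [pow_two] at h <;>
    first
      | rfl
      | exact absurd h h1
      | exact absurd h.symm h1
      | exact absurd h hw2
      | exact absurd h.symm hw2
      | exact absurd h hw
      | exact absurd h.symm hw

omit hF [Fintype F] in
theorem pow_omega_add {ω : F} (h3 : ω ^ 3 = 1) (i j : Fin 3) :
    ω ^ ((i + j : Fin 3) : ℕ) = ω ^ (i : ℕ) * ω ^ (j : ℕ) := by
  rw [← pow_add, Fin.val_add, eq_comm]
  conv_lhs => rw [← Nat.mod_add_div ((i : ℕ) + j) 3, pow_add, pow_mul, h3, one_pow, mul_one]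

theorem pow_omega_eq_one {ω : F} (h3 : ω ^ 3 = 1) (h1 : ω ≠ 1) {n : ℕ} (h : ω ^ n = 1) :
    n % 3 = 0 := by
  refine congrArg Fin.val (pow_omega_inj hF h3 h1 (i := ⟨n % 3, by omega⟩) (j := 0) ?_)
  rw [Fin.val_zero, pow_zero, ← h]
  conv_rhs => rw [← Nat.mod_add_div n 3, pow_add, pow_mul, h3, one_pow, mul_one]

/-- An eigencomponent of nonzero norm. -/
theorem exists_eigen_cube {n : ℕ} {ω : F} (h3 : ω ^ 3 = 1) (h1 : ω ≠ 1) {a : Cfsg.SU n F 2}
    (ha : a ^ 3 = 1) {z : Fin n → F} (hz : Cfsg.hermForm n F 2 z z ≠ 0) :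
    ∃ (K : Fin 3) (u : Fin n → F), Cfsg.hermForm n F 2 u u ≠ 0 ∧
      suAct a u = ω ^ (K : ℕ) • u ∧
      u = z + ((ω ^ (K : ℕ)) * (ω ^ (K : ℕ))) • suAct a z + ω ^ (K : ℕ) • suAct a (suAct a z) := by
  have H := hH (d := n) hF
  have h0 : ω ≠ 0 := fun e => by simp [e] at h3
  let c : Fin 3 → F := fun K => ω ^ (K : ℕ)
  have hc3 : ∀ K, c K * (c K * c K) = 1 := fun K => by
    rw [← pow_three, ← pow_mul, mul_comm, pow_mul, h3, one_pow]
  have haaa : suAct a (suAct a (suAct a z)) = z := by
    rw [← suAct_mul, ← suAct_mul, ← pow_three', ha, suAct_one]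
  let P : Fin 3 → (Fin n → F) := fun K =>
    z + (c K * c K) • suAct a z + c K • suAct a (suAct a z)
  have heig : ∀ K, suAct a (P K) = c K • P K := fun K => by
    simp only [P, suAct_add, suAct_smul, haaa, smul_add, smul_smul, hc3, one_smul]
    abel
  have hcross : ∀ K L, K ≠ L → Cfsg.hermForm n F 2 (P K) (P L) = 0 := fun K L hKL => by
    have h := suAct_herm a (P K) (P L)
    rw [heig, heig, H.smul_left, H.smul_right] at h
    have h' : (c K * c L ^ 2 - 1) * Cfsg.hermForm n F 2 (P K) (P L) = 0 := by linear_combination h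
    refine (mul_eq_zero.1 h').resolve_left fun e => hKL (pow_omega_inj hF h3 h1 ?_)
    show c K = c L
    linear_combination (c L) * e - (c K) * hc3 L
  have hs : (1 : F) + ω + ω * ω = 0 := by
    have : (ω - 1) * (1 + ω + ω * ω) = 0 := by linear_combination h3
    exact (mul_eq_zero.1 this).resolve_left (sub_ne_zero.2 h1)
  have h31 : (1 : F) + 1 + 1 = 1 := by rw [add_self_two hF, zero_add]
  have hsum : P 0 + P 1 + P 2 = z := by
    funext i
    simp only [P, c, Pi.add_apply, Pi.smul_apply, smul_eq_mul, Fin.val_zero, Fin.val_one,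
      Fin.val_two, pow_zero, pow_one]
    linear_combination (z i) * h31 + (suAct a z i + suAct a (suAct a z) i) * hs
      + (suAct a z i * ω) * h3
  by_cases hex : ∃ K, Cfsg.hermForm n F 2 (P K) (P K) ≠ 0
  · obtain ⟨K, hK⟩ := hex
    exact ⟨K, P K, hK, heig K, rfl⟩
  · push Not at hex
    refine absurd ?_ hz
    have key : ∀ A B C : Fin n → F, A + B + C = z →
        (∀ X ∈ ({A, B, C} : Set (Fin n → F)), ∀ Y ∈ ({A, B, C} : Set (Fin n → F)),
          Cfsg.hermForm n F 2 X Y = 0) → Cfsg.hermForm n F 2 z z = 0 := fun A B C e h => by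
      rw [← e]
      simp only [H.add_left, H.add_right hF]
      simp [h]
    refine key _ _ _ hsum fun X hX Y hY => ?_
    rcases hX with rfl | rfl | rfl <;> rcases hY with rfl | rfl | rfl <;>
      first | exact hex _ | exact hcross _ _ (by decide)

/-- An orthonormal family of common eigenvectors of two commuting elements of order three. -/
theorem exists_cube_joint {ω : F} (h3 : ω ^ 3 = 1) (h1 : ω ≠ 1) {m : ℕ} {a b : Cfsg.SU m F 2}
    (ha : a ^ 3 = 1) (hb : b ^ 3 = 1) (hab : a * b = b * a) (k : ℕ) (hk : k ≤ m) :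
    ∃ (v : Fin k → Fin m → F) (K L : Fin k → Fin 3), Orthonormal (Cfsg.hermForm m F 2) v ∧
      ∀ i, suAct a (v i) = ω ^ (K i : ℕ) • v i ∧ suAct b (v i) = ω ^ (L i : ℕ) • v i := by
  have H := hH (d := m) hF
  induction k with
  | zero => exact ⟨Fin.elim0, Fin.elim0, Fin.elim0, ⟨fun i => i.elim0, fun i => i.elim0⟩, fun i => i.elim0⟩
  | succ k ih =>
    obtain ⟨v, K, L, hv, heig⟩ := ih (by omega)
    obtain ⟨z, hz, hzv⟩ := exists_orthonormal_step hF H (hermForm_nondeg hF m) hv
      (by rw [Module.finrank_fin_fun]; omega)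
    have orth : ∀ (c : Cfsg.SU m F 2) (E : Fin k → Fin 3), (∀ i, suAct c (v i) = ω ^ (E i : ℕ) • v i) →
        ∀ y, (∀ i, Cfsg.hermForm m F 2 (v i) y = 0) →
          ∀ i, Cfsg.hermForm m F 2 (v i) (suAct c y) = 0 := fun c E hce y hy i => by
      have h := suAct_herm c (v i) y
      rw [hce, H.smul_left, hy] at h
      exact (mul_eq_zero.1 h).resolve_left (pow_ne_zero _ fun e => by simp [e] at h3)
    obtain ⟨K', u, hu, hua, hudef⟩ := exists_eigen_cube hF h3 h1 ha (z := z)
      (by rw [hz]; exact one_ne_zero)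
    have huv : ∀ i, Cfsg.hermForm m F 2 (v i) u = 0 := fun i => by
      have e1 := orth a K (fun i => (heig i).1) z hzv
      rw [hudef, H.add_right hF, H.add_right hF, H.smul_right, H.smul_right, hzv, e1,
        orth a K (fun i => (heig i).1) _ e1, mul_zero, mul_zero, add_zero, add_zero]
    obtain ⟨L', w, hw, hwb, hwdef⟩ := exists_eigen_cube hF h3 h1 hb hu
    have hwv : ∀ i, Cfsg.hermForm m F 2 (v i) w = 0 := fun i => by
      have e1 := orth b L (fun i => (heig i).2) u huv
      rw [hwdef, H.add_right hF, H.add_right hF, H.smul_right, H.smul_right, huv, e1,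
        orth b L (fun i => (heig i).2) _ e1, mul_zero, mul_zero, add_zero, add_zero]
    have hc : ∀ y, suAct a (suAct b y) = suAct b (suAct a y) := fun y => by
      rw [← suAct_mul, hab, suAct_mul]
    have hwa : suAct a w = ω ^ (K' : ℕ) • w := by
      rw [hwdef, suAct_add, suAct_add, suAct_smul, suAct_smul, hc, hc, hc, hua, suAct_smul,
        suAct_smul, smul_add, smul_add]
      simp only [smul_smul]
      congr 2 <;> ring_nf
    obtain ⟨c, -, -, hc1⟩ := exists_scale hF hw
    refine ⟨Fin.snoc v (c • w), Fin.snoc K K', Fin.snoc L L',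
      hv.snoc hF hc1 (fun i => by rw [H.smul_right, hwv, mul_zero]), fun i => ?_⟩
    induction i using Fin.lastCases with
    | last => simp only [Fin.snoc_last, suAct_smul, hwa, hwb]; exact ⟨smul_comm _ _ _, smul_comm _ _ _⟩
    | cast i => simpa using heig i

/-- An orthonormal basis gives an inner-diagonal change of frame. -/
theorem exists_frame_equiv {n : ℕ} {v : Fin n → Fin n → F}
    (hv : Orthonormal (Cfsg.hermForm n F 2) v) :
    ∃ C : Cfsg.SU n F 2 ≃* Cfsg.SU n F 2, ∀ x i (c : F),
      (suAct (C x) (v i) = c • v i ↔ suAct x (Pi.single i 1) = c • Pi.single i 1) := by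
  obtain ⟨g, hg⟩ := exists_gu_map hF le_rfl hv
  obtain ⟨C, hC⟩ := exists_conjEquiv hF _ g.2
  refine ⟨C, fun x i c => ?_⟩
  set P := ((g : Matrix.GeneralLinearGroup (Fin n) F) : Matrix (Fin n) (Fin n) F)
  set Q := (((g : Matrix.GeneralLinearGroup (Fin n) F)⁻¹ : GL (Fin n) F) : Matrix (Fin n) (Fin n) F)
  have hgi : v i = P *ᵥ Pi.single i 1 := (hg i).symm
  have hinj : Function.Injective (fun y : Fin n → F => P *ᵥ y) := fun y y' h => by
    have := congrArg (fun y => Q *ᵥ y) h
    simpa [Matrix.mulVec_mulVec, P, Q] using this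
  have hQP : Q * P = 1 := Units.inv_mul _
  have key : suAct (C x) (v i) = P *ᵥ suAct x (Pi.single i 1) := by
    show mat (C x) *ᵥ _ = P *ᵥ (mat x *ᵥ _)
    rw [hC, hgi, Matrix.mulVec_mulVec, Matrix.mulVec_mulVec, Matrix.mul_assoc (P * mat x), hQP,
      Matrix.mul_one]
  rw [key, hgi, ← Matrix.mulVec_smul]
  exact hinj.eq_iff

omit [Fintype F] hF in
theorem exists_unique_zero (M : Fin 4 → Fin 3)
    (h : ∀ c : Fin 3, c ≠ 0 → (Finset.univ.filter fun i => M i = c).card % 3 = 0)
    (hne : ∃ i, M i ≠ 0) : ∃ i0, M i0 = 0 ∧ ∀ j, j ≠ i0 → M j ≠ 0 := by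
  revert M; decide +kernel

set_option synthInstance.maxSize 512 in
set_option synthInstance.maxHeartbeats 200000 in
omit [Fintype F] hF in
theorem exists_two_zeros (K L : Fin 3 → Fin 3) (hK : K 0 + K 1 + K 2 = 0) (hL : L 0 + L 1 + L 2 = 0)
    (hKc : ¬ ∀ j, K j = K 0) (hLc : ¬ ∀ j, L j = L 0) (h1 : L ≠ K) (h2 : L ≠ K + K) :
    ∃ a c : Fin 3, a ≠ c ∧ -(a + c) ≠ a ∧ -(a + c) ≠ c ∧ L a = 0 ∧ K c = 0 ∧
      (∀ j, j ≠ a → L j ≠ 0) ∧ ∀ j, j ≠ c → K j ≠ 0 := by
  revert K L; decide +kernel

/-- A block whose torus has a single fixed coordinate is preserved. -/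
theorem block_preserved {β : Cfsg.SU 3 F 2 →* Cfsg.SU 3 F 2} {e : Fin 2 ↪ Fin 3} {k : Fin 3}
    (hk : ∀ l, l ∉ Set.range e → l = k) {T : Cfsg.SU 2 F 2} (hT : T ∈ tor)
    (hall : ∀ t : Cfsg.SU 2 F 2, t ∈ tor → t = 1 ∨ t = T ∨ t = T * T)
    {u : Fin 3 → F} (hu : mat (β (emb e T)) = Matrix.diagonal u)
    (huk : u k = 1) (hne : ∀ j, j ≠ k → u j ≠ 1) (x : Cfsg.SU 2 F 2) :
    β (emb e x) ∈ (emb e : Cfsg.SU 2 F 2 →* _).range := by
  rw [mem_range_emb_iff hF]
  intro l hl
  obtain rfl := hk l hl
  set A := β (emb e T)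
  have hA : ∀ j, suAct A (Pi.single j 1) = u j • Pi.single j 1 := fun j => funext fun i => by
    rw [← mat_eq_suAct, hu]
    by_cases h : i = j
    · subst h; simp
    · simp [h]
  have hAl : suAct A (Pi.single l 1) = Pi.single l 1 := by rw [hA, huk, one_smul]
  rcases two_cases hF x with hx | hx
  · rcases hall x hx with rfl | rfl | rfl
    · rw [map_one, map_one, suAct_one]
    · exact hAl
    · rw [map_mul, map_mul, suAct_mul, hAl, hAl]
  · set X := β (emb e x)
    have hXX : X * X = 1 := by rw [← map_mul, ← map_mul, anti_sq hF hx, map_one, map_one]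
    have hXA : A * X = X * A⁻¹ := by
      rw [← map_inv, ← map_inv, ← map_mul, ← map_mul, ← map_mul, ← map_mul, ← anti_inverts hF hx hT]
      rw [← mul_assoc, ← mul_assoc, anti_sq hF hx, one_mul]
    set y := suAct X (Pi.single l 1)
    have hy : suAct A y = y := by
      show suAct A (suAct X _) = _
      rw [← suAct_mul, hXA, suAct_mul, suAct_inv_of hAl]
    have hyk : y = y l • Pi.single l 1 := funext fun j => by
      by_cases h : j = l
      · subst h; simp
      · have h' := congrFun hy j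
        rw [suAct, show ((A : Matrix.SpecialLinearGroup (Fin 3) F) : Matrix (Fin 3) (Fin 3) F) =
          mat A from rfl, hu, Matrix.mulVec_diagonal] at h'
        have : (u j - 1) * y j = 0 := by linear_combination h'
        simp [h, (mul_eq_zero.1 this).resolve_left (sub_ne_zero.2 (hne j h))]
    have h2 : suAct X y = Pi.single l 1 := by
      show suAct X (suAct X _) = _
      rw [← suAct_mul, hXX, suAct_one]
    rw [hyk, suAct_smul] at h2
    have h3 := congrFun h2 l
    rw [Pi.smul_apply, smul_eq_mul, Pi.single_eq_same] at h3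
    rw [show y = y l • Pi.single l 1 from hyk, sq_one_two hF h3, one_smul]

/-- An injective SU_3 in SU_4 is standard in a suitable frame. -/
theorem exists_std {ι : Cfsg.SU 3 F 2 →* Cfsg.SU 4 F 2} (hι : Function.Injective ι) :
    ∃ (v : Fin 4 → Fin 4 → F) (C : Cfsg.SU 4 F 2 ≃* Cfsg.SU 4 F 2)
      (β : Cfsg.SU 3 F 2 →* Cfsg.SU 3 F 2),
      Orthonormal (Cfsg.hermForm 4 F 2) v ∧
      (∀ x i (c : F),
        (suAct (C x) (v i) = c • v i ↔ suAct x (Pi.single i 1) = c • Pi.single i 1)) ∧
      Function.Injective β ∧ (∀ y, ι y = C (emb b012 (β y))) ∧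
      (∀ x, β (emb c01 x) ∈ (emb c01 : Cfsg.SU 2 F 2 →* _).range) ∧
      (∀ x, β (emb c12 x) ∈ (emb c12 : Cfsg.SU 2 F 2 →* _).range) := by
  classical
  obtain ⟨ω, T, S, h3, h1, h0, hT, hTt, hT1, hS00, hS1, hS0, hall⟩ := exists_gens hF
  obtain ⟨dA, dB⟩ := diag_tor hF hTt
  rw [hT] at dA dB
  simp at dA dB
  set tA := emb c01 T
  set tB := emb c12 T
  set P := emb c01 S * emb c12 S
  have hTc := tor_cube hF hTt
  have htA3 : tA ^ 3 = 1 := by rw [← map_pow, hTc, map_one]
  have htB3 : tB ^ 3 = 1 := by rw [← map_pow, hTc, map_one]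
  have htAB : tA * tB = tB * tA := mat_injective (by
    rw [mat_mul, mat_mul, dA, dB, Matrix.diagonal_mul_diagonal, Matrix.diagonal_mul_diagonal]
    congr 1; exact funext fun i => mul_comm _ _)
  obtain ⟨v, K, L, hv, heig⟩ := exists_cube_joint hF h3 h1 (m := 4)
    (a := ι tA) (b := ι tB) (by rw [← map_pow, htA3, map_one]) (by rw [← map_pow, htB3, map_one])
    (by rw [← map_mul, htAB, map_mul]) 4 le_rfl
  obtain ⟨C, hC⟩ := exists_frame_equiv hF hv
  let ι' : Cfsg.SU 3 F 2 →* Cfsg.SU 4 F 2 := C.symm.toMonoidHom.comp ι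
  have hι' : Function.Injective ι' := C.symm.injective.comp hι
  have hCι : ∀ y, C (ι' y) = ι y := fun y => C.apply_symm_apply _
  have mkdiag : ∀ (g : Cfsg.SU 3 F 2) (E : Fin 4 → Fin 3),
      (∀ i, suAct (ι g) (v i) = ω ^ (E i : ℕ) • v i) →
        mat (ι' g) = Matrix.diagonal fun i => ω ^ (E i : ℕ) := fun g E h => by
    refine Matrix.ext fun i j => ?_
    have := (hC (ι' g) j _).1 (by rw [hCι]; exact h j)
    rw [mat_eq_suAct, this]
    by_cases hij : i = j
    · subst hij; simp
    · simp [hij]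
  have dK := mkdiag tA K fun i => (heig i).1
  have dL := mkdiag tB L fun i => (heig i).2
  -- the scalar
  set zI := tA * (tB * tB)
  have dZ : mat zI = Matrix.diagonal fun _ => ω := by
    rw [mat_mul, mat_mul, dA, dB, Matrix.diagonal_mul_diagonal, Matrix.diagonal_mul_diagonal]
    congr 1
    funext i
    fin_cases i
    · simp
    · simp; linear_combination ω * h3
    · simp; linear_combination ω * h3
  have hzc : ∀ y, zI * y = y * zI := fun y => mat_injective (by
    rw [mat_mul zI, mat_mul y, dZ, ← Matrix.smul_one_eq_diagonal, Matrix.smul_mul, Matrix.mul_smul,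
      Matrix.one_mul, Matrix.mul_one])
  have hz1 : zI ≠ 1 := fun e => by
    rw [e, mat_one] at dZ
    exact h1 (by simpa using (congrFun (congrFun dZ 0) 0).symm)
  have hcom : zI = tB * P * tB⁻¹ * P⁻¹ := by
    have cB : ∀ l, suAct tB (Pi.single l 1) =
        (![1, ω, ω * ω] : Fin 3 → F) l • Pi.single l 1 := fun l => funext fun i => by
      rw [← mat_eq_suAct, dB]
      by_cases h : i = l
      · subst h; simp
      · simp [h]
    have e : tB * P = zI * P * tB := by
      refine su_ext_single fun j => ?_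
      rw [suAct_mul, cycle_act hF hS1 hS0, cB, suAct_mul (zI * P), cB, suAct_smul, suAct_mul zI,
        cycle_act hF hS1 hS0]
      have hzv : suAct zI (Pi.single (j + 1) 1) = ω • Pi.single (j + 1) 1 := funext fun i => by
        rw [← mat_eq_suAct, dZ]
        by_cases h : i = j + 1
        · subst h; simp
        · simp [h]
      rw [hzv, smul_smul]
      congr 1
      fin_cases j
      · show ω = 1 * ω; rw [one_mul]
      · show ω * ω = ω * ω; rfl
      · show (1 : F) = ω * ω * ω; linear_combination -h3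
    rw [e]; group
  let M : Fin 4 → Fin 3 := fun i => K i + (L i + L i)
  let d : Fin 4 → F := fun i => ω ^ (M i : ℕ)
  have dM : mat (ι' zI) = Matrix.diagonal d := by
    rw [map_mul, map_mul, mat_mul, mat_mul, dK, dL, Matrix.diagonal_mul_diagonal,
      Matrix.diagonal_mul_diagonal]
    congr 1
    funext i
    simp only [d, M, pow_omega_add h3]
  have hzero : ∀ (y : Cfsg.SU 3 F 2) i j, d i ≠ d j → mat (ι' y) i j = 0 := fun y i j hij => by
    have h := congrFun (congrFun (congrArg mat (show ι' zI * ι' y = ι' y * ι' zI by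
      rw [← map_mul, hzc, map_mul])) i) j
    rw [mat_mul, mat_mul, dM, Matrix.diagonal_mul, Matrix.mul_diagonal] at h
    exact (mul_eq_zero.1 (show (d i - d j) * mat (ι' y) i j = 0 by
      linear_combination h)).resolve_left (sub_ne_zero.2 hij)
  have hcount : ∀ c : Fin 3, c ≠ 0 →
      (Finset.univ.filter fun i => M i = c).card % 3 = 0 := by
    intro c hc
    let δ : Fin 4 → F := fun i => if M i = c then 1 else 0
    let D : Matrix (Fin 4) (Fin 4) F := Matrix.diagonal δ
    let f : Cfsg.SU 3 F 2 → F := fun y => (mat (ι' y) * D + (1 - D)).det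
    have hD : D * D = D := by
      simp only [D, Matrix.diagonal_mul_diagonal]
      congr 1; funext i; simp only [δ]; split_ifs <;> simp
    have hDc : ∀ y, mat (ι' y) * D = D * mat (ι' y) := fun y => by
      refine Matrix.ext fun i j => ?_
      rw [Matrix.mul_diagonal, Matrix.diagonal_mul]
      by_cases hij : M i = M j
      · simp only [δ, hij]; ring
      · rw [hzero y i j fun e => hij (pow_omega_inj hF h3 h1 e)]; ring
    have hf : ∀ y y', f (y * y') = f y * f y' := fun y y' => by
      simp only [f]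
      rw [← Matrix.det_mul, map_mul, mat_mul]
      congr 1
      set X := mat (ι' y)
      set Y := mat (ι' y')
      have hY : D * Y = Y * D := (hDc y').symm
      have e1 : X * D * (Y * D) = X * Y * D := by
        rw [Matrix.mul_assoc X D, ← Matrix.mul_assoc D Y, hY, Matrix.mul_assoc Y D, hD,
          ← Matrix.mul_assoc]
      have e2 : (1 - D) * (Y * D) = 0 := by
        rw [sub_mul, one_mul, ← Matrix.mul_assoc, hY, Matrix.mul_assoc, hD, sub_self]
      have e3 : X * D * (1 - D) = 0 := by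
        rw [mul_sub, mul_one, Matrix.mul_assoc, hD, sub_self]
      have e4 : (1 - D) * (1 - D) = 1 - D := by
        rw [sub_mul, one_mul, mul_sub, mul_one, hD, sub_self, sub_zero]
      rw [add_mul, mul_add, mul_add, e1, e2, e3, e4]
      abel
    have hf1 : f 1 = 1 := by simp [f, mat_one]
    have hfz : f zI = 1 := by
      rw [hcom, hf, hf, hf]
      have a1 : f tB * f tB⁻¹ = 1 := by rw [← hf, mul_inv_cancel, hf1]
      have a2 : f P * f P⁻¹ = 1 := by rw [← hf, mul_inv_cancel, hf1]
      linear_combination (f P * f P⁻¹) * a1 + a2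
    have hval : f zI = (ω ^ (c : ℕ)) ^ (Finset.univ.filter fun i => M i = c).card := by
      simp only [f, D, dM, Matrix.diagonal_mul_diagonal]
      rw [← Matrix.diagonal_one, Matrix.diagonal_sub, Matrix.diagonal_add, Matrix.det_diagonal,
        ← Finset.prod_const, Finset.prod_filter]
      refine Finset.prod_congr rfl fun i _ => ?_
      simp only [δ, d]
      by_cases h : M i = c <;> simp [h]
    have := pow_omega_eq_one hF h3 h1
      (n := (c : ℕ) * (Finset.univ.filter fun i => M i = c).card) (by rw [pow_mul, ← hval, hfz])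
    rw [Nat.mul_mod] at this
    have hc' : (c : ℕ) = 1 ∨ (c : ℕ) = 2 := by
      have : (c : ℕ) ≠ 0 := fun e => hc (Fin.ext e)
      omega
    rcases hc' with hc' | hc' <;> rw [hc'] at this <;> omega
  obtain ⟨i0, hi0, hi0'⟩ := exists_unique_zero M hcount (by
    by_contra hcon
    push Not at hcon
    refine hz1 (hι' (mat_injective ?_))
    rw [dM, map_one, mat_one, ← Matrix.diagonal_one]
    congr 1; funext i; simp [d, hcon i])
  have hd0 : ∀ j, j ≠ i0 → d i0 ≠ d j := fun j hj e =>
    hi0' j hj ((pow_omega_inj hF h3 h1 e).symm.trans hi0)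
  -- the fixed line
  have hcol : ∀ y j, j ≠ i0 → mat (ι' y) j i0 = 0 ∧ mat (ι' y) i0 j = 0 := fun y j hj =>
    ⟨hzero y j i0 (Ne.symm (hd0 j hj)), hzero y i0 j (hd0 j hj)⟩
  let χ : Cfsg.SU 3 F 2 →* F :=
    { toFun := fun y => mat (ι' y) i0 i0
      map_one' := by simp [mat_one]
      map_mul' := fun y y' => by
        show mat (ι' (y * y')) i0 i0 = _
        rw [map_mul, mat_mul, Matrix.mul_apply, Finset.sum_eq_single i0]
        · intro j _ hj; rw [(hcol y j hj).2, zero_mul]
        · simp }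
  have hχblk : ∀ (e : Fin 2 ↪ Fin 3) (x : Cfsg.SU 2 F 2), χ (emb e x) = 1 := by
    intro e x
    have hanti : ∀ x, mat x 0 0 = 0 → χ (emb e x) = 1 := fun x hx =>
      sq_one_two hF (by rw [← map_mul, ← map_mul, anti_sq hF hx, map_one, map_one])
    rcases two_cases hF x with hx | hx
    · have hSx : mat (S * x) 0 0 = 0 := by
        have h10 : mat x 1 0 = 0 := by rw [tor_diag hF hx]; simp
        rw [mat_mul, Matrix.mul_apply, Fin.sum_univ_two, hS00, h10]; ring
      have : x = S * (S * x) := by rw [← mul_assoc, anti_sq hF hS00, one_mul]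
      rw [this, map_mul, map_mul, hanti S hS00, hanti _ hSx, one_mul]
    · exact hanti x hx
  have hχ : ∀ y, χ y = 1 := fun y => by
    have hker : blocks F ≤ χ.ker := sup_le
      (by rintro _ ⟨x, rfl⟩; exact hχblk c01 x) (by rintro _ ⟨x, rfl⟩; exact hχblk c12 x)
    have h4 : χ y ^ 4 = 1 := by rw [← map_pow]; exact hker (pow_four_mem hF y)
    have hne : χ y ≠ 0 := fun e => by simp [e] at h4
    rwa [pow_succ, cube_two hF hne, one_mul] at h4
  have hfix : ∀ y, suAct (ι' y) (Pi.single i0 1) = Pi.single i0 1 := fun y => funext fun j => by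
    rw [← mat_eq_suAct]
    by_cases hj : j = i0
    · subst hj; rw [Pi.single_eq_same]; exact hχ y
    · rw [(hcol y j hj).1, Pi.single_eq_of_ne hj]
  have hKi : K i0 = 0 := pow_omega_inj hF h3 h1 (by
    have := hχ tA
    change mat (ι' tA) i0 i0 = 1 at this
    rw [dK, Matrix.diagonal_apply_eq] at this
    simpa using this)
  have hLi : L i0 = 0 := pow_omega_inj hF h3 h1 (by
    have := hχ tB
    change mat (ι' tB) i0 i0 = 1 at this
    rw [dL, Matrix.diagonal_apply_eq] at this
    simpa using this)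
  set σ₀ := i0.succAbove
  have hsum : ∀ (g : Cfsg.SU 3 F 2) (E : Fin 4 → Fin 3), E i0 = 0 →
      mat (ι' g) = Matrix.diagonal (fun i => ω ^ (E i : ℕ)) →
        E (σ₀ 0) + E (σ₀ 1) + E (σ₀ 2) = 0 := fun g E hE hd => by
    have h : (mat (ι' g)).det = 1 := ((ι' g : Cfsg.SU 4 F 2) : Matrix.SpecialLinearGroup (Fin 4) F).2
    rw [hd, Matrix.det_diagonal, Fin.prod_univ_succAbove _ i0, hE, Fin.val_zero, pow_zero, one_mul,
      Fin.prod_univ_three, ← pow_add, ← pow_add] at h
    have := pow_omega_eq_one hF h3 h1 h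
    refine Fin.ext ?_
    simp only [Fin.val_add, Fin.val_zero, σ₀] at this ⊢
    omega
  have hnc : ∀ (g y : Cfsg.SU 3 F 2) (E : Fin 4 → Fin 3),
      mat (ι' g) = Matrix.diagonal (fun i => ω ^ (E i : ℕ)) → g * y ≠ y * g →
        ¬ ∀ j, E (σ₀ j) = E (σ₀ 0) := fun g y E hd hgy hc => by
    refine hgy (hι' (mat_injective (Matrix.ext fun i j => ?_)))
    rw [map_mul, map_mul, mat_mul, mat_mul, hd, Matrix.diagonal_mul, Matrix.mul_diagonal]
    by_cases hi : i = i0 <;> by_cases hj : j = i0
    · rw [hi, hj]; ring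
    · rw [hi, (hcol y j hj).2]; ring
    · rw [hj, (hcol y i hi).1]; ring
    · obtain ⟨a, rfl⟩ := Fin.exists_succAbove_eq hi
      obtain ⟨b, rfl⟩ := Fin.exists_succAbove_eq hj
      rw [hc a, hc b]; ring
  have e01 : suAct (emb c12 S) (Pi.single 1 1) = (Pi.single 2 1 : Fin 3 → F) := by
    rw [← c12_zero, suAct_emb_single, hS0, ext_single, c12_one]
  have e10 : suAct (emb c01 S) (Pi.single 0 1) = (Pi.single 1 1 : Fin 3 → F) := by
    rw [← c01_zero, suAct_emb_single, hS0, ext_single, c01_one]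
  have hKeq : ∀ (g : Cfsg.SU 3 F 2) (E E' : Fin 4 → Fin 3) (g' : Cfsg.SU 3 F 2),
      mat (ι' g) = Matrix.diagonal (fun i => ω ^ (E i : ℕ)) →
      mat (ι' g') = Matrix.diagonal (fun i => ω ^ (E' i : ℕ)) → E i0 = E' i0 →
      (∀ j, E (σ₀ j) = E' (σ₀ j)) → g = g' := fun g E E' g' h h' he hj => hι' (mat_injective (by
    rw [h, h']
    congr 1
    funext i
    rcases Fin.eq_self_or_eq_succAbove i0 i with rfl | ⟨a, rfl⟩
    · rw [he]
    · rw [hj a]))
  have dLL : mat (ι' (tA * tA)) = Matrix.diagonal fun i => ω ^ ((K i + K i : Fin 3) : ℕ) := by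
    rw [map_mul, mat_mul, dK, Matrix.diagonal_mul_diagonal]
    congr 1; funext i; rw [pow_omega_add h3]
  obtain ⟨a, c, hac, hba, hbc, hLa, hKc, hLne, hKne⟩ := exists_two_zeros (K ∘ σ₀) (L ∘ σ₀)
    (hsum tA K hKi dK) (hsum tB L hLi dL)
    (hnc tA (emb c12 S) K dK fun e => h1 (by
      have := congrArg (fun g => suAct g (Pi.single 1 1) 2) e
      simp only [suAct_mul, e01] at this
      rw [← mat_eq_suAct, dA] at this
      rw [show suAct tA (Pi.single 1 1) = (ω * ω) • Pi.single 1 1 from funext fun i => by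
        rw [← mat_eq_suAct, dA]; fin_cases i <;> simp, suAct_smul, e01] at this
      simp at this
      exact sq_one_two hF this.symm))
    (hnc tB (emb c01 S) L dL fun e => h1 (by
      have := congrArg (fun g => suAct g (Pi.single 0 1) 1) e
      simp only [suAct_mul, e10] at this
      rw [← mat_eq_suAct, dB] at this
      rw [show suAct tB (Pi.single 0 1) = Pi.single 0 1 from funext fun i => by
        rw [← mat_eq_suAct, dB]; fin_cases i <;> simp, e10] at this
      simpa using this))
    (fun e => h1 (by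
      have := congrArg (fun g => mat g 0 0)
        (hKeq tB L K tA dL dK (hLi.trans hKi.symm) (congrFun e))
      simp only [dA, dB] at this
      simpa using this.symm))
    (fun e => h1 (by
      have := congrArg (fun g => mat g 0 0)
        (hKeq tB L (fun i => K i + K i) (tA * tA) dL dLL (by rw [hLi, hKi]; rfl) (congrFun e))
      simp only [mat_mul, dA, dB, Matrix.diagonal_mul_diagonal] at this
      simp at this
      exact sq_one_two hF this.symm))
  obtain ⟨b, hb⟩ : ∃ b, b = -(a + c) := ⟨_, rfl⟩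
  rw [← hb] at hba hbc
  let σ : Fin 4 → Fin 4 := ![σ₀ a, σ₀ b, σ₀ c, i0]
  have hσ : Function.Injective σ := by
    have hinj : Function.Injective σ₀ := Fin.succAbove_right_injective
    have hne : ∀ j, σ₀ j ≠ i0 := fun j => Fin.succAbove_ne i0 j
    intro i j e
    fin_cases i <;> fin_cases j <;> simp [σ, hinj.eq_iff] at e ⊢ <;>
      first
        | exact absurd e hac
        | exact absurd e.symm hac
        | exact absurd e hba
        | exact absurd e.symm hba
        | exact absurd e hbc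
        | exact absurd e.symm hbc
        | exact absurd e (hne _)
        | exact absurd e.symm (hne _)
  obtain ⟨C₂, hC₂⟩ := exists_frame_equiv hF (hv.comp σ hσ)
  have hfix2 : ∀ y, C₂.symm (ι y) ∈ (emb b012 : Cfsg.SU 3 F 2 →* _).range := fun y => by
    rw [mem_range_emb_iff hF]
    intro l hl
    rw [mem_range_shift] at hl
    have hl3 : l = 3 := Fin.ext (by simp; omega)
    subst hl3
    have h := (hC (ι' y) i0 1).2 (by rw [one_smul]; exact hfix y)
    rw [hCι] at h
    have h' := (hC₂ (C₂.symm (ι y)) 3 1).1 (by rw [C₂.apply_symm_apply]; exact h)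
    rw [one_smul] at h'
    exact h'
  choose f hf using hfix2
  let β : Cfsg.SU 3 F 2 →* Cfsg.SU 3 F 2 := MonoidHom.mk' f fun y y' =>
    emb_injective b012 (by rw [map_mul, hf, hf, hf, map_mul, map_mul])
  have hβι : ∀ y, ι y = C₂ (emb b012 (β y)) := fun y => by
    show ι y = C₂ (emb b012 (f y)); rw [hf, C₂.apply_symm_apply]
  have hβd : ∀ (g : Cfsg.SU 3 F 2) (E : Fin 4 → Fin 3),
      (∀ i, suAct (ι g) (v i) = ω ^ (E i : ℕ) • v i) →
        mat (β g) = Matrix.diagonal fun j => ω ^ (E (σ (b012 j)) : ℕ) := fun g E h => by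
    refine Matrix.ext fun i j => ?_
    have h2 := (hC₂ (emb b012 (β g)) (b012 j) _).1 (by rw [← hβι]; exact h (σ (b012 j)))
    have h3 := congrFun h2 (b012 i)
    rw [← mat_eq_suAct, show mat (emb b012 (β g)) = blockMat b012 (mat (β g)) from rfl,
      blockMat_apply_on] at h3
    rw [h3]
    by_cases hij : i = j
    · subst hij; simp
    · simp [hij, b012.injective.eq_iff]
  refine ⟨v ∘ σ, C₂, β, hv.comp σ hσ, hC₂, fun y y' h => hι (by rw [hβι, hβι, h]), hβι,
    block_preserved hF (k := 2) (fun l hl => by rw [mem_range_shift] at hl; exact Fin.ext (by simp; omega))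
      hTt hall (hβd tA K fun i => (heig i).1) ?_ ?_,
    block_preserved hF (k := 0) (fun l hl => by rw [mem_range_shift] at hl; exact Fin.ext (by simp; omega))
      hTt hall (hβd tB L fun i => (heig i).2) ?_ ?_⟩
  · show ω ^ (K (σ₀ c) : ℕ) = 1
    rw [show K (σ₀ c) = 0 from hKc]; simp
  · intro j hj e
    have hK0 : K (σ (b012 j)) = 0 := pow_omega_inj hF h3 h1 (by simpa using e)
    fin_cases j
    · exact hKne a hac hK0
    · exact hKne _ hbc hK0
    · exact hj rfl
  · show ω ^ (L (σ₀ a) : ℕ) = 1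
    rw [show L (σ₀ a) = 0 from hLa]; simp
  · intro j hj e
    have hL0 : L (σ (b012 j)) = 0 := pow_omega_inj hF h3 h1 (by simpa using e)
    fin_cases j
    · exact hj rfl
    · exact hLne _ hba hL0
    · exact hLne c (Ne.symm hac) hL0

/-- An injective SU_3 in SU_4 is the restriction of an automorphism. -/
theorem exists_extend_two {ι : Cfsg.SU 3 F 2 →* Cfsg.SU 4 F 2} (hι : Function.Injective ι) :
    ∃ C : Cfsg.SU 4 F 2 ≃* Cfsg.SU 4 F 2, ∀ y, ι y = C (emb b012 y) := by
  obtain ⟨v, C, β, -, -, hβi, hβι, hA, hB⟩ := exists_std hF hι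
  obtain ⟨s, w, hw, hs⟩ := exists_twist_of_blocks hF hβi hA hB
  have hw4 : ∀ i, (Fin.snoc w 1 : Fin 4 → F) i ^ (2 + 1) = 1 := fun i => by
    induction i using Fin.lastCases with
    | last => rw [Fin.snoc_last, one_pow]
    | cast i => simpa using hw i
  let T := MulEquiv.ofBijective _ (twist_bijective hF s _ hw4)
  refine ⟨T.trans C, fun y => ?_⟩
  rw [hβι, hs]
  show C _ = C (twist hF s (Fin.snoc w 1) hw4 (emb b012 y))
  rw [twist_emb]
  congr 2
  refine mat_injective (Matrix.ext fun i j => ?_)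
  have q : ∀ k, ((Fin.snoc w 1 : Fin 4 → F) ∘ b012) k = w k := fun k => by
    rw [Function.comp_apply, show b012 k = Fin.castSucc k from Fin.ext (by simp [shift_val]),
      Fin.snoc_castSucc]
  rw [twist_apply, twist_apply, q, q]

variable {G : Type*} [Group G]

/-- Consecutive parametrisations with commuting outer blocks are injective. -/
theorem injective_pair {φ φ' : Cfsg.SU 3 F 2 →* G} {V W A B C : Subgroup G}
    (hφ : IsGood φ V A B) (hφ' : IsGood φ' W B C)
    (hcomm : ∀ x ∈ A, ∀ y ∈ C, x * y = y * x) : Function.Injective φ ∧ Function.Injective φ' := by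
  obtain ⟨ω, T, S, h3, h1, h0, hT, hTt, -, -, hS1, hS0, -⟩ := exists_gens hF
  have a1 : suAct (emb c12 S) (Pi.single 2 1) = (Pi.single 1 1 : Fin 3 → F) := by
    rw [← c12_one, suAct_emb_single, hS1, ext_single, c12_zero]
  have a0 : suAct (emb c12 S) (Pi.single 0 1) = (Pi.single 0 1 : Fin 3 → F) :=
    suAct_emb_single_off hF _ _ (by rw [mem_range_shift]; simp)
  have b0 : suAct (emb c01 S) (Pi.single 0 1) = (Pi.single 1 1 : Fin 3 → F) := by
    rw [← c01_zero, suAct_emb_single, hS0, ext_single, c01_one]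
  have b2 : suAct (emb c01 S) (Pi.single 2 1) = (Pi.single 2 1 : Fin 3 → F) :=
    suAct_emb_single_off hF _ _ (by rw [mem_range_shift]; simp)
  have dcol : ∀ {g : Cfsg.SU 3 F 2} {u : Fin 3 → F}, mat g = Matrix.diagonal u →
      ∀ l, suAct g (Pi.single l 1) = u l • Pi.single l 1 := fun {g u} hu l => funext fun i => by
    rw [← mat_eq_suAct, hu]
    by_cases h : i = l
    · subst h; simp
    · simp [h]
  -- a diagonal of one block and an involution of the other: their commutator is in the latter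
  have key : ∀ (ψ : Cfsg.SU 3 F 2 →* G) (e : Fin 2 ↪ Fin 3) (k : Fin 3), k ∉ Set.range e →
      (∀ l, l ∉ Set.range e → l = k) → Function.Injective (ψ.comp (emb e)) →
      ∀ (g : Cfsg.SU 3 F 2) (u : Fin 3 → F), mat g = Matrix.diagonal u →
      ψ g * ψ (emb e S) = ψ (emb e S) * ψ g → g * emb e S = emb e S * g := by
    intro ψ e k hk hk' hinj g u hu hc
    have hfix : g * emb e S * g⁻¹ * (emb e S)⁻¹ ∈ (emb e : Cfsg.SU 2 F 2 →* _).range := by
      rw [mem_range_emb_iff hF]
      intro l hl
      obtain rfl := hk' l hl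
      have hs := suAct_emb_single_off hF e S hl
      have hgl := dcol hu l
      have hgi := suAct_inv_of hgl
      rw [suAct_smul] at hgi
      rw [suAct_mul, suAct_inv_of hs, suAct_mul, suAct_mul]
      have hu0 : u l ≠ 0 := fun e => by
        have hd : (mat g).det = 1 := (g : Matrix.SpecialLinearGroup (Fin 3) F).2
        rw [hu, Matrix.det_diagonal] at hd
        exact zero_ne_one ((Finset.prod_eq_zero (Finset.mem_univ l) e).symm.trans hd)
      rw [(eq_inv_smul_iff₀ hu0).2 hgi, suAct_smul, suAct_smul, hs, hgl, inv_smul_smul₀ hu0]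
    obtain ⟨z, hz⟩ := hfix
    have hz1 : z = 1 := hinj (by
      rw [MonoidHom.comp_apply, MonoidHom.comp_apply, hz, map_one, map_one, map_mul, map_mul,
        map_mul, map_inv, map_inv, hc, mul_inv_cancel_right, mul_inv_cancel])
    rw [hz1, map_one, eq_comm, mul_inv_eq_one, mul_inv_eq_iff_eq_mul] at hz
    exact hz
  constructor
  · refine (injective_or_kills hF φ hφ.left_inj hφ.right_inj).resolve_right ?_
    rintro ⟨t, ht, ht1, he⟩
    obtain ⟨u, hu⟩ : φ (emb c12 t) ∈ (φ'.comp (emb c01)).range := by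
      rw [hφ'.left_eq, ← hφ.right_eq]; exact ⟨t, rfl⟩
    have hu3 : u ^ 3 = 1 := hφ'.left_inj (by
      rw [map_pow, hu, ← map_pow, ← map_pow, tor_cube hF ht, map_one, map_one, map_one])
    have hut := mem_tor_of_cube hF hu3
    have hd := (diag_tor hF hut).1
    have hc : φ' (emb c01 u) * φ' (emb c12 S) = φ' (emb c12 S) * φ' (emb c01 u) := by
      refine hcomm _ ?_ _ (hφ'.right_eq ▸ ⟨S, rfl⟩)
      rw [show φ' (emb c01 u) = φ (emb c12 t) from hu, ← he, ← hφ.left_eq]
      exact ⟨t, rfl⟩
    have h := congrArg (fun g => suAct g (Pi.single 2 1) 1)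
      (key φ' c12 0 (by rw [mem_range_shift]; simp)
        (fun l hl => by rw [mem_range_shift] at hl; exact Fin.ext (by simp; omega))
        hφ'.right_inj _ _ hd hc)
    simp [suAct_mul, a1, dcol hd] at h
    have hu1 : u = 1 := two_fix hF (by
      rw [← one_smul F (Pi.single 1 1 : Fin 2 → F), suAct_smul]
      congr 1
      funext i
      rw [← mat_eq_suAct, tor_diag hF hut]
      fin_cases i <;> simp [h])
    exact ht1 (hφ.right_inj (by rw [MonoidHom.comp_apply, ← hu, hu1, map_one, map_one]))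
  · refine (injective_or_kills hF φ' hφ'.left_inj hφ'.right_inj).resolve_right ?_
    rintro ⟨t, ht, ht1, he⟩
    obtain ⟨u, hu⟩ : φ' (emb c01 t) ∈ (φ.comp (emb c12)).range := by
      rw [hφ.right_eq, ← hφ'.left_eq]; exact ⟨t, rfl⟩
    have hu3 : u ^ 3 = 1 := hφ.right_inj (by
      rw [map_pow, hu, ← map_pow, ← map_pow, tor_cube hF ht, map_one, map_one, map_one])
    have hut := mem_tor_of_cube hF hu3
    have hd := (diag_tor hF hut).2
    have hc : φ (emb c12 u) * φ (emb c01 S) = φ (emb c01 S) * φ (emb c12 u) := by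
      refine (hcomm _ (hφ.left_eq ▸ ⟨S, rfl⟩) _ ?_).symm
      rw [show φ (emb c12 u) = φ' (emb c01 t) from hu, he, ← hφ'.right_eq]
      exact ⟨t, rfl⟩
    have h := congrArg (fun g => suAct g (Pi.single 0 1) 1)
      (key φ c01 2 (by rw [mem_range_shift]; simp)
        (fun l hl => by rw [mem_range_shift] at hl; exact Fin.ext (by simp; omega))
        hφ.left_inj _ _ hd hc)
    simp [suAct_mul, b0, dcol hd] at h
    have hu1 : u = 1 := su_two_ext hF (funext fun i => by
      rw [← mat_eq_suAct, tor_diag hF hut, suAct_one]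
      fin_cases i <;> simp [h])
    exact ht1 (hφ'.left_inj (by rw [MonoidHom.comp_apply, ← hu, hu1, map_one, map_one]))

/-- A unit vector supported on two given coordinates is supported on one. -/
theorem support_two {x : Fin 4 → F} (hx : Cfsg.hermForm 4 F 2 x x = 1) {i j k l : Fin 4}
    (hperm : ∀ f : Fin 4 → F, ∑ a, f a = f i + f j + f k + f l) (hk : x k = 0) (hl : x l = 0) :
    x i = 0 ∨ x j = 0 := by
  refine sum_norm_two hF ?_
  simp only [Cfsg.hermForm] at hx
  rw [hperm, hk, hl] at hx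
  linear_combination hx

/-- A surjection from SU_4 gives a parametrisation of a window extending a given one. -/
theorem exists_window {φ φ' : Cfsg.SU 3 F 2 →* G} {V W A B C : Subgroup G}
    (hφ : IsGood φ V A B) (hφ' : IsGood φ' W B C)
    (hcomm : ∀ x ∈ A, ∀ y ∈ C, x * y = y * x)
    (g : Cfsg.SU 4 F 2 →* G) (hg : g.range = V ⊔ W) :
    ∃ h : Cfsg.SU 4 F 2 →* G, h.comp (emb b012) = φ ∧ IsGood (h.comp (emb b123)) W B C := by
  classical
  obtain ⟨hinj, hinj'⟩ := injective_pair hF hφ hφ' hcomm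
  obtain ⟨ω, T, S, h3, h1, h0, hT, hTt, hT1, hS00, hS1, hS0, hall⟩ := exists_gens hF
  have hg1 : g ≠ 1 := fun e => by
    have hmem : φ (emb c01 T) ∈ g.range := hg ▸ Subgroup.mem_sup_left (hφ.range_eq ▸ ⟨_, rfl⟩)
    obtain ⟨y, hy⟩ := hmem
    rw [e, MonoidHom.one_apply] at hy
    exact hT1 (hφ.left_inj (by rw [MonoidHom.comp_apply, ← hy, map_one]))
  have hgi : Function.Injective g := by
    have := isSimpleGroup_PSU (n := 4) hF (Or.inl le_rfl)
    set Z := Subgroup.center (Cfsg.SU 4 F 2)
    have hZ : Z = ⊥ := by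
      rw [← Subgroup.card_eq_one, card_center_SU hF (by omega)]
      norm_num
    have hn : (g.ker.map (QuotientGroup.mk' Z)).Normal :=
      Subgroup.Normal.map inferInstance _ (QuotientGroup.mk'_surjective _)
    rw [← MonoidHom.ker_eq_bot_iff]
    rcases hn.eq_bot_or_eq_top with h | h
    · rw [Subgroup.map_eq_bot_iff, QuotientGroup.ker_mk', hZ, le_bot_iff] at h
      exact h
    · exfalso
      have := congrArg (Subgroup.comap (QuotientGroup.mk' Z)) h
      rw [Subgroup.comap_map_eq, QuotientGroup.ker_mk', Subgroup.comap_top, hZ, sup_bot_eq] at this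
      exact hg1 (MonoidHom.ker_eq_top_iff.1 this)
  have lift : ∀ (ψ : Cfsg.SU 3 F 2 →* G), Function.Injective ψ → ψ.range ≤ g.range →
      ∃ ι : Cfsg.SU 3 F 2 →* Cfsg.SU 4 F 2, Function.Injective ι ∧ ∀ y, g (ι y) = ψ y := by
    intro ψ hψ hle
    choose f hf using fun y => hle ⟨y, rfl⟩
    refine ⟨MonoidHom.mk' f fun a b => hgi (by rw [map_mul, hf, hf, hf, map_mul]), ?_, hf⟩
    intro a b e
    exact hψ (by rw [← hf, ← hf]; exact congrArg g e)
  obtain ⟨ι, hι, hιφ⟩ := lift φ hinj (by rw [hg, hφ.range_eq]; exact le_sup_left)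
  obtain ⟨Φ, hΦ⟩ := exists_extend_two hF hι
  set h := g.comp Φ.toMonoidHom
  have hhi : Function.Injective h := hgi.comp Φ.injective
  have hL : h.comp (emb b012) = φ := MonoidHom.ext fun y => by
    show g (Φ (emb b012 y)) = _
    rw [← hΦ, hιφ]
  refine ⟨h, hL, ?_⟩
  have hL12 : ∀ x, h (emb d12 x) = φ (emb c12 x) := fun x => by
    rw [← hL]
    show h (emb d12 x) = h (emb b012 (emb c12 x))
    rw [emb_comp, shift_trans]
  have hL01 : ∀ x, h (emb d01 x) = φ (emb c01 x) := fun x => by
    rw [← hL]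
    show h (emb d01 x) = h (emb b012 (emb c01 x))
    rw [emb_comp, shift_trans]
  obtain ⟨ι₁, hι₁, hι₁φ⟩ := lift φ' hinj' (by rw [hg, hφ'.range_eq]; exact le_sup_right)
  let ι' := Φ.symm.toMonoidHom.comp ι₁
  have hι' : Function.Injective ι' := Φ.symm.injective.comp hι₁
  have hι'φ : ∀ y, h (ι' y) = φ' y := fun y => by
    show g (Φ (Φ.symm (ι₁ y))) = _
    rw [Φ.apply_symm_apply, hι₁φ]
  obtain ⟨v, K, β, hv, hK, hβi, hβι, hβA, hβB⟩ := exists_std hF hι'
  have hfix : ∀ (y : Cfsg.SU 3 F 2) (i : Fin 4),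
      suAct (emb b012 (β y)) (Pi.single i 1) = Pi.single i 1 →
        suAct (ι' y) (v i) = v i := fun y i e => by
    have := (hK (emb b012 (β y)) i 1).2 (by rw [one_smul]; exact e)
    rwa [← hβι, one_smul] at this
  have hv3 : ∀ y, suAct (ι' y) (v 3) = v 3 := fun y =>
    hfix y 3 (suAct_emb_single_off hF _ _ (by rw [mem_range_shift]; simp))
  have hv2 : ∀ x, suAct (ι' (emb c01 x)) (v 2) = v 2 := fun x => by
    obtain ⟨z, hz⟩ := hβA x
    refine hfix _ 2 ?_
    rw [← hz, emb_comp, shift_trans]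
    exact suAct_emb_single_off hF _ _ (by rw [mem_range_shift]; simp)
  have hv0 : ∀ x, suAct (ι' (emb c12 x)) (v 0) = v 0 := fun x => by
    obtain ⟨z, hz⟩ := hβB x
    refine hfix _ 0 ?_
    rw [← hz, emb_comp, shift_trans]
    exact suAct_emb_single_off hF _ _ (by rw [mem_range_shift]; simp)
  -- the middle block
  have hB : ∀ x, ∃ x', ι' (emb c01 x') = emb d12 x := fun x => by
    obtain ⟨x', hx'⟩ : φ (emb c12 x) ∈ (φ'.comp (emb c01)).range := by
      rw [hφ'.left_eq, ← hφ.right_eq]; exact ⟨x, rfl⟩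
    exact ⟨x', hhi (by rw [hι'φ, hL12]; exact hx')⟩
  have col : ∀ {g : Cfsg.SU 4 F 2} {u : Fin 4 → F}, mat g = Matrix.diagonal u →
      ∀ (y : Fin 4 → F) l, suAct g y l = u l * y l := fun {g u} hu y l => by
    show (mat g *ᵥ y) l = _
    rw [hu, Matrix.mulVec_diagonal]
  have dT12 : mat (emb d12 T) = Matrix.diagonal ![1, ω, ω * ω, 1] :=
    emb_diag hF hT (fun i => by fin_cases i <;> rfl)
      (fun k hk => by rw [mem_range_shift] at hk; fin_cases k <;> simp at hk ⊢)
  have dT01 : mat (emb d01 T) = Matrix.diagonal ![ω, ω * ω, 1, 1] :=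
    emb_diag hF hT (fun i => by fin_cases i <;> rfl)
      (fun k hk => by rw [mem_range_shift] at hk; fin_cases k <;> simp at hk ⊢)
  have hw2 : ω * ω ≠ 1 := fun e => h1 (sq_one_two hF e)
  have hmid : ∀ y, suAct (emb d12 T) y = y → y 1 = 0 ∧ y 2 = 0 := fun y hy => by
    have e1 := congrFun hy 1
    have e2 := congrFun hy 2
    rw [col dT12] at e1 e2
    constructor
    · exact (mul_eq_zero.1 (show (ω - 1) * y 1 = 0 by simp at e1; linear_combination e1)).resolve_left
        (sub_ne_zero.2 h1)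
    · exact (mul_eq_zero.1 (show (ω * ω - 1) * y 2 = 0 by simp at e2; linear_combination e2)).resolve_left
        (sub_ne_zero.2 hw2)
  obtain ⟨T', hT'⟩ := hB T
  have m3 := hmid (v 3) (by rw [← hT']; exact hv3 _)
  have m2 := hmid (v 2) (by rw [← hT']; exact hv2 _)
  set X := ι' (emb c12 S)
  have hX1 : X ≠ 1 := fun e => by
    have : emb c12 S = 1 := hι' (e.trans (map_one _).symm)
    rw [← map_one (emb c12)] at this
    exact anti_ne_one hS00 (emb_injective _ this)
  have hXX : X * X = 1 := by rw [← map_mul, ← map_mul, anti_sq hF hS00, map_one, map_one]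
  have hXc : ∀ x, X * emb d01 x = emb d01 x * X := fun x => hhi (by
    rw [map_mul, map_mul, hι'φ, hL01]
    exact (hcomm _ (hφ.left_eq ▸ ⟨x, rfl⟩) _ (hφ'.right_eq ▸ ⟨S, rfl⟩)).symm)
  have hXfix : ∀ l, (∀ j, j ≠ l → suAct X (Pi.single l 1) j = 0) →
      suAct X (Pi.single l 1) = Pi.single l 1 := fun l hl => by
    set c := suAct X (Pi.single l 1) l
    have e : suAct X (Pi.single l 1) = c • Pi.single l 1 := funext fun j => by
      by_cases h : j = l
      · subst h; simp [c]
      · simp [hl j h, h]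
    have e2 : suAct X (suAct X (Pi.single l 1)) = Pi.single l 1 := by
      rw [← suAct_mul, hXX, suAct_one]
    rw [e, suAct_smul, e, smul_smul] at e2
    have h' := congrFun e2 l
    simp at h'
    rw [e, sq_one_two hF h', one_smul]
  have hcomp : ∀ i j, suAct X (Pi.single i 1) = Pi.single i 1 → i ≠ j →
      suAct X (Pi.single j 1) i = 0 := fun i j hi hij => by
    have h := suAct_herm X (Pi.single j 1) (Pi.single i 1)
    rw [hi, hermForm_single hF, hermForm_single hF, Pi.single_eq_of_ne hij] at h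
    exact h
  have hXone : (∀ l, suAct X (Pi.single l 1) = Pi.single l 1) → False := fun h =>
    hX1 (su_ext_single fun l => by rw [h l, suAct_one])
  have perm : ∀ f : Fin 4 → F, ∑ a, f a = f 0 + f 3 + f 1 + f 2 := fun f => by
    rw [Fin.sum_univ_four]; ring
  have hsingle : ∀ (y : Fin 4 → F) (a : Fin 4), Cfsg.hermForm 4 F 2 y y = 1 →
      (∀ j, j ≠ a → y j = 0) → y a ≠ 0 ∧
        ∀ g : Cfsg.SU 4 F 2, suAct g y = y → suAct g (Pi.single a 1) = Pi.single a 1 := by
    intro y a hy hj
    have e : y = y a • Pi.single a 1 := funext fun j => by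
      by_cases h : j = a
      · subst h; simp
      · simp [hj j h, h]
    have hya : y a ≠ 0 := fun h0' => by
      rw [e, h0', zero_smul, (hH hF).zero_left] at hy
      exact zero_ne_one hy
    refine ⟨hya, fun g hgy => ?_⟩
    rw [e, suAct_smul] at hgy
    exact smul_right_injective _ hya hgy
  have hv30 : v 3 3 = 0 := by
    rcases support_two hF (hv.1 3) perm m3.1 m3.2 with h30 | h33
    swap
    · exact h33
    exfalso
    have hX3 := (hsingle (v 3) 3 (hv.1 3) (fun j hj => by
      fin_cases j <;> first | exact h30 | exact m3.1 | exact m3.2 | exact absurd rfl hj)).2 X (hv3 _)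
    have hd : ∀ i j : Fin 4, (![ω, ω * ω, 1, 1] : Fin 4 → F) i ≠ ![ω, ω * ω, 1, 1] j →
        suAct X (Pi.single j 1) i = 0 := fun i j hij => by
      have h := congrFun (congrFun (congrArg mat (hXc T)) i) j
      rw [mat_mul, mat_mul, dT01, Matrix.mul_diagonal, Matrix.diagonal_mul] at h
      rw [← mat_eq_suAct]
      exact (mul_eq_zero.1 (show ((![ω, ω * ω, 1, 1] : Fin 4 → F) i - ![ω, ω * ω, 1, 1] j) *
        mat X i j = 0 by linear_combination -h)).resolve_left (sub_ne_zero.2 hij)
    have hw : ω ≠ ω * ω := fun e => h1 (mul_left_cancel₀ h0 (e.symm.trans (mul_one ω).symm))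
    refine hXone fun l => hXfix l fun j hj => ?_
    by_cases h' : j = 3
    · subst h'; exact hcomp 3 l hX3 hj
    by_cases h'' : l = 3
    · subst h''; rw [hX3, Pi.single_eq_of_ne hj]
    refine hd j l ?_
    fin_cases j <;> fin_cases l <;>
      first
        | exact absurd rfl hj
        | exact absurd rfl h'
        | exact absurd rfl h''
        | exact hw
        | exact hw.symm
        | exact h1
        | exact h1.symm
        | exact hw2
        | exact hw2.symm
  have h3' := hsingle (v 3) 0 (hv.1 3) (fun j hj => by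
    fin_cases j <;> first | exact absurd rfl hj | exact hv30 | exact m3.1 | exact m3.2)
  have horth : ∀ (y : Fin 4 → F) (i a : Fin 4), Cfsg.hermForm 4 F 2 y (v i) = 0 →
      v i a ≠ 0 → (∀ j, j ≠ a → v i j = 0) → y a = 0 := fun y i a h ha hj => by
    rw [Cfsg.hermForm, Finset.sum_eq_single a (fun j _ hja => by
      rw [hj j hja, zero_pow_q hF, mul_zero]) (by simp)] at h
    exact (mul_eq_zero.1 h).resolve_right (pow_ne_zero _ ha)
  have hv3j : ∀ j, j ≠ 0 → v 3 j = 0 := fun j hj => by
    fin_cases j <;> first | exact absurd rfl hj | exact hv30 | exact m3.1 | exact m3.2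
  have h20 : v 2 0 = 0 := horth _ 3 0 (hv.2 (show (2 : Fin 4) ≠ 3 by decide)) h3'.1 hv3j
  have hv2j : ∀ j, j ≠ 3 → v 2 j = 0 := fun j hj => by
    fin_cases j <;> first | exact absurd rfl hj | exact h20 | exact m2.1 | exact m2.2
  have h2' := hsingle (v 2) 3 (hv.1 2) hv2j
  have h00 : v 0 0 = 0 := horth _ 3 0 (hv.2 (show (0 : Fin 4) ≠ 3 by decide)) h3'.1 hv3j
  have h03 : v 0 3 = 0 := horth _ 2 3 (hv.2 (show (0 : Fin 4) ≠ 2 by decide)) h2'.1 hv2j
  have hX0 : suAct X (Pi.single 0 1) = Pi.single 0 1 := h3'.2 X (hv3 _)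
  have hv02 : v 0 2 = 0 := by
    rcases support_two hF (hv.1 0) (i := 1) (j := 2) (k := 0) (l := 3)
      (fun f => by rw [Fin.sum_univ_four]; ring) h00 h03 with h01 | h02
    swap
    · exact h02
    exfalso
    have hX2 := (hsingle (v 0) 2 (hv.1 0) (fun j hj => by
      fin_cases j <;> first | exact absurd rfl hj | exact h00 | exact h01 | exact h03)).2 X (hv0 _)
    have hs : suAct (emb d01 S) (Pi.single 0 1) = (Pi.single 1 1 : Fin 4 → F) := by
      rw [← d01_zero, suAct_emb_single, hS0, ext_single, d01_one]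
    have hX1' : suAct X (Pi.single 1 1) = Pi.single 1 1 := by
      rw [← hs, ← suAct_mul, hXc, suAct_mul, hX0]
    refine hXone fun l => ?_
    fin_cases l
    · exact hX0
    · exact hX1'
    · exact hX2
    · refine hXfix 3 fun j hj => ?_
      fin_cases j
      · exact hcomp 0 3 hX0 (by decide)
      · exact hcomp 1 3 hX1' (by decide)
      · exact hcomp 2 3 hX2 (by decide)
      · exact absurd rfl hj
  have h0' := hsingle (v 0) 1 (hv.1 0) (fun j hj => by
    fin_cases j <;> first | exact absurd rfl hj | exact h00 | exact hv02 | exact h03)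
  -- the last triple and the last block
  have hr : ι'.range = (emb b123 : Cfsg.SU 3 F 2 →* _).range := by
    refine Subgroup.eq_of_le_of_card_ge (by
      rintro _ ⟨y, rfl⟩
      rw [mem_range_emb_iff hF]
      intro l hl
      rw [mem_range_shift] at hl
      obtain rfl : l = 0 := Fin.ext (by simp; omega)
      exact h3'.2 _ (hv3 y)) ?_
    rw [Nat.card_congr (MonoidHom.ofInjective hι').symm.toEquiv,
      Nat.card_congr (MonoidHom.ofInjective (emb_injective b123)).symm.toEquiv]
  have hr2 : (ι'.comp (emb c12)).range = (emb d23 : Cfsg.SU 2 F 2 →* _).range := by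
    refine Subgroup.eq_of_le_of_card_ge (by
      rintro _ ⟨y, rfl⟩
      rw [mem_range_emb_iff hF]
      intro l hl
      rw [mem_range_shift] at hl
      rcases (show l = 0 ∨ l = 1 by
        rcases l with ⟨l, _⟩; simp [Fin.ext_iff] at hl ⊢; omega) with rfl | rfl
      · exact h3'.2 _ (hv3 _)
      · exact h0'.2 _ (hv0 y)) ?_
    rw [Nat.card_congr (MonoidHom.ofInjective
        (show Function.Injective (ι'.comp (emb c12)) from hι'.comp (emb_injective _))).symm.toEquiv,
      Nat.card_congr (MonoidHom.ofInjective (emb_injective d23)).symm.toEquiv]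
  have e01 : (h.comp (emb b123)).comp (emb c01) = φ.comp (emb c12) := MonoidHom.ext fun x => by
    show h (emb b123 (emb c01 x)) = φ (emb c12 x)
    rw [emb_comp, shift_trans, ← hL12]
  have e12 : (h.comp (emb b123)).comp (emb c12) = h.comp (emb d23) := by
    rw [MonoidHom.comp_assoc, emb_comp_hom, shift_trans]
  have hcomp' : h.comp ι' = φ' := MonoidHom.ext hι'φ
  refine ⟨?_, by rw [e01, hφ.right_eq], ?_, by rw [e01]; exact hφ.right_inj, ?_⟩
  · rw [MonoidHom.range_comp, ← hr, ← MonoidHom.range_comp, hcomp', hφ'.range_eq]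
  · rw [e12, MonoidHom.range_comp, ← hr2, ← MonoidHom.range_comp, ← MonoidHom.comp_assoc, hcomp',
      hφ'.right_eq]
  · rw [e12]; exact hhi.comp (emb_injective _)

end Cfsg.Agent.Phan
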