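/-
Induction along a weak Phan system over four elements.

* `ChainTwo`: the first m+4 coordinates are parametrised.
* `chain_two_base`, `chain_two_step`, `exists_chain_two`.
-/
import Cfsg.Agent.Lib.Phan.TwoWindow

set_option autoImplicit false

namespace Cfsg.Agent.Phan

open Cfsg.Agent.Unitary

variable {F : Type*} [Field F] {G : Type*} [Group G]

/-- A parametrisation of the first m+4 coordinates with all windows standard. -/
structure ChainTwo (U V : ℕ → Subgroup G) (m : ℕ) (ψ : Cfsg.SU (m + 4) F 2 →* G) : Prop where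
  block : ∀ (i : ℕ) (h : i + 2 ≤ m + 4), (ψ.comp (emb (shift i 2 (m + 4) h))).range = U i
  window : ∀ (i : ℕ) (h : i + 3 ≤ m + 4), (ψ.comp (emb (shift i 3 (m + 4) h))).range = V i
  last : IsGood (ψ.comp (emb (shift (m + 1) 3 (m + 4) (by omega)))) (V (m + 1)) (U (m + 1)) (U (m + 2))

variable [Fintype F] (hF : Fintype.card F = 2 ^ 2)
include hF

theorem chain_two_base {U V : ℕ → Subgroup G} {φ φ' : Cfsg.SU 3 F 2 →* G}
    (hφ : IsGood φ (V 0) (U 0) (U 1)) (hφ' : IsGood φ' (V 1) (U 1) (U 2))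
    (hcomm : ∀ x ∈ U 0, ∀ y ∈ U 2, x * y = y * x)
    (g : Cfsg.SU 4 F 2 →* G) (hg : g.range = V 0 ⊔ V 1) :
    ∃ ψ : Cfsg.SU (0 + 4) F 2 →* G, ChainTwo U V 0 ψ := by
  obtain ⟨h, hL, hR⟩ := exists_window hF hφ hφ' hcomm g hg
  have e01 : h.comp (emb d01) = φ.comp (emb c01) := by
    rw [← hL, MonoidHom.comp_assoc, emb_comp_hom, shift_trans]
  have e12 : h.comp (emb d12) = φ.comp (emb c12) := by
    rw [← hL, MonoidHom.comp_assoc, emb_comp_hom, shift_trans]
  have e23 : h.comp (emb d23) = (h.comp (emb b123)).comp (emb c12) := by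
    rw [MonoidHom.comp_assoc, emb_comp_hom, shift_trans]
  refine ⟨h, fun i hi => ?_, fun i hi => ?_, hR⟩
  · rcases (show i = 0 ∨ i = 1 ∨ i = 2 by omega) with rfl | rfl | rfl
    · exact (congrArg MonoidHom.range e01).trans hφ.left_eq
    · exact (congrArg MonoidHom.range e12).trans hφ.right_eq
    · exact (congrArg MonoidHom.range e23).trans hR.right_eq
  · rcases (show i = 0 ∨ i = 1 by omega) with rfl | rfl
    · exact (congrArg MonoidHom.range hL).trans hφ.range_eq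
    · exact hR.range_eq

theorem chain_two_step {U V : ℕ → Subgroup G} {m : ℕ} {ψ : Cfsg.SU (m + 4) F 2 →* G}
    (hψ : ChainTwo U V m ψ) {φ' : Cfsg.SU 3 F 2 →* G}
    (hφ' : IsGood φ' (V (m + 2)) (U (m + 2)) (U (m + 3)))
    (hUU : ∀ x ∈ U (m + 1), ∀ y ∈ U (m + 3), x * y = y * x)
    (hVU : ∀ i, i ≤ m → ∀ x ∈ V i, ∀ y ∈ U (m + 3), x * y = y * x)
    (hVV : ∀ i, i + 1 ≤ m → ∀ x ∈ V i, ∀ y ∈ V (m + 2), x * y = y * x)
    (hUV : ∀ x ∈ U 0, ∀ y ∈ V (m + 2), x * y = y * x)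
    (g : Cfsg.SU 4 F 2 →* G) (hg : g.range = V (m + 1) ⊔ V (m + 2)) :
    ∃ Ψ : Cfsg.SU (m + 1 + 4) F 2 →* G, ChainTwo U V (m + 1) Ψ := by
  obtain ⟨χ, hL, hR⟩ := exists_window hF hψ.last hφ' hUU g hg
  have hK : ∀ k h, Commute (ψ (emb (aK m) k)) (χ (emb d23 h)) := by
    intro k x
    have hy : χ (emb d23 x) ∈ U (m + 3) := by
      rw [← hR.right_eq, MonoidHom.comp_assoc, emb_comp_hom, shift_trans]; exact ⟨x, rfl⟩
    have hle : gen3 (m + 3) F 2 ≤
        (Subgroup.centralizer {χ (emb d23 x)}).comap (ψ.comp (emb (aK m))) := by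
      refine iSup₂_le fun i hi => ?_
      rintro _ ⟨z, rfl⟩
      rw [Subgroup.mem_comap, Subgroup.mem_centralizer_iff]
      rintro _ rfl
      refine (hVU i (by omega) _ ?_ _ hy).symm
      rw [← hψ.window i (by omega), MonoidHom.comp_apply, emb_comp, shift_trans]
      simp only [Nat.zero_add]
      exact ⟨z, rfl⟩
    have := hle (show k ∈ gen3 (m + 3) F 2 by rw [gen3_top hF (by omega)]; trivial)
    rw [Subgroup.mem_comap, Subgroup.mem_centralizer_iff] at this
    exact (this _ rfl).symm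
  have hS : ∀ k h, Commute (ψ (emb (aS m) k)) (χ (emb b123 h)) := by
    intro k x
    have hy : χ (emb b123 x) ∈ V (m + 2) := by rw [← hR.range_eq]; exact ⟨x, rfl⟩
    rcases Nat.eq_zero_or_pos m with rfl | hm
    · refine hUV _ ?_ _ hy
      rw [← hψ.block 0 (by omega)]
      exact ⟨k, rfl⟩
    have hle : gen3 (m + 2) F 2 ≤
        (Subgroup.centralizer {χ (emb b123 x)}).comap (ψ.comp (emb (aS m))) := by
      refine iSup₂_le fun i hi => ?_
      rintro _ ⟨z, rfl⟩
      rw [Subgroup.mem_comap, Subgroup.mem_centralizer_iff]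
      rintro _ rfl
      refine (hVV i (by omega) _ ?_ _ hy).symm
      rw [← hψ.window i (by omega), MonoidHom.comp_apply, emb_comp, shift_trans]
      simp only [Nat.zero_add]
      exact ⟨z, rfl⟩
    have := hle (show k ∈ gen3 (m + 2) F 2 by rw [gen3_top hF (by omega)]; trivial)
    rw [Subgroup.mem_comap, Subgroup.mem_centralizer_iff] at this
    exact (this _ rfl).symm
  obtain ⟨Ψ, h1, h2⟩ := exists_glue2 hF rfl ψ χ
    (fun g => by rw [← MonoidHom.comp_apply χ, hL]; rfl) hK hS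
  have hlast : Ψ.comp (emb (shift (m + 1 + 1) 3 (m + 1 + 4) (by omega))) = χ.comp (emb b123) := by
    rw [← h2, MonoidHom.comp_assoc, emb_comp_hom, shift_trans]
  refine ⟨Ψ, fun i hi => ?_, fun i hi => ?_, by rw [hlast]; exact hR⟩
  · by_cases h : i + 2 ≤ m + 4
    · rw [← hψ.block i h, ← h1, MonoidHom.comp_assoc, emb_comp_hom, shift_trans]
      congr 3
      exact Function.Embedding.ext fun j => Fin.ext (by simp [shift_val])
    · obtain rfl : i = m + 3 := by omega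
      rw [← hR.right_eq, ← h2, MonoidHom.comp_assoc, MonoidHom.comp_assoc, emb_comp_hom,
        emb_comp_hom, shift_trans, shift_trans]
  · by_cases h : i + 3 ≤ m + 4
    · rw [← hψ.window i h, ← h1, MonoidHom.comp_assoc, emb_comp_hom, shift_trans]
      congr 3
      exact Function.Embedding.ext fun j => Fin.ext (by simp [shift_val])
    · obtain rfl : i = m + 2 := by omega
      rw [← hR.range_eq]
      exact congrArg MonoidHom.range hlast

/-- A weak Phan system over four elements gives a parametrisation of all coordinates. -/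
theorem exists_chain_two {U V : ℕ → Subgroup G} (m : ℕ)
    (hUU : ∀ i j, i + 2 ≤ j → j ≤ m + 2 → ∀ x ∈ U i, ∀ y ∈ U j, x * y = y * x)
    (hVU : ∀ i j, i + 3 ≤ j → j ≤ m + 2 → ∀ x ∈ V i, ∀ y ∈ U j, x * y = y * x)
    (hUV : ∀ i j, i + 2 ≤ j → j ≤ m + 1 → ∀ x ∈ U i, ∀ y ∈ V j, x * y = y * x)
    (hVV : ∀ i j, i + 3 ≤ j → j ≤ m + 1 → ∀ x ∈ V i, ∀ y ∈ V j, x * y = y * x)
    (hpair : ∀ i, i ≤ m + 1 → ∃ φ : Cfsg.SU 3 F 2 →* G, IsGood φ (V i) (U i) (U (i + 1)))
    (hwin : ∀ i, i ≤ m → ∃ g : Cfsg.SU 4 F 2 →* G, g.range = V i ⊔ V (i + 1)) :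
    ∃ ψ : Cfsg.SU (m + 4) F 2 →* G, ChainTwo U V m ψ := by
  induction m with
  | zero =>
    obtain ⟨φ, hφ⟩ := hpair 0 (by omega)
    obtain ⟨φ', hφ'⟩ := hpair 1 (by omega)
    obtain ⟨g, hg⟩ := hwin 0 le_rfl
    exact chain_two_base hF hφ hφ' (hUU 0 2 le_rfl le_rfl) g hg
  | succ m ih =>
    obtain ⟨ψ, hψ⟩ := ih (fun i j h1 h2 => hUU i j h1 (by omega))
      (fun i j h1 h2 => hVU i j h1 (by omega)) (fun i j h1 h2 => hUV i j h1 (by omega))
      (fun i j h1 h2 => hVV i j h1 (by omega)) (fun i hi => hpair i (by omega))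
      (fun i hi => hwin i (by omega))
    obtain ⟨φ', hφ'⟩ := hpair (m + 2) le_rfl
    obtain ⟨g, hg⟩ := hwin (m + 1) le_rfl
    exact chain_two_step hF hψ hφ' (hUU (m + 1) (m + 3) le_rfl le_rfl)
      (fun i hi => hVU i (m + 3) (by omega) le_rfl) (fun i hi => hVV i (m + 2) (by omega) le_rfl)
      (hUV 0 (m + 2) (by omega) le_rfl) g hg

end Cfsg.Agent.Phan
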